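import Cfsg.Agent.Fusion.Balance.Local

/-!
Realizing, inside the local group at the top of a framed position, the automorphisms fixing `X`
whose restriction lies in the normal subsystem.
-/

set_option autoImplicit false
set_option linter.style.haveILetI false
set_option linter.unusedSectionVars false

open Cfsg Cfsg.FusionSystem CfsgLib.Fusion CfsgLib.FocCent CfsgLib.NormCent CfsgLib.NormExt
open CfsgLib.Meet

namespace CfsgLib.Balance

universe u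

variable {Ω : Type u} [Group Ω] {S T P X Q : Subgroup Ω} {F : FusionSystem S} {E : FusionSystem T}
  {p : ℕ} {hQ : Q ≤ S}

/-- The properties of the part of the local group belonging to `E`. -/
structure IsKer (L : LocalGroup F p Q hQ) (E : FusionSystem T) (K : Subgroup L.G) : Prop where
  normal : K.Normal
  mem : ∀ s : ↥(normalizerIn S Q), (s : Ω) ∈ T → L.ι s ∈ K
  mem' : ∀ s : ↥(normalizerIn S Q), L.ι s ∈ K → (s : Ω) ∈ T
  res : ∀ k ∈ K, L.res k ∈ E.autGroup Q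
  onto : ∀ b ∈ E.autGroup Q, ∃ k ∈ K, L.res k = b
  ker : ∀ k ∈ K, L.res k = 1 → k ∈ img L.ι Q

/-- The elements of `K` centralizing `X` and normalizing `P`. -/
def jSub {L : LocalGroup F p Q hQ} (K : Subgroup L.G) (P X : Subgroup Ω) : Subgroup L.G :=
  K ⊓ Subgroup.centralizer (img L.ι X : Set L.G) ⊓ Subgroup.normalizer (img L.ι P : Set L.G)

/-- The element acts on the image of `P` as the automorphism. -/
def Acts (L : LocalGroup F p Q hQ) (hP : P ≤ normalizerIn S Q) (g : L.G) (a : MulAut P) : Prop :=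
  ∀ y : P, g * L.ι ⟨y, hP y.2⟩ * g⁻¹ = L.ι ⟨((a y : P) : Ω), hP (a y).2⟩

section

variable {L : LocalGroup F p Q hQ} {hP : P ≤ normalizerIn S Q}

theorem Acts.one : Acts L hP 1 1 := fun y => by
  rw [one_mul, inv_one, mul_one]
  rfl

theorem Acts.mul {g h : L.G} {a b : MulAut P} (h₁ : Acts L hP g a) (h₂ : Acts L hP h b) :
    Acts L hP (g * h) (a * b) := fun y => by
  rw [show g * h * L.ι ⟨y, hP y.2⟩ * (g * h)⁻¹ = g * (h * L.ι ⟨y, hP y.2⟩ * h⁻¹) * g⁻¹ by group,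
    h₂ y, h₁ (b y)]
  rfl

theorem Acts.inv {g : L.G} {a : MulAut P} (h₁ : Acts L hP g a) : Acts L hP g⁻¹ a⁻¹ := fun y => by
  obtain ⟨x, rfl⟩ := a.surjective y
  rw [← h₁ x]
  refine (show g⁻¹ * (g * L.ι ⟨x, hP x.2⟩ * g⁻¹) * g⁻¹⁻¹ = L.ι ⟨x, hP x.2⟩ by group).trans ?_
  exact congrArg L.ι (Subtype.ext (congrArg Subtype.val (MulAut.inv_apply_self _ a x)).symm)

theorem Acts.pow {g : L.G} {a : MulAut P} (h₁ : Acts L hP g a) : ∀ n : ℕ,
    Acts L hP (g ^ n) (a ^ n)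
  | 0 => by rw [pow_zero, pow_zero]; exact Acts.one
  | n + 1 => by rw [pow_succ, pow_succ]; exact (Acts.pow h₁ n).mul h₁

theorem Acts.unique {g : L.G} {a b : MulAut P} (h₁ : Acts L hP g a) (h₂ : Acts L hP g b) : a = b :=
  MulEquiv.ext fun y => Subtype.ext (congrArg Subtype.val (L.inj ((h₁ y).symm.trans (h₂ y))) :)

theorem Acts.eq_one {g : L.G} {a : MulAut P} (h₁ : Acts L hP g a) (hg : g = 1) : a = 1 :=
  h₁.unique (hg ▸ Acts.one)

end

variable [Finite S] [Fact p.Prime] (hS : IsPGroup p S) (hE : E.IsInvariantIn F)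
  (hB : Base S T P (P ⊔ X)) (hfr : Framed F E p P X)
  (L : LocalGroup F p (endN S T P (P ⊔ X)) hfr.fn.1)
  {K : Subgroup L.G} (hK : IsKer L E K)

include hE hB in
theorem upV_le_normIn :
    upV T P (P ⊔ X) (Nat.card S) ≤ normalizerIn S (endN S T P (P ⊔ X)) :=
  fun _ hx => ⟨upV_le_S hE.2.1 hB _ hx, upV_le_normalizer hE.2.1 hB _ hx⟩

include hE hB in
theorem P_le_normIn : P ≤ normalizerIn S (endN S T P (P ⊔ X)) :=
  ((le_sup_left : P ≤ P ⊔ X).trans le_sup_right).trans (upV_le_normIn hE hB)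

include hS hE hB hK in
/-- An automorphism fixing `X` in the relevant group is conjugation by an element of the local
group. -/
theorem exists_realise {η : MulAut ↥(upV T P (P ⊔ X) (Nat.card S))} (hη : η ∈ gammaE F E P X) :
    ∃ g : L.G, (∀ w : upV T P (P ⊔ X) (Nat.card S),
      g * L.ι ⟨w, upV_le_normIn hE hB w.2⟩ * g⁻¹ =
        L.ι ⟨((η w : upV T P (P ⊔ X) (Nat.card S)) : Ω), upV_le_normIn hE hB (η w).2⟩) ∧
      ∃ s, g * L.ι s ∈ K := by
  have hT := hE.2.1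
  have hVN := upV_le_normIn hE hB
  have hVS := upV_le_S hT hB (Nat.card S)
  have hQV : endN S T P (P ⊔ X) ≤ upV T P (P ⊔ X) (Nat.card S) := le_sup_left
  have hQN := hQV.trans hVN
  have hXV : X ≤ upV T P (P ⊔ X) (Nat.card S) := le_sup_right.trans le_sup_right
  obtain ⟨⟨hΓ, hηF⟩, b, hb, hbη⟩ := hη
  have hηX := hΓ.1.1
  obtain ⟨k, hk, hkb⟩ := hK.onto b hb
  have hkX : ∀ x : X, ∃ q : endN S T P (P ⊔ X),
      k * L.ι ⟨x, hVN (hXV x.2)⟩ * k⁻¹ = L.ι (⟨q, hQN q.2⟩ * ⟨x, hVN (hXV x.2)⟩) := by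
    intro x
    set c := L.ι ⟨x, hVN (hXV x.2)⟩ with hc
    have h1 : k * c * k⁻¹ * c⁻¹ ∈ K := by
      rw [show k * c * k⁻¹ * c⁻¹ = k * (c * k⁻¹ * c⁻¹) by group]
      exact mul_mem hk (hK.normal.conj_mem _ (K.inv_mem hk) c)
    have h2 : L.res (k * c * k⁻¹ * c⁻¹) = 1 := by
      refine mul_inv_eq_one.2 ?_ |> fun h => (show L.res (k * c * k⁻¹ * c⁻¹) = _ by
        rw [map_mul, map_mul, map_mul, map_inv, map_inv, hkb]).trans h
      rw [mul_inv_eq_iff_eq_mul]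
      refine MulEquiv.ext fun q => Subtype.ext ?_
      let v : upV T P (P ⊔ X) (Nat.card S) := ⟨x, hXV x.2⟩
      let w : upV T P (P ⊔ X) (Nat.card S) := ⟨q, hQV q.2⟩
      have hv : η v = v := hηX v x.2
      show ((b (L.res c q) : endN S T P (P ⊔ X)) : Ω) = ((L.res c (b q) : endN S T P (P ⊔ X)) : Ω)
      rw [hc, L.res_ι, ← hbη,
        show Subgroup.inclusion hQV (L.res (L.ι ⟨x, hVN (hXV x.2)⟩) q) = v * w * v⁻¹ from
          Subtype.ext (L.res_ι _ q), map_mul, map_mul, map_inv, hv,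
        show ((b q : endN S T P (P ⊔ X)) : Ω) = ((η w : upV T P (P ⊔ X) (Nat.card S)) : Ω) from
          (hbη q).symm]
      rfl
    obtain ⟨q, hq, hqe⟩ := hK.ker _ h1 h2
    refine ⟨⟨q, hq⟩, ?_⟩
    rw [map_mul, hqe, ← hc]
    group
  have hQk : ∀ q : endN S T P (P ⊔ X), k * L.ι ⟨q, hQN q.2⟩ * k⁻¹ ∈ L.ι.range := fun q =>
    ⟨_, (conj_ι_Q L k q).symm⟩
  have hWN : P ⊔ X ≤ normalizerIn S (endN S T P (P ⊔ X)) := le_sup_right.trans hVN
  obtain ⟨φ, hφN, hφ, hφe⟩ := L.hom (upV T P (P ⊔ X) (Nat.card S)) hVN k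
    (conj_range_sup L hQN hWN hQk (conj_range_sup L (le_sup_left.trans hWN) (le_sup_right.trans hWN)
      (fun y => hQk ⟨y, le_upN _ y.2⟩)
      fun x => by obtain ⟨q, hq⟩ := hkX x; exact ⟨_, hq.symm⟩))
  obtain ⟨f, hf, hfe⟩ := Mor.of_mem hφ
  have hfQ : ∀ q : endN S T P (P ⊔ X), f q = ((b q : endN S T P (P ⊔ X)) : Ω) := fun q => by
    have h1 := (hφe ⟨q, hQV q.2⟩).trans (conj_ι_Q L k q)
    rw [hkb] at h1
    exact (hfe ⟨q, hQV q.2⟩).trans (congrArg Subtype.val (L.inj h1))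
  have hfX : ∀ x : X, ∃ q : endN S T P (P ⊔ X), f x = (q : Ω) * x := fun x => by
    obtain ⟨q, hq⟩ := hkX x
    exact ⟨q, (hfe ⟨x, hXV x.2⟩).trans (congrArg Subtype.val (L.inj ((hφe ⟨x, hXV x.2⟩).trans hq)))⟩
  have hfV : ∀ v ∈ upV T P (P ⊔ X) (Nat.card S), f v ∈ upV T P (P ⊔ X) (Nat.card S) := by
    refine mor_sup_le hf le_rfl
      (fun q hq => Subgroup.mem_sup_left (Set.mem_of_eq_of_mem (hfQ ⟨q, hq⟩) (b _).2)) ?_
    refine mor_sup_le hf le_sup_right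
      (fun y hy => Subgroup.mem_sup_left (Set.mem_of_eq_of_mem (hfQ ⟨y, le_upN _ hy⟩) (b _).2))
      fun x hx => ?_
    obtain ⟨q, hq⟩ := hfX ⟨x, hx⟩
    rw [hq]
    exact mul_mem (Subgroup.mem_sup_left q.2) (hXV hx)
  obtain ⟨βk, hβk, hβke⟩ := exists_aut_of_self hf le_rfl hfV
  have hτ : η⁻¹ * βk ∈ fixMod (endN S T P (P ⊔ X)) (upV T P (P ⊔ X) (Nat.card S)) := by
    have hfixQ : ∀ v : upV T P (P ⊔ X) (Nat.card S), (v : Ω) ∈ endN S T P (P ⊔ X) →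
        (η⁻¹ * βk) v = v := fun v hv => by
      have h1 : βk v = η v := Subtype.ext
        ((hβke v).trans ((hfQ ⟨v, hv⟩).trans (hbη ⟨v, hv⟩).symm))
      rw [MulAut.mul_apply, h1, MulAut.inv_apply_self]
    have hst : ∀ v : upV T P (P ⊔ X) (Nat.card S), (v : Ω) ∈ endN S T P (P ⊔ X) →
        (((η⁻¹) v : upV T P (P ⊔ X) (Nat.card S)) : Ω) ∈ endN S T P (P ⊔ X) := fun v hv =>
      ((Subgroup.inv_mem _ hΓ.2) v).2 hv
    refine ⟨hfixQ, disp_of_sup (A := endN S T P (P ⊔ X)) (C := X) ?_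
      (upV_le_normalizer hT hB _) (fun v hv => ?_) fun v hv => ?_⟩
    · refine le_antisymm (sup_le le_sup_left (sup_le ?_ le_sup_right)) (sup_le le_sup_left hXV)
      exact (le_upN (W := P ⊔ X) (Nat.card S)).trans le_sup_left
    · rw [hfixQ v hv, inv_mul_cancel]
      exact one_mem _
    · obtain ⟨q, hq⟩ := hfX ⟨v, hv⟩
      have h1 : βk v = ⟨q, hQV q.2⟩ * v := Subtype.ext ((hβke v).trans hq)
      have h2 : η⁻¹ v = v := by
        conv_lhs => rw [← hηX v hv]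
        exact MulAut.inv_apply_self _ η v
      rw [MulAut.mul_apply, h1, map_mul, h2, Subgroup.coe_mul, ← mul_assoc]
      exact (Subgroup.mem_normalizer_iff''.1 (upV_le_normalizer hT hB _ v.2) _).1
        (hst ⟨q, hQV q.2⟩ q.2)
  obtain ⟨s, hs, hse⟩ := mem_autInducedBy.1
    (hfr.induced _ hτ (mul_mem (Subgroup.inv_mem _ hηF) hβk))
  refine ⟨k * (L.ι ⟨s, hs⟩)⁻¹, fun w => ?_, ⟨s, hs⟩, by rwa [inv_mul_cancel_right]⟩
  obtain ⟨z, rfl⟩ := (η⁻¹ * βk).surjective w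
  have e1 : L.ι ⟨(((η⁻¹ * βk) z : upV T P (P ⊔ X) (Nat.card S)) : Ω), hVN (SetLike.coe_mem _)⟩ =
      L.ι ⟨s, hs⟩ * L.ι ⟨z, hVN z.2⟩ * (L.ι ⟨s, hs⟩)⁻¹ := by
    rw [← map_inv, ← map_mul, ← map_mul]
    exact congrArg L.ι (Subtype.ext (hse z))
  rw [e1, show k * (L.ι ⟨s, hs⟩)⁻¹ *
      (L.ι ⟨s, hs⟩ * L.ι ⟨z, hVN z.2⟩ * (L.ι ⟨s, hs⟩)⁻¹) * (k * (L.ι ⟨s, hs⟩)⁻¹)⁻¹ =
    k * L.ι ⟨z, hVN z.2⟩ * k⁻¹ by group, ← hφe z]
  refine congrArg L.ι (Subtype.ext ?_)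
  show φ z = _
  rw [← hfe, ← hβke, MulAut.mul_apply, MulAut.apply_inv_self]

include hE hB in
/-- An element acting on the top as an automorphism fixing `X` and stabilizing `P` centralizes `X`
and normalizes `P`. -/
theorem realise_norm {η : MulAut ↥(upV T P (P ⊔ X) (Nat.card S))} (hη : η ∈ gammaX F T P X)
    {g : L.G} (hg : ∀ w : upV T P (P ⊔ X) (Nat.card S),
      g * L.ι ⟨w, upV_le_normIn hE hB w.2⟩ * g⁻¹ =
        L.ι ⟨((η w : upV T P (P ⊔ X) (Nat.card S)) : Ω), upV_le_normIn hE hB (η w).2⟩) :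
    g ∈ Subgroup.centralizer (img L.ι X : Set L.G) ∧
      g ∈ Subgroup.normalizer (img L.ι P : Set L.G) := by
  constructor
  · rintro _ ⟨x, hx, rfl⟩
    have h := hg ⟨x, Subgroup.mem_sup_right (Subgroup.mem_sup_right hx)⟩
    rw [show η ⟨(x : Ω), _⟩ = ⟨(x : Ω), Subgroup.mem_sup_right (Subgroup.mem_sup_right hx)⟩ from
      hη.1.1.1 _ hx] at h
    exact (mul_inv_eq_iff_eq_mul.1 h).symm
  · refine mem_normalizer_of_conj_mem (S := (⊤ : Subgroup L.G)) le_top ?_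
    rintro _ ⟨y, hy, rfl⟩
    have hyV : (y : Ω) ∈ upV T P (P ⊔ X) (Nat.card S) :=
      Subgroup.mem_sup_right (Subgroup.mem_sup_left hy)
    rw [hg ⟨y, hyV⟩]
    exact apply_mem_img ((hη.1.1.2 ⟨y, hyV⟩).2 hy)

include hS hE hB hK in
/-- An element of the class of a lift in `E` is realised inside `jSub`. -/
theorem lift_acts {a : MulAut P} (hco : (orderOf a).Coprime p)
    {b : MulAut ↥(endN S T P (P ⊔ X))} {f : Ω → Ω} (hl : Lift F p T P X a b f)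
    (hb : b ∈ E.autGroup (endN S T P (P ⊔ X))) :
    ∃ g ∈ jSub K P X, Acts L (P_le_normIn hE hB) g a := by
  have hT := hE.2.1
  have hVS := upV_le_S hT hB (Nat.card S)
  have hPV : P ≤ upV T P (P ⊔ X) (Nat.card S) := le_sup_left.trans le_sup_right
  obtain ⟨η, hη, hηe⟩ := hl.mor.exists_aut le_rfl hl.im_V
  have hηP : Agree hPV η a := fun y => (hηe _).trans (hl.onP y)
  have hηQ : Agree (le_sup_left : endN S T P (P ⊔ X) ≤ _) η b :=
    fun y => (hηe _).trans (hl.onEnd y)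
  have hΓ : η ∈ gammaX F T P X := ⟨⟨⟨fun v hv => Subtype.ext ((hηe v).trans (hl.fixX v hv)),
    mem_stabX_of_forall hVS hPV fun v hv => hηP.map_mem hv⟩,
    mem_stabX_of_forall hVS le_sup_left fun v hv => hηQ.map_mem hv⟩, hη⟩
  obtain ⟨g, hg, s, hs⟩ := exists_realise hS hE hB hfr L hK ⟨hΓ, b, hb, hηQ⟩
  have hA : Acts L (P_le_normIn hE hB) g a := fun y =>
    (hg ⟨y, hPV y.2⟩).trans (congrArg L.ι (Subtype.ext (hηP y)))
  obtain ⟨n, hn⟩ := IsPGroup.iff_card.1 hS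
  haveI := hK.normal
  have hgK : g ^ p ^ n ∈ K := by
    have h1 : (g : L.G ⧸ K) = ((L.ι s)⁻¹ : L.G) := by
      rw [QuotientGroup.eq_iff_div_mem, div_eq_mul_inv, inv_inv]
      exact hs
    rw [← QuotientGroup.eq_one_iff, QuotientGroup.mk_pow, h1, ← QuotientGroup.mk_pow, inv_pow,
      ← map_pow]
    obtain ⟨k, hk⟩ := (isPGroup_of_le hS (normalizerIn_le_S (S := S) (endN S T P (P ⊔ X)))) s
    have hk' : s ^ p ^ n = 1 := by
      have h2 : (s : Ω) ^ p ^ n = 1 := by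
        have := congrArg Subtype.val (pow_card_eq_one' (x := (⟨s, s.2.1⟩ : S)))
        rwa [hn] at this
      exact Subtype.ext (by simpa using h2)
    rw [hk', map_one, inv_one, QuotientGroup.mk_one]
  obtain ⟨hgX, hgP⟩ := realise_norm hE hB hfr L hΓ hg
  obtain ⟨m, hm⟩ := exists_pow_eq_self_of_coprime (x := a) (n := p ^ n)
    ((Nat.Coprime.pow_right n hco).symm)
  refine ⟨(g ^ p ^ n) ^ m,
    Subgroup.pow_mem _ (show g ^ p ^ n ∈ jSub K P X from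
      ⟨⟨hgK, Subgroup.pow_mem _ hgX _⟩, Subgroup.pow_mem _ hgP _⟩) _, ?_⟩
  have := (hA.pow (p ^ n)).pow m
  rwa [hm] at this

include hS hE hB hK in
/-- An element of `jSub` acting as an automorphism of order prime to `p` gives a lift in `E`. -/
theorem acts_lift {g : L.G} (hg : g ∈ jSub K P X) {a : MulAut P} (hco : (orderOf a).Coprime p)
    (hA : Acts L (P_le_normIn hE hB) g a) :
    ∃ b f, Lift F p T P X a b f ∧ b ∈ E.autGroup (endN S T P (P ⊔ X)) := by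
  have hVN := upV_le_normIn hE hB
  have hQV : endN S T P (P ⊔ X) ≤ upV T P (P ⊔ X) (Nat.card S) := le_sup_left
  have hQN := hQV.trans hVN
  have hXV : X ≤ upV T P (P ⊔ X) (Nat.card S) := le_sup_right.trans le_sup_right
  have hWN : P ⊔ X ≤ normalizerIn S (endN S T P (P ⊔ X)) := le_sup_right.trans hVN
  obtain ⟨m, hm1, hm2⟩ := ConstrainedNormal.exists_pow_coprime p g
  have ha : a ^ m = a := hm2 a hco
    (orderOf_dvd_of_pow_eq_one ((hA.pow _).eq_one (pow_orderOf_eq_one g)))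
  have hA' := hA.pow m
  rw [ha] at hA'
  obtain ⟨⟨hgK, hgX⟩, -⟩ : g ^ m ∈ jSub K P X := Subgroup.pow_mem _ hg m
  have hgx : ∀ x : X, g ^ m * L.ι ⟨x, hVN (hXV x.2)⟩ * (g ^ m)⁻¹ = L.ι ⟨x, hVN (hXV x.2)⟩ :=
    fun x => mul_inv_eq_iff_eq_mul.2 (hgX _ (apply_mem_img x.2)).symm
  have hQk : ∀ q : endN S T P (P ⊔ X), g ^ m * L.ι ⟨q, hQN q.2⟩ * (g ^ m)⁻¹ ∈ L.ι.range := fun q =>
    ⟨_, (conj_ι_Q L (g ^ m) q).symm⟩
  obtain ⟨φ, hφN, hφ, hφe⟩ := L.hom (upV T P (P ⊔ X) (Nat.card S)) hVN (g ^ m)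
    (conj_range_sup L hQN hWN hQk (conj_range_sup L (le_sup_left.trans hWN) (le_sup_right.trans hWN)
      (fun y => hQk ⟨y, le_upN _ y.2⟩) fun x => ⟨_, (hgx x).symm⟩))
  obtain ⟨f, hf, hfe⟩ := Mor.of_mem hφ
  refine ⟨L.res (g ^ m), f, ⟨hf, fun x hx => ?_, fun y => ?_, fun q => ?_, ?_⟩, hK.res _ hgK⟩
  · exact (hfe ⟨x, hXV hx⟩).trans
      (congrArg Subtype.val (L.inj ((hφe ⟨x, hXV hx⟩).trans (hgx ⟨x, hx⟩))))
  · exact (hfe ⟨y, Subgroup.mem_sup_right (Subgroup.mem_sup_left y.2)⟩).trans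
      (congrArg Subtype.val
        (L.inj ((hφe ⟨y, Subgroup.mem_sup_right (Subgroup.mem_sup_left y.2)⟩).trans (hA' y))))
  · exact (hfe ⟨q, hQV q.2⟩).trans
      (congrArg Subtype.val (L.inj ((hφe ⟨q, hQV q.2⟩).trans (conj_ι_Q L (g ^ m) q))))
  · exact Nat.Coprime.coprime_dvd_left (orderOf_map_dvd L.res _) hm1

end CfsgLib.Balance
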