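import Cfsg.Agent.Fusion.Balance.Key

/-!
The family of automorphism groups over `C_T(X)` cut out by a normal subsystem over `T` in the
centralizer system of a fully centralized subgroup `X`.
-/

set_option autoImplicit false
set_option linter.style.haveILetI false
set_option linter.unusedSectionVars false

open Cfsg Cfsg.FusionSystem CfsgLib.Fusion CfsgLib.FocCent CfsgLib.NormCent CfsgLib.NormExt
open CfsgLib.Meet

namespace CfsgLib.Balance

variable {Ω : Type*} [Group Ω] {S T P X : Subgroup Ω} {F : FusionSystem S} {E : FusionSystem T}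
  {p : ℕ}

theorem mem_aut_of_mor {U : Subgroup Ω} {g : Ω → Ω} (hg : Mor F U g) (hPU : P ≤ U) (hU : U ≤ S)
    {a : MulAut P} (ha : ∀ x : P, g x = ((a x : P) : Ω)) : a ∈ F.autGroup P := by
  obtain ⟨φ, hφ, hφe⟩ := hg
  exact (autGroup_carrier (hPU.trans hU)).2
    (restrict_mem_of_eq hφ hPU fun x => (ha x).symm.trans (hφe (Subgroup.inclusion hPU x)).symm)

theorem mor_of_cent (hX : X ≤ S) {U : Subgroup Ω} {f : Ω → Ω}
    (hf : Mor (centSystem F X hX) U f) : ∃ g, Mor F (U ⊔ X) g ∧ (∀ x ∈ U, g x = f x) ∧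
      ∀ x ∈ X, g x = x := by
  obtain ⟨φ, ⟨-, -, -, ψ, hψ, hψe, hψX⟩, hφe⟩ := hf
  obtain ⟨g, hg, hge⟩ := Mor.of_mem hψ
  exact ⟨g, hg, fun x hx => (hge ⟨x, Subgroup.mem_sup_left hx⟩).trans ((hψe ⟨x, hx⟩).trans
    (hφe ⟨x, hx⟩)), fun x hx => (hge ⟨x, Subgroup.mem_sup_right hx⟩).trans (hψX ⟨x, hx⟩)⟩

theorem mor_to_cent (hX : X ≤ S) {U : Subgroup Ω} {f : Ω → Ω} (hU : U ≤ centralizerIn S X)
    (hf : Mor F (U ⊔ X) f) (hfX : ∀ x ∈ X, f x = x) : Mor (centSystem F X hX) U f := by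
  obtain ⟨φ, hφ, hφe⟩ := hf.mono (le_sup_left : U ≤ U ⊔ X)
  obtain ⟨ψ, hψ, hψe⟩ := id hf
  refine ⟨φ, ⟨hφ, hU, fun x => ⟨apply_mem_S hφ x, fun z hz => ?_⟩, ψ, hψ,
    fun x => (hψe _).trans (hφe x).symm, fun x => (hψe _).trans (hfX x x.2)⟩, hφe⟩
  rw [hφe, ← hfX z hz, ← hf.map_mul (Subgroup.mem_sup_right hz) (Subgroup.mem_sup_left x.2),
    ← hf.map_mul (Subgroup.mem_sup_left x.2) (Subgroup.mem_sup_right hz)]
  exact congrArg f ((hU x.2).2 z hz)

theorem stronglyClosed_cent (hX : X ≤ S) (hT : F.StronglyClosed T) :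
    (centSystem F X hX).StronglyClosed (centralizerIn T X) :=
  ⟨fun _ hy => ⟨hT.1 hy.1, hy.2⟩, fun _ hR _ hφ x =>
    ⟨hT.2 _ (fun _ hy => (hR hy).1) _ hφ.1 x, (hφ.2.2.1 x).2⟩⟩

theorem base_cent (hX : X ≤ S) (hT : F.StronglyClosed T) (hP : P ≤ centralizerIn T X) :
    Base S T P (P ⊔ X) := by
  refine ⟨fun _ hy => (hP hy).1, le_sup_left,
    sup_le (fun _ hy => hT.1 (hP hy).1) hX, sup_le Subgroup.le_normalizer fun x hx => ?_⟩
  refine centralizer_le_normalizer' P fun y hy => ?_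
  exact ((hP hy).2 x hx).symm

variable [Finite S] [Fact p.Prime] (hS : IsPGroup p S) (hF : F.IsSaturated p)
  (hXc : F.IsFullyCentralized X)

include hS hF in
theorem pair_of_sc (hT : F.StronglyClosed T)
    (hP : SelfCentralizingIn (centSystem F X hXc.1) (centralizerIn T X) P) :
    Pair F T P (P ⊔ X) := by
  refine ⟨base_cent hXc.1 hT hP.1, fun f hf c hc hcW => ?_⟩
  obtain ⟨X₁, hX₁⟩ := hf.exists_im (le_sup_right : X ≤ P ⊔ X)
  obtain ⟨g, hg, hgX, hg1, -⟩ := (hf.mono le_sup_right).exists_inv hX₁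
  obtain ⟨g', hg', hg'e⟩ := receptive_mor (N := centralizerIn S X₁)
    (receptive_of_fullyCentralized p hS hF hXc) hg hgX fun z hz =>
      ⟨hz.1, centralizer_le_normalizer' X₁ hz.2, 1, S.one_mem, fun x hx => by
        rw [conj_eq_of_mem_centralizerIn hz hx, one_mul, inv_one, mul_one]⟩
  have hfU : ∀ y ∈ P ⊔ X, f y ∈ centralizerIn S X₁ ⊔ X₁ := mor_sup_le hf le_rfl
    (fun y hy => Subgroup.mem_sup_left ⟨hf.mem_S (Subgroup.mem_sup_left hy), fun z hz => by
      obtain ⟨x, hx, rfl⟩ := hX₁.surj hz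
      rw [← hf.map_mul (Subgroup.mem_sup_right hx) (Subgroup.mem_sup_left hy),
        ← hf.map_mul (Subgroup.mem_sup_left hy) (Subgroup.mem_sup_right hx)]
      exact congrArg f ((hP.1 hy).2 x hx)⟩)
    fun y hy => Subgroup.mem_sup_right (hX₁.mem hy)
  have hk : Mor F (P ⊔ X) (g' ∘ f) := hf.comp hg' hfU
  have hkX : ∀ x ∈ X, (g' ∘ f) x = x := fun x hx => (hg'e _ (hX₁.mem hx)).trans (hg1 x hx)
  have hPC : P ≤ centralizerIn S X := fun y hy => ⟨hT.1 (hP.1 hy).1, (hP.1 hy).2⟩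
  have hkG := mor_to_cent hXc.1 hPC hk hkX
  obtain ⟨P₂, hP₂⟩ := hkG.exists_im (le_refl P)
  have hcU : c ∈ centralizerIn S X₁ ⊔ X₁ := Subgroup.mem_sup_left
    ⟨hT.1 hc, fun z hz => by
      obtain ⟨x, hx, rfl⟩ := hX₁.surj hz
      exact hcW x (Subgroup.mem_sup_right hx)⟩
  have hcomm : ∀ w ∈ P ⊔ X, g' (f w) * g' c = g' c * g' (f w) := fun w hw => by
    rw [← hg'.map_mul (hfU w hw) hcU, hcW w hw, hg'.map_mul hcU (hfU w hw)]
  have h1 : g' c ∈ centralizerIn (centralizerIn T X) P₂ := by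
    refine ⟨⟨mor_apply_mem hT hg' hcU hc, fun x hx => ?_⟩, fun y hy => ?_⟩
    · have := hcomm x (Subgroup.mem_sup_right hx)
      rwa [show g' (f x) = x from hkX x hx] at this
    · obtain ⟨x, hx, rfl⟩ := hP₂.surj hy
      exact hcomm x (Subgroup.mem_sup_left hx)
  obtain ⟨x, hx, hxe⟩ := hP₂.surj (hP.2 P₂ (hkG.isConj le_rfl hP₂) h1)
  exact ⟨x, hx, hg'.inj (hfU x (Subgroup.mem_sup_left hx)) hcU hxe⟩

/-- The family. -/
def balFam (F : FusionSystem S) (E : FusionSystem T) (p : ℕ) (X : Subgroup Ω) (hX : X ≤ S)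
    (P : Subgroup Ω) : Subgroup (MulAut P) :=
  Subgroup.closure ({a | InA F E p P X a} ∪
    trans (centSystem F X hX) (centralizerIn T X) P)

variable (hE : E.IsNormalIn F p)

include hS hF hE in
theorem balFam_le {P : Subgroup Ω}
    (hP : SelfCentralizingIn (centSystem F X hXc.1) (centralizerIn T X) P) :
    balFam F E p X hXc.1 P ≤ (centSystem F X hXc.1).autGroup P := by
  have hT := hE.1.2.2.2.1
  have hPC : P ≤ centralizerIn S X := fun y hy => ⟨hT.1 (hP.1 hy).1, (hP.1 hy).2⟩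
  haveI : Finite (centralizerIn S X) := finite_of_le (centralizerIn_le_S X)
  refine (Subgroup.closure_le _).2 ?_
  rintro a (ha | ⟨P', e, r, c, he, hr, hc, rfl⟩)
  · obtain ⟨g, hg, hgX, hga⟩ := ha.exists_mor
    exact mem_aut_of_mor (mor_to_cent hXc.1 hPC hg hgX) le_rfl hPC hga
  · exact he.congr_mem (autInducedBy_le_autGroup he.le_left
      (mem_autInducedBy.2 ⟨r, ⟨hT.1 hr.1.1, hr.1.2⟩, hc⟩))

include hS hF hE in
theorem balFam_le_E {P : Subgroup Ω}
    (hP : SelfCentralizingIn (centSystem F X hXc.1) (centralizerIn T X) P) :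
    balFam F E p X hXc.1 P ≤ E.autGroup P := by
  have hinv := hE.1.2.2
  refine (Subgroup.closure_le _).2 ?_
  rintro a (ha | ⟨P', e, r, c, he, hr, hc, rfl⟩)
  · exact ha.mem_E hinv.2.1 hinv (base_cent hXc.1 hinv.2.1 hP.1)
  · have heF : IsoIn F e := he.1
    have hP'T : P' ≤ T := fun y hy =>
      ((hP.of_isConj (stronglyClosed_cent hXc.1 hinv.2.1) he.symm.isConj).1 hy).1
    exact autGroup_equiv hinv hP'T heF
      (autInducedBy_le_autGroup hP'T (mem_autInducedBy.2 ⟨r, hr.1.1, hc⟩))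

theorem balFam_equiv {P Q : Subgroup Ω} (hX : X ≤ S) {e : P ≃* Q}
    (he : IsoIn (centSystem F X hX) e) {a : MulAut P} (ha : a ∈ balFam F E p X hX P) :
    MulAut.congr e a ∈ balFam F E p X hX Q := by
  suffices h : balFam F E p X hX P ≤
      (balFam F E p X hX Q).comap (MulAut.congr e).toMonoidHom from h ha
  refine (Subgroup.closure_le _).2 ?_
  rintro b (hb | ⟨P', e', r, c, he', hr, hc, rfl⟩)
  · obtain ⟨f, hf, hfi, hfe⟩ := he.exists_mor
    obtain ⟨g, hg, hge, hgX⟩ := mor_of_cent hX hf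
    exact Subgroup.subset_closure (Or.inl (hb.of_iso hg (hfi.congr hge)
      ((im_id X).congr hgX) fun x => ((hge x x.2).trans (hfe x)).symm))
  · exact Subgroup.subset_closure
      (Or.inr ⟨P', e'.trans e, r, c, he'.trans he, hr, hc, congr_congr _ _ _⟩)

theorem inn_le_balFam {P : Subgroup Ω} (hX : X ≤ S) (hP : P ≤ centralizerIn S X) :
    autInducedBy (centralizerIn T X) P ≤ balFam F E p X hX P := fun a ha => by
  haveI : Finite (centralizerIn S X) := finite_of_le (centralizerIn_le_S X)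
  obtain ⟨r, hr, hc⟩ := mem_autInducedBy.1 ha
  exact Subgroup.subset_closure (Or.inr (conj_mem_trans hP hr hc))

end CfsgLib.Balance
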