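import Cfsg.Agent.Fusion.Balance.Family

/-!
A large position at which the top is fully normalized and the automorphisms fixing `X` have their
`p`-elements induced by conjugation.
-/

set_option autoImplicit false
set_option linter.style.haveILetI false
set_option linter.unusedSectionVars false

open Cfsg Cfsg.FusionSystem CfsgLib.Fusion CfsgLib.FocCent CfsgLib.NormCent CfsgLib.NormExt
open CfsgLib.Meet

namespace CfsgLib.Balance

variable {Ω : Type*} [Group Ω] {S T P X : Subgroup Ω} {F : FusionSystem S} {E : FusionSystem T}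
  {p : ℕ}

/-- The automorphisms of `V` whose restriction to `Q` lies in `E`. -/
def liftE (E : FusionSystem T) {V Q : Subgroup Ω} (h : Q ≤ V) : Subgroup (MulAut V) where
  carrier := {α | ∃ b ∈ E.autGroup Q, Agree h α b}
  one_mem' := ⟨1, one_mem _, Agree.one⟩
  mul_mem' := fun ⟨b, hb, h₁⟩ ⟨c, hc, h₂⟩ => ⟨b * c, mul_mem hb hc, h₁.mul h₂⟩
  inv_mem' := fun ⟨b, hb, h₁⟩ => ⟨b⁻¹, Subgroup.inv_mem _ hb, h₁.inv⟩

/-- The automorphisms of the top fixing `X` and stabilizing `P` and the subgroup of the climb. -/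
noncomputable def gammaX (F : FusionSystem S) (T P X : Subgroup Ω) :
    Subgroup (MulAut ↥(upV T P (P ⊔ X) (Nat.card S))) :=
  fixAut X _ ⊓ stabX _ P ⊓ stabX _ (endN S T P (P ⊔ X)) ⊓ F.autGroup _

/-- Those among them whose restriction lies in `E`. -/
noncomputable def gammaE (F : FusionSystem S) (E : FusionSystem T) (P X : Subgroup Ω) :
    Subgroup (MulAut ↥(upV T P (P ⊔ X) (Nat.card S))) :=
  gammaX F T P X ⊓ liftE E (le_sup_left : endN S T P (P ⊔ X) ≤ _)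

theorem congr_stabX {V V' A A' U : Subgroup Ω} {f : Ω → Ω} (hf : Mor F U f) (hVU : V ≤ U)
    (hAV : A ≤ V) (hi : Im f A A') {e : V ≃* V'} (he : ∀ v : V, ((e v : V') : Ω) = f v)
    {α : MulAut V} (hα : α ∈ stabX V A) : MulAut.congr e α ∈ stabX V' A' := by
  have key : ∀ v : V, ((e v : V') : Ω) ∈ A' ↔ (v : Ω) ∈ A := fun v => by
    rw [he]
    refine ⟨fun h => ?_, fun h => hi.mem h⟩
    obtain ⟨z, hz, hze⟩ := hi.surj h
    exact hf.inj (hVU (hAV hz)) (hVU v.2) hze ▸ hz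
  intro y
  obtain ⟨x, rfl⟩ := e.surjective y
  rw [congr_apply_apply, key, key]
  exact hα x

variable [Finite S]

theorem mem_stabX_of_forall {V A : Subgroup Ω} (hV : V ≤ S) (hAV : A ≤ V) {α : MulAut V}
    (h : ∀ v : V, (v : Ω) ∈ A → ((α v : V) : Ω) ∈ A) : α ∈ stabX V A := by
  haveI : Finite A := finite_of_le (hAV.trans hV)
  obtain ⟨a, ha⟩ := exists_agree hAV α h
  refine fun v => ⟨fun hv => ?_, fun hv => h v hv⟩
  obtain ⟨x, hx⟩ := a.surjective ⟨_, hv⟩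
  have e : α (Subgroup.inclusion hAV x) = α v :=
    Subtype.ext ((ha x).trans (congrArg Subtype.val hx))
  rw [← α.injective e]
  exact x.2

theorem mor_norm {Q U : Subgroup Ω} (hQ : Q ≤ S) {f : Ω → Ω} (hf : Mor F U f) (hQU : Q ≤ U)
    (hU : U ≤ normalizerIn S Q) (hi : Im f Q Q) : Mor (normSystem F Q hQ) U f := by
  obtain ⟨φ, hφ, hφe⟩ := id hf
  refine ⟨φ, ⟨hφ, hU, fun x => ?_, φ.comp (Subgroup.inclusion (sup_le le_rfl hQU)),
    restrict_mem hφ _, fun x => apply_congr φ rfl, ?_⟩, hφe⟩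
  · rw [hφe]
    exact hf.mem_normalizerIn hQU hi x.2 (hU x.2).2
  · ext y
    rw [mem_map_subgroupOf]
    constructor
    · rintro ⟨x, hx, hxQ, rfl⟩
      show φ _ ∈ Q
      rw [hφe]
      exact hi.mem hxQ
    · intro hy
      obtain ⟨x, hx, rfl⟩ := hi.surj hy
      exact ⟨x, Subgroup.mem_sup_right hx, hx, hφe _⟩

theorem mor_of_norm {Q U : Subgroup Ω} (hQ : Q ≤ S) {f : Ω → Ω} (hQU : Q ≤ U)
    (hf : Mor (normSystem F Q hQ) U f) : Mor F U f ∧ Im f Q Q := by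
  obtain ⟨φ, ⟨hφ, -, -, ψ, -, hψe, hψm⟩, hφe⟩ := hf
  refine ⟨⟨φ, hφ, hφe⟩, fun y => ⟨fun hy => ?_, ?_⟩⟩
  · obtain ⟨x, hx, hxQ, rfl⟩ := mem_map_subgroupOf.1 (hψm.ge hy)
    exact ⟨x, hxQ, ((hψe ⟨x, hQU hxQ⟩).trans (hφe _)).symm⟩
  · rintro ⟨x, hx, rfl⟩
    exact hψm.le (mem_map_subgroupOf.2
      ⟨x, Subgroup.mem_sup_right hx, hx, (hψe ⟨x, hQU hx⟩).trans (hφe _)⟩)

theorem mem_norm_aut {Q V : Subgroup Ω} (hQ : Q ≤ S) (hQV : Q ≤ V) (hV : V ≤ normalizerIn S Q)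
    {α : MulAut V} (hα : α ∈ F.autGroup V) (hst : α ∈ stabX V Q) :
    α ∈ (normSystem F Q hQ).autGroup V := by
  obtain ⟨f, hf, -, hfe⟩ := exists_mor_of_aut (hV.trans (normalizerIn_le_S Q)) hα
  exact mem_aut_of_mor (mor_norm hQ hf hQV hV (Meet.im_self hf hQV fun x hx =>
    Set.mem_of_eq_of_mem (hfe ⟨x, hQV hx⟩) ((hst _).2 hx))) le_rfl hV hfe

theorem gammaX_conj_gammaE (hT : F.StronglyClosed T) (hE : E.IsInvariantIn F)
    (hB : Base S T P (P ⊔ X)) {g β : MulAut ↥(upV T P (P ⊔ X) (Nat.card S))}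
    (hg : g ∈ gammaX F T P X) (hβ : β ∈ gammaE F E P X) : g * β * g⁻¹ ∈ gammaE F E P X := by
  have hVS := upV_le_S hT hB (Nat.card S)
  haveI : Finite ↥(endN S T P (P ⊔ X)) := finite_of_le (le_sup_left.trans hVS)
  refine ⟨mul_mem (mul_mem hg hβ.1) (Subgroup.inv_mem _ hg), ?_⟩
  obtain ⟨b, hb, hbe⟩ := hβ.2
  obtain ⟨c, hc⟩ := exists_agree (le_sup_left : endN S T P (P ⊔ X) ≤ _) g
    fun v hv => (hg.1.2 v).2 hv
  refine ⟨MulAut.congr c b, autGroup_equiv hE (upN_le hB.PT _)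
    (isoIn_of_aut (le_sup_left.trans hVS) (hc.mem hVS hg.2)) hb, ?_⟩
  rw [congr_eq_conj]
  exact (hc.mul hbe).mul hc.inv

variable [Fact p.Prime] (hS : IsPGroup p S) (hF : F.IsSaturated p)

/-- The properties of the position used below. -/
structure Framed (F : FusionSystem S) (E : FusionSystem T) (p : ℕ) (P X : Subgroup Ω) : Prop where
  fn : F.IsFullyNormalized (endN S T P (P ⊔ X))
  receptive : (normSystem F (endN S T P (P ⊔ X)) fn.1).IsReceptive (upV T P (P ⊔ X) (Nat.card S))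
  induced : ∀ τ ∈ fixMod (endN S T P (P ⊔ X)) (upV T P (P ⊔ X) (Nat.card S)),
    τ ∈ F.autGroup (upV T P (P ⊔ X) (Nat.card S)) →
      τ ∈ autInducedBy (normalizerIn S (endN S T P (P ⊔ X))) _
  sylow : ∀ β ∈ gammaE F E P X, (∃ k : ℕ, β ^ p ^ k = 1) →
    ∃ η ∈ gammaE F E P X, η * β * η⁻¹ ∈ autInducedBy (normalizerIn S (endN S T P (P ⊔ X))) _

include hS hF in
/-- Such a position exists. -/
theorem exists_framed (hE : E.IsInvariantIn F) (hB : Base S T P (P ⊔ X)) :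
    ∃ (θ : Ω → Ω) (P' X' : Subgroup Ω), Reach F T P X P' X' θ ∧ Framed F E p P' X' := by
  classical
  have hT := hE.2.1
  obtain ⟨θ₀, P₀, X₀, hR₀, -⟩ := exists_reach hS hF hT hB (N := ⊥) bot_le bot_le bot_le
  have hB₀ := hB.reach hT hR₀
  -- the top becomes fully normalized
  obtain ⟨Q₁, f, hQ₁, hf, hfQ⟩ := exists_mor_normalizer hS hF
    (hB₀.upN_le_S hT (Nat.card S) : endN S T P₀ (P₀ ⊔ X₀) ≤ S)
  have hU₀ : upV T P₀ (P₀ ⊔ X₀) (Nat.card S) ≤ normalizerIn S (endN S T P₀ (P₀ ⊔ X₀)) :=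
    fun x hx => ⟨upV_le_S hT hB₀ _ hx, upV_le_normalizer hT hB₀ _ hx⟩
  have hW₀ : P₀ ⊔ X₀ ≤ normalizerIn S (endN S T P₀ (P₀ ⊔ X₀)) := le_sup_right.trans hU₀
  obtain ⟨P₁, hP₁⟩ := hf.exists_im (le_sup_left.trans hW₀)
  obtain ⟨X₁, hX₁⟩ := hf.exists_im (le_sup_right.trans hW₀)
  have hW₁ := im_sup hf hW₀ hP₁ hX₁
  obtain ⟨hG₁, hi₁⟩ := goodN_image hT hB₀ hR₀.good hf hU₀ hP₁ hW₁
  obtain rfl := hfQ.unique hi₁
  have hB₁ := hB₀.image hT hf hW₀ hP₁ hW₁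
  let Q := endN S T P₁ (P₁ ⊔ X₁)
  let V := upV T P₁ (P₁ ⊔ X₁) (Nat.card S)
  have hVN : V ≤ normalizerIn S Q :=
    fun x hx => ⟨upV_le_S hT hB₁ _ hx, upV_le_normalizer hT hB₁ _ hx⟩
  have hVS : V ≤ S := upV_le_S hT hB₁ _
  have hQV : Q ≤ V := le_sup_left
  haveI : Finite V := finite_of_le hVS
  haveI : Finite (MulAut V) := finite_mulAut
  -- the Sylow subgroup
  let ME : Subgroup (gammaX F T P₁ X₁) := (gammaE F E P₁ X₁).subgroupOf (gammaX F T P₁ X₁)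
  haveI : ME.Normal := ⟨fun n hn g => gammaX_conj_gammaE hT hE hB₁ g.2 hn⟩
  let Syl : Sylow p (gammaX F T P₁ X₁) := default
  obtain ⟨SE, hSE⟩ := exists_sylow_inf ME Syl
  let A₁ : Subgroup (MulAut V) := fixMod Q V ⊓ F.autGroup V
  let K : Subgroup (MulAut V) := (Syl : Subgroup (gammaX F T P₁ X₁)).map (gammaX F T P₁ X₁).subtype
  have hKΓ : K ≤ gammaX F T P₁ X₁ := Subgroup.map_subtype_le _
  have hKA : K ≤ Subgroup.normalizer (A₁ : Set (MulAut V)) := fun κ hκ =>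
    mem_normalizer_of_conj_mem (S := (⊤ : Subgroup (MulAut V))) le_top fun m hm =>
      ⟨fixMod_conj (fun w hw => ((hKΓ hκ).1.2 w).2 hw)
        (fun w hw => ((Subgroup.inv_mem _ (hKΓ hκ)).1.2 w).2 hw) hm.1,
        mul_mem (mul_mem (hKΓ hκ).2 hm.2) (Subgroup.inv_mem _ (hKΓ hκ).2)⟩
  let N := normSystem F Q hQ₁.1
  haveI : Finite ↥(normalizerIn S Q) := finite_of_le (normalizerIn_le_S Q)
  have hNp : IsPGroup p ↥(normalizerIn S Q) := isPGroup_of_le hS (normalizerIn_le_S Q)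
  have hNs : N.IsSaturated p :=
    normalizerSystem_saturated p hS hF hQ₁ (normSystem_spec F Q hQ₁.1)
  have hAN : ∀ τ ∈ A₁, τ ∈ N.autGroup V := fun τ hτ =>
    mem_norm_aut hQ₁.1 hQV hVN hτ.2 (mem_stabX_of_forall hVS hQV fun v hv => by
      rw [hτ.1.1 v hv]; exact hv)
  obtain ⟨V₂, e, hV₂, he, hPi⟩ := exists_tw (F := N) hNp hNs hVN (Pi := A₁ ⊔ K)
    (((isPGroup_fixMod hS hQV hVS).to_le inf_le_left).to_sup_of_normal_left' (Syl.2.map _) hKA)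
    (sup_le hAN fun κ hκ => mem_norm_aut hQ₁.1 hQV hVN (hKΓ hκ).2 (hKΓ hκ).1.2)
  obtain ⟨k, hkN, hkV, hke⟩ := he.exists_mor
  obtain ⟨hk, hkQ⟩ := mor_of_norm hQ₁.1 hQV hkN
  obtain ⟨P₂, hP₂⟩ := hk.exists_im ((le_sup_left : P₁ ≤ P₁ ⊔ X₁).trans le_sup_right)
  obtain ⟨X₂, hX₂⟩ := hk.exists_im ((le_sup_right : X₁ ≤ P₁ ⊔ X₁).trans le_sup_right)
  have hW₂ := im_sup hk le_sup_right hP₂ hX₂
  obtain ⟨hG₂, hi₂⟩ := goodN_image hT hB₁ hG₁ hk le_rfl hP₂ hW₂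
  have hQe : endN S T P₂ (P₂ ⊔ X₂) = Q := hi₂.unique hkQ
  obtain rfl : V₂ = upV T P₂ (P₂ ⊔ X₂) (Nat.card S) := hkV.unique (im_sup hk le_rfl hi₂ hW₂)
  have hθm : ∀ x ∈ P ⊔ X, f (θ₀ x) ∈ V :=
    fun x hx => Subgroup.mem_sup_right (hW₁.mem (hR₀.imW.mem hx))
  refine ⟨k ∘ f ∘ θ₀, P₂, X₂, ⟨(hR₀.mor.comp hf fun x hx => hW₀ (hR₀.imW.mem hx)).comp hk hθm,
    (hR₀.imP.comp hP₁).comp hP₂, (hR₀.imX.comp hX₁).comp hX₂, hG₂⟩, ?_⟩
  have heΩ : ∀ v : V, ((e v : upV T P₂ (P₂ ⊔ X₂) (Nat.card S)) : Ω) = k v :=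
    fun v => (hke v).symm
  have hkVV : Im k V (upV T P₂ (P₂ ⊔ X₂) (Nat.card S)) := hkV
  obtain ⟨ki, hki, hkiV, hki1, -⟩ := hk.exists_inv hkVV
  have heSymm : ∀ y : upV T P₂ (P₂ ⊔ X₂) (Nat.card S), ((e.symm y : V) : Ω) = ki y := fun y => by
    obtain ⟨x, rfl⟩ := e.surjective y
    rw [e.symm_apply_apply, heΩ, hki1 x x.2]
  have hback : ∀ {A A' : Subgroup Ω}, A ≤ V → Im k A A' → Im ki A' A := fun {A A'} hA h y => by
    constructor
    · exact fun hy => ⟨k y, h.mem hy, hki1 y (hA hy)⟩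
    · rintro ⟨z, hz, rfl⟩
      obtain ⟨x, hx, rfl⟩ := h.surj hz
      rw [hki1 x (hA hx)]
      exact hx
  have heF : IsoIn F e := he.1
  refine ⟨hQe ▸ hQ₁, ?_, fun τ hτ hτF => ?_, fun β hβ hp => ?_⟩
  · have hr := (good_of_fullyNormalized p hNp hNs hV₂).2
    revert hr
    simp only [N]
    generalize_proofs h₁ h₂
    revert h₁ h₂
    rw [hQe]
    exact fun _ _ h => h
  · rw [hQe, ← congr_congr_symm e τ]
    refine hPi _ (Subgroup.mem_sup_left ⟨?_, heF.symm.congr_mem hτF⟩)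
    exact congr_fixMod hki le_rfl le_sup_left (hback hQV hi₂) heSymm hτ
  · have hX₁V : X₁ ≤ V := le_sup_right.trans le_sup_right
    have hP₁V : P₁ ≤ V := le_sup_left.trans le_sup_right
    have hX₂V : X₂ ≤ upV T P₂ (P₂ ⊔ X₂) (Nat.card S) := le_sup_right.trans le_sup_right
    have hP₂V : P₂ ≤ upV T P₂ (P₂ ⊔ X₂) (Nat.card S) := le_sup_left.trans le_sup_right
    have hfwd : ∀ η ∈ gammaE F E P₁ X₁, MulAut.congr e η ∈ gammaE F E P₂ X₂ := by
      intro η hη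
      refine ⟨⟨⟨⟨fun y hy => ?_, congr_stabX hk le_rfl hP₁V hP₂ heΩ hη.1.1.1.2⟩,
        congr_stabX hk le_rfl hQV hi₂ heΩ hη.1.1.2⟩, heF.congr_mem hη.1.2⟩, ?_⟩
      · obtain ⟨x, rfl⟩ := e.surjective y
        rw [congr_apply_apply]
        refine congrArg e (hη.1.1.1.1 x ?_)
        obtain ⟨z, hz, hze⟩ := hX₂.surj hy
        rw [heΩ] at hze
        exact hk.inj (hX₁V hz) x.2 hze ▸ hz
      · obtain ⟨b, hb, hbe⟩ := hη.2
        obtain ⟨eQ, heQ, heQe⟩ := exists_isoIn hk hQV hi₂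
        exact ⟨MulAut.congr eQ b, autGroup_equiv hE (upN_le hB₁.PT _) heQ hb,
          agree_congr le_sup_left (fun x => (heΩ _).trans (heQe x).symm) hbe⟩
    have hβ₁ : MulAut.congr e.symm β ∈ gammaE F E P₁ X₁ := by
      refine ⟨⟨⟨⟨fun x hx => ?_, congr_stabX hki le_rfl hP₂V (hback hP₁V hP₂) heSymm hβ.1.1.1.2⟩,
        congr_stabX hki le_rfl le_sup_left (hback hQV hi₂) heSymm hβ.1.1.2⟩,
        heF.symm.congr_mem hβ.1.2⟩, ?_⟩
      · obtain ⟨y, rfl⟩ := e.symm.surjective x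
        rw [congr_apply_apply]
        refine congrArg e.symm (hβ.1.1.1.1 y ?_)
        obtain ⟨z, hz, hze⟩ := (hback hX₁V hX₂).surj hx
        rw [heSymm] at hze
        exact hki.inj (hX₂V hz) y.2 hze ▸ hz
      · obtain ⟨b, hb, hbe⟩ := hβ.2
        obtain ⟨eQ, heQ, heQe⟩ := exists_isoIn hki le_sup_left (hback hQV hi₂)
        exact ⟨MulAut.congr eQ b,
          autGroup_equiv hE ((upN_le (hB₁.image hT hk le_sup_right hP₂ hW₂).PT _)) heQ hb,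
          agree_congr hQV (fun x => (heSymm _).trans (heQe x).symm) hbe⟩
    obtain ⟨n, hn⟩ := hp
    let b : ME := ⟨⟨_, hβ₁.1⟩, hβ₁⟩
    have hbp : b ^ p ^ n = 1 := by
      refine Subtype.ext (Subtype.ext ?_)
      show MulAut.congr e.symm β ^ p ^ n = 1
      rw [← map_pow, hn, map_one]
    obtain ⟨SB, hSB⟩ := (isPGroup_zpowers hbp).exists_le_sylow
    obtain ⟨c, hc⟩ := MulAction.exists_smul_eq ME SB SE
    have hm : c * b * c⁻¹ ∈ (SE : Subgroup ME) := by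
      rw [← hc, Sylow.coe_subgroup_smul]
      exact ⟨b, hSB (Subgroup.mem_zpowers b), rfl⟩
    rw [hSE, Subgroup.mem_subgroupOf] at hm
    refine ⟨MulAut.congr e ((c : gammaX F T P₁ X₁) : MulAut V), hfwd _ c.2, ?_⟩
    rw [hQe]
    have h := hPi _ (Subgroup.mem_sup_right ⟨_, hm, rfl⟩)
    have e1 : MulAut.congr e (((c * b * c⁻¹ : ME) : gammaX F T P₁ X₁) : MulAut V) =
        MulAut.congr e ((c : gammaX F T P₁ X₁) : MulAut V) * β *
          (MulAut.congr e ((c : gammaX F T P₁ X₁) : MulAut V))⁻¹ := by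
      show MulAut.congr e (((c : gammaX F T P₁ X₁) : MulAut V) * MulAut.congr e.symm β *
        ((c : gammaX F T P₁ X₁) : MulAut V)⁻¹) = _
      rw [map_mul, map_mul, map_inv, congr_congr_symm]
    exact e1 ▸ h

end CfsgLib.Balance
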