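import Cfsg.Agent.Fusion.Balance.Position

/-!
Positions at which the climb is as large as possible: isomorphisms between them extend to the top,
every position can be moved to one, and the top contains its centralizer in `T` up to conjugacy.
-/

set_option autoImplicit false
set_option linter.style.haveILetI false
set_option linter.unusedSectionVars false

open Cfsg Cfsg.FusionSystem CfsgLib.Fusion CfsgLib.FocCent CfsgLib.NormCent CfsgLib.NormExt
open CfsgLib.Meet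

namespace CfsgLib.Balance

variable {Ω : Type*} [Group Ω] {S T P W : Subgroup Ω} {F : FusionSystem S} {p : ℕ}

/-- The climb is as large as possible up to the given level. -/
def GoodN (F : FusionSystem S) (T : Subgroup Ω) : ℕ → Subgroup Ω → Subgroup Ω → Prop
  | 0, _, _ => True
  | i + 1, P, W => GoodN F T i P W ∧ ∀ (P' W' : Subgroup Ω) (f : Ω → Ω), Mor F W f → Im f P P' →
      Im f W W' → GoodN F T i P' W' →
        Nat.card (upN T P' W' (i + 1)) ≤ Nat.card (upN T P W (i + 1))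

/-- A position at which the climb is as large as possible. -/
abbrev GoodPos (F : FusionSystem S) (T P W : Subgroup Ω) : Prop := GoodN F T (Nat.card S) P W

variable [Finite S]

theorem Base.upN_le_S (hT : F.StronglyClosed T) (hB : Base S T P W) (i : ℕ) :
    upN T P W i ≤ S := (upN_le hB.PT i).trans hT.1

theorem goodN_image (hT : F.StronglyClosed T) (hB : Base S T P W) :
    ∀ {i : ℕ}, GoodN F T i P W → ∀ {U P' W' : Subgroup Ω} {f : Ω → Ω}, Mor F U f →
      upV T P W i ≤ U → Im f P P' → Im f W W' →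
      GoodN F T i P' W' ∧ Im f (upN T P W i) (upN T P' W' i) := by
  intro i
  induction i with
  | zero => exact fun _ _ _ _ _ _ _ hP _ => ⟨trivial, hP⟩
  | succ i ih =>
    intro hG U P' W' f hf hU hP hW
    have hWU : W ≤ U := le_sup_right.trans hU
    have hB' := hB.image hT hf hWU hP hW
    obtain ⟨hG', hi⟩ := ih hG.1 hf ((upV_mono i.le_succ).trans hU) hP hW
    have hm := map_up hT hf hU hi hW
    have hle := card_le_of_mor hf (le_sup_left.trans hU) (hB'.upN_le_S hT (i + 1)) hm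
    have hmax : ∀ (P₂ W₂ : Subgroup Ω) (g : Ω → Ω), Mor F W' g → Im g P' P₂ → Im g W' W₂ →
        GoodN F T i P₂ W₂ → Nat.card (upN T P₂ W₂ (i + 1)) ≤ Nat.card (upN T P W (i + 1)) :=
      fun P₂ W₂ g hg hgP hgW h2 => hG.2 P₂ W₂ (g ∘ f)
        ((hf.mono hWU).comp hg fun x hx => hW.mem hx) (hP.comp hgP) (hW.comp hgW) h2
    exact ⟨⟨hG', fun P₂ W₂ g hg hgP hgW h2 => (hmax P₂ W₂ g hg hgP hgW h2).trans hle⟩,
      im_of_card hf (le_sup_left.trans hU) (hB'.upN_le_S hT (i + 1)) hm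
        (hmax P' W' id (Mor.id_mor hB'.WS) (im_id _) (im_id _) hG')⟩

theorem congr_fixMod {V V' B B' : Subgroup Ω} {U : Subgroup Ω} {f : Ω → Ω} (hf : Mor F U f)
    (hVU : V ≤ U) (hBV : B ≤ V) (hi : Im f B B') {e : V ≃* V'}
    (he : ∀ v : V, ((e v : V') : Ω) = f v) {α : MulAut V} (hα : α ∈ fixMod B V) :
    MulAut.congr e α ∈ fixMod B' V' := by
  refine ⟨fun y hy => ?_, fun y => ?_⟩
  · obtain ⟨x, rfl⟩ := e.surjective y
    obtain ⟨z, hz, hze⟩ := hi.surj hy
    rw [he] at hze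
    rw [congr_apply_apply, hα.1 x (hf.inj (hVU (hBV hz)) (hVU x.2) hze ▸ hz)]
  · obtain ⟨x, rfl⟩ := e.surjective y
    rw [congr_apply_apply, he, he, ← hf.map_inv (hVU x.2), ← hf.map_mul (hVU (inv_mem x.2))
      (hVU (α x).2)]
    exact hi.mem (hα.2 x)

variable [Fact p.Prime] (hS : IsPGroup p S) (hF : F.IsSaturated p) (hT : F.StronglyClosed T)

include hS hF hT in
/-- An isomorphism between large positions extends to the top. -/
theorem exists_extN : ∀ (i : ℕ) {P W P' W' : Subgroup Ω}, Base S T P W → GoodN F T i P W →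
    GoodN F T i P' W' → ∀ {f : Ω → Ω}, Mor F W f → Im f P P' → Im f W W' →
      ∃ f', Mor F (upV T P W i) f' ∧ (∀ x ∈ W, f' x = f x) ∧
        Im f' (upN T P W i) (upN T P' W' i) ∧ Im f' (upV T P W i) (upV T P' W' i) := by
  intro i
  induction i with
  | zero =>
    intro P W P' W' hB _ _ f hf hP hW
    have hle : upV T P W 0 ≤ W := sup_le hB.PW le_rfl
    exact ⟨f, hf.mono hle, fun _ _ => rfl, hP, im_sup (hf.mono hle) le_rfl hP hW⟩
  | succ i ih =>
    intro P W P' W' hB hG hG' f hf hP hW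
    have hB' := hB.image hT hf le_rfl hP hW
    obtain ⟨f₀, hf₀, hf₀e, hf₀N, hf₀V⟩ := ih hB hG.1 hG'.1 hf hP hW
    have hVS := upV_le_S hT hB i
    have hVS' := upV_le_S hT hB' i
    obtain ⟨e₀, he₀, he₀e⟩ := exists_isoIn hf₀ le_rfl hf₀V
    obtain ⟨V0, e, hV0, he, hTr⟩ := exists_tw hS hF hVS'
      (Pi := fixMod (upN T P' W' i) (upV T P' W' i) ⊓ F.autGroup (upV T P' W' i))
      ((isPGroup_fixMod hS le_sup_left hVS').to_le inf_le_left) inf_le_right
    have hrec := (good_of_fullyNormalized p hS hF hV0).2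
    obtain ⟨g₂, hg₂, hg₂V, hg₂e⟩ := exists_ext_of_conj hrec he
      (N := trC T (upN T P' W' i) W') fun g hg => by
        obtain ⟨α, hα, hαF, hαe⟩ := exists_conj_trC hT hB' hg
        exact ⟨hT.1 hg.1, α, hαe, hTr α ⟨hα, hαF⟩⟩
    obtain ⟨g₁, hg₁, hg₁V, hg₁e⟩ := exists_ext_of_conj hrec (he₀.trans he)
      (N := trC T (upN T P W i) W) fun g hg => by
        obtain ⟨α, hα, hαF, hαe⟩ := exists_conj_trC hT hB hg
        refine ⟨hT.1 hg.1, α, hαe, ?_⟩
        rw [congr_congr]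
        exact hTr _ ⟨congr_fixMod hf₀ le_rfl le_sup_left hf₀N he₀e hα, he₀.congr_mem hαF⟩
    have hU : ∀ {P W : Subgroup Ω}, upV T P W (i + 1) = trC T (upN T P W i) W ⊔ upV T P W i :=
      fun {P W} => by
        show upN T P W i ⊔ trC T (upN T P W i) W ⊔ W = _
        rw [sup_comm (upN T P W i) (trC T (upN T P W i) W), sup_assoc]
    rw [← hU] at hg₁ hg₂
    have hWU : W ≤ upV T P W (i + 1) := le_sup_right
    have hWU' : W' ≤ upV T P' W' (i + 1) := le_sup_right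
    have hcomp : ∀ x ∈ upV T P W i, g₁ x = g₂ (f₀ x) := fun x hx => by
      rw [hg₁e ⟨x, hx⟩, MulEquiv.trans_apply, ← hg₂e, he₀e]
    obtain ⟨P0, hP0⟩ := hg₂.exists_im (hB'.PW.trans hWU')
    obtain ⟨W0, hW0⟩ := hg₂.exists_im hWU'
    have hB0 := hB'.image hT hg₂ hWU' hP0 hW0
    obtain ⟨hG0, hi0⟩ := goodN_image hT hB' hG'.1 hg₂ (upV_mono i.le_succ) hP0 hW0
    have hP1 : Im g₁ P P0 := (hP.comp hP0).congr fun x hx => by
      rw [hcomp x (Subgroup.mem_sup_right (hB.PW hx)), Function.comp_apply, hf₀e x (hB.PW hx)]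
    have hW1 : Im g₁ W W0 := (hW.comp hW0).congr fun x hx => by
      rw [hcomp x (Subgroup.mem_sup_right hx), Function.comp_apply, hf₀e x hx]
    have hi1 : Im g₁ (upN T P W i) (upN T P0 W0 i) := (hf₀N.comp hi0).congr fun x hx =>
      hcomp x (Subgroup.mem_sup_left hx)
    have hS0 := hB0.upN_le_S hT (i + 1)
    have hN2 := im_of_card hg₂ le_sup_left hS0 (map_up hT hg₂ le_rfl hi0 hW0)
      (hG'.2 P0 W0 g₂ (hg₂.mono hWU') hP0 hW0 hG0)
    have hN1 := im_of_card hg₁ le_sup_left hS0 (map_up hT hg₁ le_rfl hi1 hW1)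
      (hG.2 P0 W0 g₁ (hg₁.mono hWU) hP1 hW1 hG0)
    have hU2 := im_sup hg₂ le_rfl hN2 hW0
    have hU1 := im_sup hg₁ le_rfl hN1 hW1
    obtain ⟨k, hk, hkU, hk1, hk2⟩ := hg₂.exists_inv hU2
    refine ⟨k ∘ g₁, hg₁.comp hk fun x hx => hU1.mem hx, fun x hx => ?_, ?_, hU1.comp hkU⟩
    · show k (g₁ x) = f x
      rw [hcomp x (Subgroup.mem_sup_right hx), hf₀e x hx,
        hk1 _ (hWU' (hW.mem hx))]
    · refine hN1.comp fun y => ⟨fun hy => ⟨g₂ y, hN2.mem hy, hk1 y (Subgroup.mem_sup_left hy)⟩, ?_⟩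
      rintro ⟨z, hz, rfl⟩
      obtain ⟨x, hx, rfl⟩ := hN2.surj hz
      rw [hk1 x (Subgroup.mem_sup_left hx)]
      exact hx

include hS hF hT in
/-- Every position can be moved to a large one, taking normalizing elements along. -/
theorem exists_goodN : ∀ (i : ℕ) {P W N : Subgroup Ω}, Base S T P W → N ≤ S →
    N ≤ Subgroup.normalizer (P : Set Ω) → N ≤ Subgroup.normalizer (W : Set Ω) →
      ∃ (f : Ω → Ω) (P' W' : Subgroup Ω),
        Mor F (N ⊔ W) f ∧ Im f P P' ∧ Im f W W' ∧ GoodN F T i P' W' := by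
  classical
  intro i
  induction i with
  | zero =>
    exact fun {P W N} hB hN _ _ =>
      ⟨id, P, W, Mor.id_mor (sup_le hN hB.WS), im_id _, im_id _, trivial⟩
  | succ i ih =>
    intro P W N hB hN hNP hNW
    obtain ⟨f, P₁, W₁, hf, hP₁, hW₁, hG₁⟩ := ih hB hN hNP hNW
    have hWU : W ≤ N ⊔ W := le_sup_right
    have hB₁ := hB.image hT hf hWU hP₁ hW₁
    have hex : ∃ n, ∃ (P₂ W₂ : Subgroup Ω) (g : Ω → Ω), Mor F W₁ g ∧ Im g P₁ P₂ ∧ Im g W₁ W₂ ∧
        GoodN F T i P₂ W₂ ∧ Nat.card S - Nat.card (upN T P₂ W₂ (i + 1)) = n :=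
      ⟨_, P₁, W₁, id, Mor.id_mor hB₁.WS, im_id _, im_id _, hG₁, rfl⟩
    obtain ⟨P₂, W₂, g, hg, hgP, hgW, hG₂, hn⟩ := Nat.find_spec hex
    have hB₂ := hB₁.image hT hg le_rfl hgP hgW
    have hmax : ∀ (P₃ W₃ : Subgroup Ω) (k : Ω → Ω), Mor F W₁ k → Im k P₁ P₃ → Im k W₁ W₃ →
        GoodN F T i P₃ W₃ →
          Nat.card (upN T P₃ W₃ (i + 1)) ≤ Nat.card (upN T P₂ W₂ (i + 1)) := by
      intro P₃ W₃ k hk hkP hkW h3
      have h1 := Nat.find_min' hex ⟨P₃, W₃, k, hk, hkP, hkW, h3, rfl⟩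
      have h2 := card_le_of_le le_rfl ((hB₁.image hT hk le_rfl hkP hkW).upN_le_S hT (i + 1))
      have h3 := card_le_of_le le_rfl (hB₂.upN_le_S hT (i + 1))
      omega
    obtain ⟨g₀, hg₀, hg₀e, hg₀N, hg₀V⟩ := exists_extN hS hF hT i hB₁ hG₁ hG₂ hg hgP hgW
    obtain ⟨N₁, hN₁⟩ := hf.exists_im (le_sup_left : N ≤ N ⊔ W)
    have hN₁S : N₁ ≤ S := hf.im_le_S le_sup_left hN₁
    have hn₁ : ∀ y ∈ N₁, y ∈ Subgroup.normalizer (P₁ : Set Ω) ∧
        y ∈ Subgroup.normalizer (W₁ : Set Ω) := fun y hy => by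
      obtain ⟨x, hx, rfl⟩ := hN₁.surj hy
      exact ⟨(hf.mem_normalizerIn (hB.PW.trans hWU) hP₁ (Subgroup.mem_sup_left hx) (hNP hx)).2,
        (hf.mem_normalizerIn hWU hW₁ (Subgroup.mem_sup_left hx) (hNW hx)).2⟩
    have hVS₁ := upV_le_S hT hB₁ i
    have hVS₂ := upV_le_S hT hB₂ i
    obtain ⟨e₀, he₀, he₀e⟩ := exists_isoIn hg₀ le_rfl hg₀V
    let B₂ := upN T P₂ W₂ i
    let M := fixMod B₂ (upV T P₂ W₂ i) ⊓ F.autGroup (upV T P₂ W₂ i)
    let K := (autInducedBy N₁ (upV T P₁ W₁ i)).map (MulAut.congr e₀).toMonoidHom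
    have hKF : K ≤ F.autGroup (upV T P₂ W₂ i) := by
      rintro _ ⟨α, hα, rfl⟩
      exact he₀.congr_mem (autInducedBy_le_autGroup hVS₁ (autInducedBy_mono hN₁S _ hα))
    have hstab : ∀ κ ∈ K, ∀ v : upV T P₂ W₂ i, (v : Ω) ∈ B₂ →
        ((κ v : upV T P₂ W₂ i) : Ω) ∈ B₂ := by
      rintro _ ⟨α, hα, rfl⟩ v hv
      obtain ⟨y, hy, hye⟩ := mem_autInducedBy.1 hα
      obtain ⟨x, rfl⟩ := e₀.surjective v
      show ((MulAut.congr e₀ α (e₀ x) : upV T P₂ W₂ i) : Ω) ∈ B₂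
      rw [he₀e] at hv
      obtain ⟨z, hz, hze⟩ := hg₀N.surj hv
      have hxB : (x : Ω) ∈ upN T P₁ W₁ i :=
        hg₀.inj (Subgroup.mem_sup_left hz) x.2 hze ▸ hz
      rw [congr_apply_apply, he₀e, hye]
      exact hg₀N.mem ((Subgroup.mem_normalizer_iff.1
        (mem_normalizer_upN hT hB₁ (hN₁S hy) (hn₁ y hy).1 (hn₁ y hy).2 i) _).1 hxB)
    have hKM : K ≤ Subgroup.normalizer (M : Set (MulAut ↥(upV T P₂ W₂ i))) := by
      haveI : Finite ↥(upV T P₂ W₂ i) := finite_of_le hVS₂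
      haveI : Finite (MulAut ↥(upV T P₂ W₂ i)) := finite_mulAut
      intro κ hκ
      refine mem_normalizer_of_conj_mem (S := (⊤ : Subgroup (MulAut ↥(upV T P₂ W₂ i)))) le_top
        fun m hm => ⟨fixMod_conj (hstab κ hκ) (hstab κ⁻¹ (K.inv_mem hκ)) hm.1,
          mul_mem (mul_mem (hKF hκ) hm.2) ((F.autGroup _).inv_mem (hKF hκ))⟩
    obtain ⟨V0, e, hV0, he, hPi⟩ := exists_tw hS hF hVS₂ (Pi := M ⊔ K)
      (((isPGroup_fixMod hS le_sup_left hVS₂).to_le inf_le_left).to_sup_of_normal_left'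
        ((isPGroup_autInducedBy (isPGroup_of_le hS hN₁S) _).map _) hKM)
      (sup_le inf_le_right hKF)
    have hrec := (good_of_fullyNormalized p hS hF hV0).2
    obtain ⟨g₂, hg₂, -, hg₂e⟩ := exists_ext_of_conj hrec he
      (N := trC T B₂ W₂) fun y hy => by
        obtain ⟨α, hα, hαF, hαe⟩ := exists_conj_trC hT hB₂ hy
        exact ⟨hT.1 hy.1, α, hαe, hPi α (Subgroup.mem_sup_left ⟨hα, hαF⟩)⟩
    obtain ⟨g₁, hg₁, -, hg₁e⟩ := exists_ext_of_conj hrec (he₀.trans he) (N := N₁) fun y hy => by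
      have hyV : y ∈ normalizerIn S (upV T P₁ W₁ i) :=
        ⟨hN₁S hy, mem_normalizer_upV hT hB₁ (hN₁S hy) (hn₁ y hy).1 (hn₁ y hy).2 i⟩
      refine ⟨hN₁S hy, conjAut S _ ⟨y, hyV⟩, fun _ => rfl, ?_⟩
      rw [congr_congr]
      exact hPi _ (Subgroup.mem_sup_right ⟨_, mem_autInducedBy.2 ⟨y, hy, fun _ => rfl⟩, rfl⟩)
    have hcomp : ∀ x ∈ upV T P₁ W₁ i, g₁ x = g₂ (g₀ x) := fun x hx => by
      rw [hg₁e ⟨x, hx⟩, MulEquiv.trans_apply, ← hg₂e, he₀e]
    have hVU₂ : upV T P₂ W₂ i ≤ trC T B₂ W₂ ⊔ upV T P₂ W₂ i := le_sup_right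
    have hW₂U : W₂ ≤ trC T B₂ W₂ ⊔ upV T P₂ W₂ i := le_sup_right.trans hVU₂
    obtain ⟨P0, hP0⟩ := hg₂.exists_im (hB₂.PW.trans hW₂U)
    obtain ⟨W0, hW0⟩ := hg₂.exists_im hW₂U
    have hB0 := hB₂.image hT hg₂ hW₂U hP0 hW0
    obtain ⟨hG0, hi0⟩ := goodN_image hT hB₂ hG₂ hg₂ hVU₂ hP0 hW0
    have hup₂ : upV T P₂ W₂ (i + 1) ≤ trC T B₂ W₂ ⊔ upV T P₂ W₂ i :=
      sup_le (sup_le (le_sup_left.trans hVU₂) le_sup_left) hW₂U
    have hle := card_le_of_mor hg₂ (le_sup_left.trans hup₂) (hB0.upN_le_S hT (i + 1))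
      (map_up hT hg₂ hup₂ hi0 hW0)
    refine ⟨g₁ ∘ f, P0, W0, hf.comp hg₁ (mor_sup_le hf le_rfl
      (fun x hx => Subgroup.mem_sup_left (hN₁.mem hx))
      fun x hx => Subgroup.mem_sup_right (Subgroup.mem_sup_right (hW₁.mem hx))),
      (hP₁.comp (hgP.comp hP0)).congr fun x hx => ?_,
      (hW₁.comp (hgW.comp hW0)).congr fun x hx => ?_, hG0, fun P₃ W₃ k hk hkP hkW h3 => ?_⟩
    · show g₁ (f x) = g₂ (g (f x))
      rw [hcomp _ (Subgroup.mem_sup_right (hB₁.PW (hP₁.mem hx))), hg₀e _ (hB₁.PW (hP₁.mem hx))]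
    · show g₁ (f x) = g₂ (g (f x))
      rw [hcomp _ (Subgroup.mem_sup_right (hW₁.mem hx)), hg₀e _ (hW₁.mem hx)]
    · exact (hmax P₃ W₃ (k ∘ g₂ ∘ g)
        ((hg.comp (hg₂.mono hW₂U) fun x hx => hgW.mem hx).comp hk
          fun x hx => hW0.mem (hgW.mem hx))
        ((hgP.comp hP0).comp hkP) ((hgW.comp hW0).comp hkW) h3).trans hle

omit [Fact p.Prime] in
theorem upN_succ_eq (hT : F.StronglyClosed T) (hB : Base S T P W) :
    upN T P W (Nat.card S + 1) = upN T P W (Nat.card S) := by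
  have key : ∀ i, upN T P W (i + 1) = upN T P W i ∨ i + 1 ≤ Nat.card (upN T P W i) := by
    intro i
    induction i with
    | zero =>
      haveI : Finite (upN T P W 0) := finite_of_le (hB.upN_le_S hT 0)
      exact Or.inr Nat.card_pos
    | succ i ih =>
      by_cases he : upN T P W (i + 1) = upN T P W i
      · left
        show upN T P W (i + 1) ⊔ trC T (upN T P W (i + 1)) W = _
        rw [he]
        exact he
      · refine Or.inr ?_
        have h1 : Nat.card (upN T P W i) < Nat.card (upN T P W (i + 1)) :=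
          card_lt_of_lt (hB.upN_le_S hT (i + 1))
            (lt_of_le_of_ne (upN_succ_le i) fun e => he e.symm)
        have := ih.resolve_left he
        omega
  rcases key (Nat.card S) with h | h
  · exact h
  · exfalso
    have := card_le_of_le le_rfl (hB.upN_le_S hT (Nat.card S))
    omega

include hS in
theorem cent_endN_le (hT : F.StronglyClosed T) (hB : Base S T P W) :
    centralizerIn T (endN S T P W) ≤ endN S T P W := by
  by_contra hne
  have hn := stronglyClosed_normal_in_S hT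
  obtain ⟨a, ha, haB, hx⟩ := exists_growth hS (A := centralizerIn T (endN S T P W))
    (B := endN S T P W) (X := W) ((centralizerIn_le_S _).trans hT.1) hB.WS
    (fun x hx a ha => by
      refine ⟨conj_mem_of_stronglyClosed hT (hB.WS hx) ha.1, fun q hq => ?_⟩
      have hq' : x⁻¹ * q * x ∈ endN S T P W :=
        (Subgroup.mem_normalizer_iff''.1 (hB.le_normalizer_upN hT _ hx) _).1 hq
      calc q * (x * a * x⁻¹) = x * ((x⁻¹ * q * x) * a) * x⁻¹ := by group
        _ = x * (a * (x⁻¹ * q * x)) * x⁻¹ := by rw [ha.2 _ hq']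
        _ = x * a * x⁻¹ * q := by group) hne
  refine haB ((upN_succ_eq hT hB).le ?_)
  exact Subgroup.mem_sup_right ⟨ha.1, fun q hq => ha.2 q hq, hx⟩

include hS hF hT in
/-- The top at a large position contains the centralizers in `T` of all its conjugates. -/
theorem GoodPos.sc (hB : Base S T P W) (hG : GoodPos F T P W) :
    SelfCentralizingIn F T (endN S T P W) := by
  obtain ⟨Q, f, hQ, hf, hfQ⟩ :=
    exists_mor_normalizer hS hF (hB.upN_le_S hT (Nat.card S) : endN S T P W ≤ S)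
  have hU : upV T P W (Nat.card S) ≤ normalizerIn S (endN S T P W) := fun x hx =>
    ⟨upV_le_S hT hB _ hx, upV_le_normalizer hT hB _ hx⟩
  have hWU : W ≤ normalizerIn S (endN S T P W) := le_sup_right.trans hU
  obtain ⟨P', hP'⟩ := hf.exists_im (hB.PW.trans hWU)
  obtain ⟨W', hW'⟩ := hf.exists_im hWU
  have hi := (goodN_image hT hB hG hf hU hP' hW').2
  have hB' := hB.image hT hf hWU hP' hW'
  have hQe : Q = endN S T P' W' := hfQ.unique hi
  have hsc : SelfCentralizingIn F T Q := by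
    refine sc_of_fullyCentralized hS hF hT (hQe ▸ upN_le hB'.PT _)
      (fullyCentralized_of_fullyNormalized p hS hF hQ) ?_
    rw [hQe]
    exact cent_endN_le hS hT hB'
  exact hsc.of_isConj hT (isConj_symm (hf.isConj (le_sup_left.trans hU) hfQ))

omit [Finite S] [Fact p.Prime] in
/-- The climb is trivial above a subgroup containing its centralizer in `T`. -/
theorem upN_eq_self (hc : centralizerIn T P ≤ P) : ∀ i, upN T P W i = P
  | 0 => rfl
  | i + 1 => by
    show upN T P W i ⊔ trC T (upN T P W i) W = P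
    rw [upN_eq_self hc i]
    exact sup_eq_left.2 fun y hy => hc ⟨hy.1, hy.2.1⟩

end CfsgLib.Balance
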