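import Cfsg.Agent.Fusion.Balance.Lift

/-!
The class of an automorphism fixing `X` can be read off along any centric overgroup.
-/

set_option autoImplicit false
set_option linter.style.haveILetI false
set_option linter.unusedSectionVars false

open Cfsg Cfsg.FusionSystem CfsgLib.Fusion CfsgLib.FocCent CfsgLib.NormCent CfsgLib.NormExt
open CfsgLib.Meet

namespace CfsgLib.Balance

variable {Ω : Type*} [Group Ω] {S T P W X : Subgroup Ω} {F : FusionSystem S} {E : FusionSystem T}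
  {p : ℕ}

/-- The elements of `Q` normalizing `P` whose commutators with `X` lie in `P`. -/
def growSub (Q P X : Subgroup Ω) : Subgroup Ω where
  carrier := {y | y ∈ Q ∧ y ∈ Subgroup.normalizer (P : Set Ω) ∧ ∀ x ∈ X, x * y * x⁻¹ * y⁻¹ ∈ P}
  one_mem' := ⟨one_mem Q, one_mem _, fun x _ => by simp⟩
  mul_mem' {y z} hy hz := by
    refine ⟨mul_mem hy.1 hz.1, mul_mem hy.2.1 hz.2.1, fun x hx => ?_⟩
    rw [show x * (y * z) * x⁻¹ * (y * z)⁻¹ =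
      (x * y * x⁻¹ * y⁻¹) * (y * (x * z * x⁻¹ * z⁻¹) * y⁻¹) by group]
    exact mul_mem (hy.2.2 x hx) ((Subgroup.mem_normalizer_iff.1 hy.2.1 _).1 (hz.2.2 x hx))
  inv_mem' {y} hy := by
    refine ⟨inv_mem hy.1, inv_mem hy.2.1, fun x hx => ?_⟩
    rw [show x * y⁻¹ * x⁻¹ * y⁻¹⁻¹ = y⁻¹ * (x * y * x⁻¹ * y⁻¹)⁻¹ * y by group]
    exact (Subgroup.mem_normalizer_iff''.1 hy.2.1 _).1 (P.inv_mem (hy.2.2 x hx))

theorem growSub_normalizes [Finite S] (hB : Base S T P (P ⊔ X)) {Q : Subgroup Ω} {y : Ω}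
    (hy : y ∈ growSub Q P X) (hyS : y ∈ S) :
    y ∈ Subgroup.normalizer ((P ⊔ X : Subgroup Ω) : Set Ω) := by
  refine mem_normalizer_of_conj_mem hB.WS (mor_sup_le (Mor.conj_mor (F := innerFusionSystem S)
    hB.WS hyS) le_rfl (fun z hz => ?_) fun x hx => ?_)
  · exact Subgroup.mem_sup_left ((Subgroup.mem_normalizer_iff.1 hy.2.1 z).1 hz)
  · rw [show y * x * y⁻¹ = (x * y * x⁻¹ * y⁻¹)⁻¹ * x by group]
    exact mul_mem (Subgroup.mem_sup_left (P.inv_mem (hy.2.2 x hx))) (Subgroup.mem_sup_right hx)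

theorem conj_mem_growSub {Q : Subgroup Ω} (hXP : X ≤ Subgroup.normalizer (P : Set Ω))
    (hXQ : X ≤ Subgroup.normalizer (Q : Set Ω)) {x y : Ω} (hx : x ∈ X) (hy : y ∈ growSub Q P X) :
    x * y * x⁻¹ ∈ growSub Q P X := by
  refine ⟨(Subgroup.mem_normalizer_iff.1 (hXQ hx) y).1 hy.1,
    mul_mem (mul_mem (hXP hx) hy.2.1) (inv_mem (hXP hx)), fun z hz => ?_⟩
  rw [show z * (x * y * x⁻¹) * z⁻¹ * (x * y * x⁻¹)⁻¹ =
    x * ((x⁻¹ * z * x) * y * (x⁻¹ * z * x)⁻¹ * y⁻¹) * x⁻¹ by group]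
  exact (Subgroup.mem_normalizer_iff.1 (hXP hx) _).1
    (hy.2.2 _ (mul_mem (mul_mem (inv_mem hx) hz) hx))

theorem diff_mem (hT : F.StronglyClosed T) (hp : Pair F T P W) {U : Subgroup Ω} {g₁ g₂ : Ω → Ω}
    (h₁ : Mor F U g₁) (h₂ : Mor F U g₂) (hWU : W ≤ U) (he : ∀ w ∈ W, g₂ w = g₁ w)
    (hi : Im g₁ W W) {u : Ω} (hu : u ∈ U) (huT : u ∈ T)
    (hun : u ∈ Subgroup.normalizer (W : Set Ω)) : (g₁ u)⁻¹ * g₂ u ∈ P := by
  refine hp.cent_id (mul_mem (T.inv_mem (mor_apply_mem hT h₁ hu huT))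
    (mor_apply_mem hT h₂ hu huT)) fun w hw => ?_
  obtain ⟨x, hx, rfl⟩ := hi.surj hw
  have hux : u * x * u⁻¹ ∈ W := (Subgroup.mem_normalizer_iff.1 hun x).1 hx
  have h := he _ hux
  rw [h₂.map_conj hu (hWU hx), h₁.map_conj hu (hWU hx), he x hx] at h
  calc g₁ x * ((g₁ u)⁻¹ * g₂ u) = (g₁ u)⁻¹ * (g₁ u * g₁ x * (g₁ u)⁻¹) * g₂ u := by group
    _ = (g₁ u)⁻¹ * (g₂ u * g₁ x * (g₂ u)⁻¹) * g₂ u := by rw [h]
    _ = (g₁ u)⁻¹ * g₂ u * g₁ x := by group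

variable [Finite S] [Fact p.Prime] (hS : IsPGroup p S) (hF : F.IsSaturated p)
  (hE : E.IsWeaklyNormalIn F p)

include hS hF hE in
/-- The bottom case: `P` itself contains its centralizer. -/
theorem key_self (hp : Pair F T P (P ⊔ X)) (hP : SelfCentralizingIn F T P) {a : MulAut P}
    (hco : (orderOf a).Coprime p) {g : Ω → Ω} (hg : Mor F (P ⊔ X) g) (hgX : ∀ x ∈ X, g x = x)
    (hga : ∀ x : P, g x = ((a x : P) : Ω)) : a ∈ E.autGroup P ↔ InA F E p P X a := by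
  have hT := hE.2.2.2.1
  have hinv := hE.2.2
  refine ⟨fun ha => ?_, fun h => h.mem_E hT hinv hp.toBase⟩
  obtain ⟨θ, P', X', hR, -⟩ := exists_reach hS hF hT hp.toBase (N := ⊥) bot_le bot_le bot_le
  obtain ⟨e, he', he⟩ := exists_isoIn hR.mor le_sup_left hR.imP
  obtain ⟨t, ht, htW, ht1, -⟩ := hR.mor.exists_inv hR.imW
  have hB' := hp.toBase.reach hT hR
  have hgW : ∀ x ∈ P ⊔ X, g x ∈ P ⊔ X := mor_sup_le hg le_rfl
    (fun x hx => Subgroup.mem_sup_left (Set.mem_of_eq_of_mem (hga ⟨x, hx⟩) (a _).2))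
    fun x hx => Subgroup.mem_sup_right (Set.mem_of_eq_of_mem (hgX x hx) hx)
  obtain ⟨b, f, L⟩ := exists_lift hS hF hT hB' hR.good
    (a := MulAut.congr e a) (by rw [MulEquiv.orderOf_eq]; exact hco) (g := θ ∘ g ∘ t)
    ((ht.comp hg fun x hx => htW.mem hx).comp hR.mor fun x hx => hgW _ (htW.mem hx))
    (fun y hy => by
      obtain ⟨x, hx, rfl⟩ := hR.imX.surj hy
      show θ (g (t (θ x))) = θ x
      rw [ht1 x (Subgroup.mem_sup_right hx), hgX x hx])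
    fun y => by
      obtain ⟨x, rfl⟩ := e.surjective y
      rw [congr_apply_apply, he, he]
      show θ (g (t (θ x))) = θ ((a x : P) : Ω)
      rw [ht1 x (Subgroup.mem_sup_left x.2), hga]
  refine ⟨hco, P', X', θ, e, b, f, hR, he, L, ?_⟩
  have hsc' : SelfCentralizingIn F T P' := hP.of_isConj hT he'.isConj
  have hend : endN S T P' (P' ⊔ X') = P' :=
    upN_eq_self (centralizer_le_of_sc hsc' (hB'.PT.trans hT.1)) _
  refine Agree.mem (h := hend.le) (A := MulAut.congr e a) (fun y => ?_) hB'.PT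
    (autGroup_equiv hinv hp.PT he' ha)
  exact (L.onP ⟨y, hend.le y.2⟩).symm.trans (L.onEnd y)

include hS hF hE in
/-- The class along a centric overgroup. -/
theorem key : ∀ {P X Q : Subgroup Ω}, Pair F T P (P ⊔ X) → ∀ (hPQ : P ≤ Q), Q ≤ T →
    X ≤ Subgroup.normalizer (Q : Set Ω) → SelfCentralizingIn F T Q → ∀ {f : Ω → Ω},
    Mor F (Q ⊔ X) f → (∀ x ∈ X, f x = x) → ∀ {b : MulAut Q}, (∀ y : Q, f y = ((b y : Q) : Ω)) →
    (orderOf b).Coprime p → ∀ {a : MulAut P}, Agree hPQ b a →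
    (b ∈ E.autGroup Q ↔ InA F E p P X a) := by
  classical
  suffices key : ∀ (d : ℕ) (P X Q : Subgroup Ω), Nat.card S - Nat.card P = d →
      Pair F T P (P ⊔ X) → ∀ (hPQ : P ≤ Q), Q ≤ T → X ≤ Subgroup.normalizer (Q : Set Ω) →
      SelfCentralizingIn F T Q → ∀ (f : Ω → Ω), Mor F (Q ⊔ X) f → (∀ x ∈ X, f x = x) →
      ∀ b : MulAut Q, (∀ y : Q, f y = ((b y : Q) : Ω)) → (orderOf b).Coprime p →
      ∀ a : MulAut P, Agree hPQ b a → (b ∈ E.autGroup Q ↔ InA F E p P X a) from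
    fun {P X Q} hp hPQ hQT hXQ hsc {f} hf hfX {b} hfb hco {a} hag =>
      key _ P X Q rfl hp hPQ hQT hXQ hsc f hf hfX b hfb hco a hag
  intro d
  induction d using Nat.strong_induction_on with
  | _ d IH =>
  intro P X Q hd hp hPQ hQT hXQ hsc f hf hfX b hfb hco a hag
  have hT := hE.2.2.2.1
  have hinv := hE.2.2
  have hTS := hT.1
  have hQS := hQT.trans hTS
  have hXW : X ≤ P ⊔ X := le_sup_right
  have hXS : X ≤ S := hXW.trans hp.WS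
  have hXP : X ≤ Subgroup.normalizer (P : Set Ω) := hXW.trans hp.Wn
  have hWQ : P ⊔ X ≤ Q ⊔ X := sup_le_sup_right hPQ X
  have hcoa : (orderOf a).Coprime p := Nat.Coprime.coprime_dvd_left
    (orderOf_dvd_of_pow_eq_one ((hag.pow _).eq_one (pow_orderOf_eq_one b))) hco
  have hga : ∀ x : P, f x = ((a x : P) : Ω) := fun x =>
    (hfb ⟨x, hPQ x.2⟩).trans (hag x)
  rcases hPQ.eq_or_lt with heq | hlt
  · subst heq
    obtain rfl : b = a := MulEquiv.ext fun x => Subtype.ext (hag x)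
    exact key_self hS hF hE hp hsc hco hf hfX hfb
  -- the next subgroup
  set P' := growSub Q P X
  have hPP' : P ≤ P' := fun y hy => ⟨hPQ hy, Subgroup.le_normalizer hy, fun x hx =>
    mul_mem ((Subgroup.mem_normalizer_iff.1 (hXP hx) y).1 hy) (P.inv_mem hy)⟩
  have hP'Q : P' ≤ Q := fun y hy => hy.1
  have hlt' : P < P' := by
    refine lt_of_le_of_ne hPP' fun e => ?_
    obtain ⟨z, hz, hzP, hzx⟩ := exists_growth hS (A := normalizerIn Q P) (B := P) (X := X)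
      ((normalizerIn_le_S P).trans hQS) hXS (fun x hx z hz =>
        ⟨(Subgroup.mem_normalizer_iff.1 (hXQ hx) z).1 hz.1,
          mul_mem (mul_mem (hXP hx) hz.2) (Subgroup.inv_mem _ (hXP hx))⟩)
      fun hle => (lt_normalizerIn p hS hQS hlt).not_ge hle
    exact hzP (e.ge ⟨hz.1, hz.2, hzx⟩)
  have hP'T : P' ≤ T := hP'Q.trans hQT
  have hX' : X ≤ Subgroup.normalizer (P' : Set Ω) := fun x hx =>
    mem_normalizer_of_conj_mem (hP'T.trans hTS) fun y hy => conj_mem_growSub hXP hXQ hx hy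
  have hp' : Pair F T P' (P' ⊔ X) := hp.mono hPP' (sup_le_sup_right hPP' X)
    ⟨hP'T, le_sup_left, sup_le (hP'T.trans hTS) hXS, sup_le Subgroup.le_normalizer hX'⟩
  have hfP : Im f P P := Meet.im_self hf (hPQ.trans le_sup_left) fun x hx =>
    Set.mem_of_eq_of_mem (hga ⟨x, hx⟩) (a _).2
  have hfP' : ∀ y ∈ P', f y ∈ P' := by
    intro y hy
    have hyU : y ∈ Q ⊔ X := Subgroup.mem_sup_left hy.1
    refine ⟨Set.mem_of_eq_of_mem (hfb ⟨y, hy.1⟩) (b _).2,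
      (hf.mem_normalizerIn (hPQ.trans le_sup_left) hfP hyU hy.2.1).2, fun x hx => ?_⟩
    have hxU : x ∈ Q ⊔ X := Subgroup.mem_sup_right hx
    have h1 := hfP.mem (hy.2.2 x hx)
    rwa [hf.map_mul (mul_mem (mul_mem hxU hyU) (inv_mem hxU)) (inv_mem hyU), hf.map_conj hxU hyU,
      hf.map_inv hyU, hfX x hx] at h1
  haveI : Finite P' := finite_of_le (hP'T.trans hTS)
  haveI : Finite (MulAut P') := finite_mulAut
  obtain ⟨a', ha'⟩ := exists_agree hP'Q b fun y hy => by rw [← hfb]; exact hfP' _ hy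
  have hcoa' : (orderOf a').Coprime p := Nat.Coprime.coprime_dvd_left
    (orderOf_dvd_of_pow_eq_one ((ha'.pow _).eq_one (pow_orderOf_eq_one b))) hco
  have hfa' : ∀ y : P', f y = ((a' y : P') : Ω) := fun y => (hfb ⟨y, hP'Q y.2⟩).trans (ha' y)
  have hcard : Nat.card P < Nat.card P' := card_lt_of_lt (hP'T.trans hTS) hlt'
  have hcS : Nat.card P' ≤ Nat.card S := card_le_of_le le_rfl (hP'T.trans hTS)
  rw [IH (Nat.card S - Nat.card P') (by omega) P' X Q rfl hp' hP'Q hQT hXQ hsc f hf hfX b hfb hco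
    a' ha']
  -- a large position taking `P'` along
  have hP'W : P' ≤ Subgroup.normalizer ((P ⊔ X : Subgroup Ω) : Set Ω) := fun y hy =>
    growSub_normalizes hp.toBase hy (hTS (hP'T hy))
  obtain ⟨θ₁, P₁, X₁, hR₁, hθ₁⟩ :=
    exists_reach hS hF hT hp.toBase (hP'T.trans hTS) (fun y hy => hy.2.1) hP'W
  have hp₁ := hp.reach hT hR₁
  have hPU : P ≤ P' ⊔ (P ⊔ X) := le_sup_left.trans le_sup_right
  have hWU : P ⊔ X ≤ P' ⊔ (P ⊔ X) := le_sup_right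
  obtain ⟨P₁', hP₁'⟩ := hθ₁.exists_im (le_sup_left : P' ≤ P' ⊔ (P ⊔ X))
  have hP₁'S : P₁' ≤ S := hθ₁.im_le_S le_sup_left hP₁'
  have hn₁ : ∀ y ∈ P₁', y ∈ Subgroup.normalizer (P₁ : Set Ω) ∧
      y ∈ Subgroup.normalizer ((P₁ ⊔ X₁ : Subgroup Ω) : Set Ω) := fun y hy => by
    obtain ⟨x, hx, rfl⟩ := hP₁'.surj hy
    exact ⟨(hθ₁.mem_normalizerIn hPU hR₁.imP (Subgroup.mem_sup_left hx) hx.2.1).2,
      (hθ₁.mem_normalizerIn hWU hR₁.imW (Subgroup.mem_sup_left hx) (hP'W hx)).2⟩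
  -- the top becomes fully normalized
  set V := upV T P₁ (P₁ ⊔ X₁) (Nat.card S) with hV
  have hVS : V ≤ S := upV_le_S hT hp₁.toBase _
  haveI : Finite V := finite_of_le hVS
  haveI : Finite (MulAut V) := finite_mulAut
  let D : Subgroup (MulAut V) := fixAut (P₁ ⊔ X₁) V ⊓ F.autGroup V
  have hD : IsPGroup p D := fun δ => by
    obtain ⟨k, hk⟩ := pElement_of_fix hS hT hp₁ δ.2.2 δ.2.1
    exact ⟨k, Subtype.ext hk⟩
  have hKD : autInducedBy P₁' V ≤ Subgroup.normalizer (D : Set (MulAut V)) := by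
    intro κ hκ
    obtain ⟨y, hy, hye⟩ := mem_autInducedBy.1 hκ
    have hκF : κ ∈ F.autGroup V := autInducedBy_le_autGroup hVS (autInducedBy_mono hP₁'S _ hκ)
    refine mem_normalizer_of_conj_mem (S := (⊤ : Subgroup (MulAut V))) le_top fun δ hδ =>
      ⟨fixAut_conj (fun v hv => ?_) hδ.1, mul_mem (mul_mem hκF hδ.2) (Subgroup.inv_mem _ hκF)⟩
    have h1 : ((κ (κ⁻¹ v) : V) : Ω) = y * (κ⁻¹ v : V) * y⁻¹ := hye _
    rw [MulAut.apply_inv_self] at h1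
    rw [show (((κ⁻¹ v) : V) : Ω) = y⁻¹ * v * y by rw [h1]; group]
    exact (Subgroup.mem_normalizer_iff''.1 (hn₁ y hy).2 _).1 hv
  obtain ⟨V₂, k₀, hV₂, hk₀, hPi⟩ := exists_tw hS hF hVS (Pi := D ⊔ autInducedBy P₁' V)
    (hD.to_sup_of_normal_left' (isPGroup_autInducedBy (isPGroup_of_le hS hP₁'S) _) hKD)
    (sup_le inf_le_right fun κ hκ => autInducedBy_le_autGroup hVS (autInducedBy_mono hP₁'S _ hκ))
  have hrec := (good_of_fullyNormalized p hS hF hV₂).2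
  obtain ⟨k, hk, hkV, hke⟩ := exists_ext_of_conj hrec hk₀ (N := P₁') fun y hy =>
    ⟨hP₁'S hy, conjAut S V ⟨y, hP₁'S hy,
      mem_normalizer_upV hT hp₁.toBase (hP₁'S hy) (hn₁ y hy).1 (hn₁ y hy).2 _⟩, fun _ => rfl,
      hPi _ (Subgroup.mem_sup_right (mem_autInducedBy.2 ⟨y, hy, fun _ => rfl⟩))⟩
  have hW₁U : P₁ ⊔ X₁ ≤ P₁' ⊔ V := le_sup_right.trans le_sup_right
  obtain ⟨P₂, hP₂⟩ := hk.exists_im ((le_sup_left : P₁ ≤ P₁ ⊔ X₁).trans hW₁U)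
  obtain ⟨X₂, hX₂⟩ := hk.exists_im ((le_sup_right : X₁ ≤ P₁ ⊔ X₁).trans hW₁U)
  have hW₂ := im_sup hk hW₁U hP₂ hX₂
  obtain ⟨hG₂, hi₂⟩ := goodN_image hT hp₁.toBase hR₁.good hk le_sup_right hP₂ hW₂
  obtain rfl : V₂ = upV T P₂ (P₂ ⊔ X₂) (Nat.card S) :=
    hkV.unique (im_sup hk le_sup_right hi₂ hW₂)
  -- the composite move
  let θ := k ∘ θ₁
  have hθm : ∀ x ∈ P' ⊔ (P ⊔ X), θ₁ x ∈ P₁' ⊔ V := mor_sup_le hθ₁ le_rfl
    (fun x hx => Subgroup.mem_sup_left (hP₁'.mem hx))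
    fun x hx => Subgroup.mem_sup_right (Subgroup.mem_sup_right (hR₁.imW.mem hx))
  have hθ : Mor F (P' ⊔ (P ⊔ X)) θ := hθ₁.comp hk hθm
  have hR : Reach F T P X P₂ X₂ θ :=
    ⟨hθ.mono hWU, hR₁.imP.comp hP₂, hR₁.imX.comp hX₂, hG₂⟩
  have hp₂ := hp.reach hT hR
  obtain ⟨P₂', hP₂'⟩ := hθ.exists_im (le_sup_left : P' ≤ P' ⊔ (P ⊔ X))
  have hp₂' : Pair F T P₂' (P₂' ⊔ X₂) := hp'.image hT hθ (sup_le le_sup_left (hXW.trans hWU)) hP₂'
    (im_sup hθ (sup_le le_sup_left (hXW.trans hWU)) hP₂' hR.imX)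
  have hP₂P₂' : P₂ ≤ P₂' := fun y hy => by
    obtain ⟨x, hx, rfl⟩ := hR.imP.surj hy
    exact hP₂'.mem (hPP' hx)
  obtain ⟨e, he', he⟩ := exists_isoIn hR.mor le_sup_left hR.imP
  obtain ⟨e', he'', hee'⟩ := exists_isoIn hθ le_sup_left hP₂'
  -- the transported map
  have hUim : Im θ (P' ⊔ (P ⊔ X)) (P₂' ⊔ (P₂ ⊔ X₂)) := im_sup hθ le_rfl hP₂' hR.imW
  obtain ⟨t, ht, htU, ht1, -⟩ := hθ.exists_inv hUim
  have hfU : ∀ x ∈ P' ⊔ (P ⊔ X), f x ∈ P' ⊔ (P ⊔ X) := mor_sup_le hf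
    (sup_le (hP'Q.trans le_sup_left) hWQ) (fun x hx => Subgroup.mem_sup_left (hfP' x hx))
    (mor_sup_le hf hWQ (fun x hx => Subgroup.mem_sup_right (Subgroup.mem_sup_left (hfP.mem hx)))
      fun x hx => Subgroup.mem_sup_right (Subgroup.mem_sup_right (Set.mem_of_eq_of_mem (hfX x hx) hx)))
  let f₂ := θ ∘ f ∘ t
  have hf₂ : Mor F (P₂' ⊔ (P₂ ⊔ X₂)) f₂ :=
    (ht.comp (hf.mono (sup_le (hP'Q.trans le_sup_left) hWQ)) fun x hx => htU.mem hx).comp hθ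
      fun x hx => hfU _ (htU.mem hx)
  have hf₂e : ∀ x ∈ P' ⊔ (P ⊔ X), f₂ (θ x) = θ (f x) := fun x hx =>
    congrArg (fun z => θ (f z)) (ht1 x hx)
  have hf₂X : ∀ y ∈ X₂, f₂ y = y := fun y hy => by
    obtain ⟨x, hx, rfl⟩ := hR.imX.surj hy
    rw [hf₂e x (hWU (hXW hx)), hfX x hx]
  have hf₂P : ∀ y : P₂, f₂ y = ((MulAut.congr e a y : P₂) : Ω) := fun y => by
    obtain ⟨x, rfl⟩ := e.surjective y
    rw [congr_apply_apply, he, he, hf₂e x (hPU x.2), hga]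
  have hf₂P' : ∀ y : P₂', f₂ y = ((MulAut.congr e' a' y : P₂') : Ω) := fun y => by
    obtain ⟨x, rfl⟩ := e'.surjective y
    rw [congr_apply_apply, hee', hee', hf₂e x (Subgroup.mem_sup_left x.2), hfa']
  obtain ⟨b₀, f₀, L₀⟩ := exists_lift hS hF hT hp₂.toBase hG₂ (a := MulAut.congr e a)
    (by rw [MulEquiv.orderOf_eq]; exact hcoa) (hf₂.mono le_sup_right) hf₂X hf₂P
  have hf₀W : ∀ w ∈ P₂ ⊔ X₂, f₀ w = f₂ w := by
    obtain ⟨ti, hti, -, hti1, -⟩ := L₀.mor.exists_inv L₀.im_V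
    have h := mor_sup_le (A := P₂) (B := X₂) (C := (P₂ ⊔ X₂)) L₀.mor le_sup_right
      (fun x hx => Subgroup.mem_sup_left (Set.mem_of_eq_of_mem (L₀.onP ⟨x, hx⟩) (SetLike.coe_mem _)))
      fun x hx => Subgroup.mem_sup_right (Set.mem_of_eq_of_mem (L₀.fixX x hx) hx)
    obtain ⟨φ, -, hφ⟩ := (L₀.mor.mono (le_sup_right : P₂ ⊔ X₂ ≤ _))
    obtain ⟨ψ, -, hψ⟩ := hf₂.mono (le_sup_right : P₂ ⊔ X₂ ≤ _)
    intro w hw
    have hle : P₂ ⊔ X₂ ≤ (φ.eqLocus ψ).map (P₂ ⊔ X₂).subtype := sup_le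
      (fun x hx => ⟨⟨x, Subgroup.mem_sup_left hx⟩,
        (hφ _).trans ((L₀.onP ⟨x, hx⟩).trans ((hf₂P ⟨x, hx⟩).symm.trans (hψ ⟨x, Subgroup.mem_sup_left hx⟩).symm)), rfl⟩)
      fun x hx => ⟨⟨x, Subgroup.mem_sup_right hx⟩,
        (hφ _).trans ((L₀.fixX x hx).trans ((hf₂X x hx).symm.trans (hψ ⟨x, Subgroup.mem_sup_right hx⟩).symm)), rfl⟩
    obtain ⟨u, hu, rfl⟩ := hle hw
    exact (hφ u).symm.trans ((hu : φ u = ψ u).trans (hψ u))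
  -- extension to `P₂'`
  have hP₂'S : P₂' ≤ S := hp₂'.PT.trans hTS
  have hn₂ : ∀ y ∈ P₂', y ∈ Subgroup.normalizer (P₂ : Set Ω) ∧
      y ∈ Subgroup.normalizer ((P₂ ⊔ X₂ : Subgroup Ω) : Set Ω) := fun y hy => by
    obtain ⟨x, hx, rfl⟩ := hP₂'.surj hy
    exact ⟨(hθ.mem_normalizerIn hPU hR.imP (Subgroup.mem_sup_left hx) hx.2.1).2,
      (hθ.mem_normalizerIn hWU hR.imW (Subgroup.mem_sup_left hx) (hP'W hx)).2⟩
  have hnV : ∀ y ∈ P₂', y ∈ normalizerIn S (upV T P₂ (P₂ ⊔ X₂) (Nat.card S)) := fun y hy =>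
    ⟨hP₂'S hy, mem_normalizer_upV hT hp₂.toBase (hP₂'S hy) (hn₂ y hy).1 (hn₂ y hy).2 _⟩
  have hVS₂ := upV_le_S hT hp₂.toBase (Nat.card S)
  have hW₂V : P₂ ⊔ X₂ ≤ upV T P₂ (P₂ ⊔ X₂) (Nat.card S) := le_sup_right
  obtain ⟨α₀, hα₀, hα₀e⟩ := L₀.mor.exists_aut le_rfl L₀.im_V
  have hfix : ∀ δ ∈ F.autGroup (upV T P₂ (P₂ ⊔ X₂) (Nat.card S)),
      δ ∈ fixAut (P₂ ⊔ X₂) _ → δ ∈ autInducedBy S (upV T P₂ (P₂ ⊔ X₂) (Nat.card S)) := by
    intro δ hδ hδf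
    rw [← congr_congr_symm k₀ δ]
    refine hPi _ (Subgroup.mem_sup_left ⟨fun v hv => ?_, hk₀.symm.congr_mem hδ⟩)
    apply k₀.injective
    rw [← congr_apply_apply, congr_congr_symm]
    exact hδf (k₀ v) (by rw [← hke]; exact hW₂.mem hv)
  obtain ⟨ψ, hψ, -, hψe⟩ := exists_ext_of_conj hrec (isoIn_of_aut hVS₂ hα₀) (N := P₂') fun u hu => by
    have hfu : f₂ u ∈ P₂' := Set.mem_of_eq_of_mem (hf₂P' ⟨u, hu⟩) (SetLike.coe_mem _)
    refine ⟨hP₂'S hu, conjAut S _ ⟨u, hnV u hu⟩, fun _ => rfl, ?_⟩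
    have hc : conjAut S _ ⟨f₂ u, hnV _ hfu⟩ ∈ autInducedBy S (upV T P₂ (P₂ ⊔ X₂) (Nat.card S)) :=
      mem_autInducedBy.2 ⟨f₂ u, hP₂'S hfu, fun _ => rfl⟩
    have hcu : conjAut S _ ⟨u, hnV u hu⟩ ∈ autInducedBy S (upV T P₂ (P₂ ⊔ X₂) (Nat.card S)) :=
      mem_autInducedBy.2 ⟨u, hP₂'S hu, fun _ => rfl⟩
    rw [congr_eq_conj, ← mul_inv_cancel_left (conjAut S _ ⟨f₂ u, hnV _ hfu⟩)
      (α₀ * conjAut S _ ⟨u, hnV u hu⟩ * α₀⁻¹)]
    refine mul_mem hc (hfix _ (mul_mem (inv_mem (autInducedBy_le_autGroup hVS₂ hc))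
      (mul_mem (mul_mem hα₀ (autInducedBy_le_autGroup hVS₂ hcu)) (inv_mem hα₀))) fun v hv => ?_)
    rw [MulAut.mul_apply]
    apply (conjAut S _ ⟨f₂ u, hnV _ hfu⟩).injective
    rw [MulAut.apply_inv_self]
    obtain ⟨w, hw, hwe⟩ := L₀.im_W.surj hv
    obtain rfl : v = α₀ ⟨w, hW₂V hw⟩ := Subtype.ext (hwe.symm.trans (hα₀e ⟨w, hW₂V hw⟩).symm)
    rw [MulAut.mul_apply, MulAut.mul_apply, MulAut.inv_apply_self]
    refine Subtype.ext ?_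
    show ((α₀ ((conjAut S _ ⟨u, hnV u hu⟩) ⟨w, hW₂V hw⟩) :
      upV T P₂ (P₂ ⊔ X₂) (Nat.card S)) : Ω) = f₂ u * (α₀ ⟨w, hW₂V hw⟩ : upV T P₂ _ _) * (f₂ u)⁻¹
    rw [hα₀e, hα₀e]
    show f₀ (u * w * u⁻¹) = f₂ u * f₀ w * (f₂ u)⁻¹
    rw [hf₀W _ ((Subgroup.mem_normalizer_iff.1 (hn₂ u hu).2 w).1 hw), hf₀W w hw,
      hf₂.map_conj (Subgroup.mem_sup_left hu) (Subgroup.mem_sup_right hw)]
  have hψW : ∀ w ∈ P₂ ⊔ X₂, ψ w = f₂ w := fun w hw =>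
    ((hψe ⟨w, hW₂V hw⟩).trans (hα₀e _)).trans (hf₀W w hw)
  have hf₂W : Im f₂ (P₂ ⊔ X₂) (P₂ ⊔ X₂) := L₀.im_W.congr fun w hw => (hf₀W w hw).symm
  have hU₂ : P₂' ⊔ (P₂ ⊔ X₂) ≤ P₂' ⊔ upV T P₂ (P₂ ⊔ X₂) (Nat.card S) := sup_le_sup_left hW₂V _
  have hψP' : ∀ u ∈ P₂', ψ u ∈ P₂' := fun u hu => by
    have h := diff_mem hT hp₂ hf₂ (hψ.mono hU₂) le_sup_right hψW hf₂W (Subgroup.mem_sup_left hu)
      (hp₂'.PT hu) (hn₂ u hu).2
    have h2 := mul_mem (Set.mem_of_eq_of_mem (hf₂P' ⟨u, hu⟩) (SetLike.coe_mem _)) (hP₂P₂' h)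
    rwa [mul_inv_cancel_left] at h2
  -- the route above the top
  let M := endN S T P₂ (P₂ ⊔ X₂) ⊔ P₂'
  have hQ₂M : endN S T P₂ (P₂ ⊔ X₂) ≤ M := le_sup_left
  have hMT : M ≤ T := sup_le (upN_le hp₂.PT _) hp₂'.PT
  have hMS : M ⊔ X₂ ≤ S :=
    sup_le (hMT.trans hTS) ((le_sup_right : X₂ ≤ P₂ ⊔ X₂).trans hp₂.WS)
  have hMU : M ⊔ X₂ ≤ P₂' ⊔ upV T P₂ (P₂ ⊔ X₂) (Nat.card S) :=
    sup_le (sup_le (le_sup_left.trans le_sup_right) le_sup_left)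
      ((le_sup_right : X₂ ≤ P₂ ⊔ X₂).trans (hW₂V.trans le_sup_right))
  have hψX : ∀ x ∈ X₂, ψ x = x := fun x hx =>
    (hψW x (Subgroup.mem_sup_right hx)).trans (hf₂X x hx)
  have hψM : ∀ x ∈ M ⊔ X₂, ψ x ∈ M ⊔ X₂ := by
    refine mor_sup_le hψ hMU (mor_sup_le hψ (le_sup_left.trans hMU)
      (fun x hx => Subgroup.mem_sup_left (Subgroup.mem_sup_left ?_))
      fun x hx => Subgroup.mem_sup_left (Subgroup.mem_sup_right (hψP' x hx)))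
      fun x hx => Subgroup.mem_sup_right (Set.mem_of_eq_of_mem (hψX x hx) hx)
    rw [hψe ⟨x, Subgroup.mem_sup_left hx⟩, hα₀e, L₀.onEnd ⟨x, hx⟩]
    exact SetLike.coe_mem _
  have hψMM : ∀ x ∈ M, ψ x ∈ M := mor_sup_le hψ (le_sup_left.trans hMU)
    (fun x hx => Subgroup.mem_sup_left (by
      rw [hψe ⟨x, Subgroup.mem_sup_left hx⟩, hα₀e, L₀.onEnd ⟨x, hx⟩]
      exact SetLike.coe_mem _))
    fun x hx => Subgroup.mem_sup_right (hψP' x hx)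
  obtain ⟨β, hβ, hβe⟩ := exists_aut_of_self hψ hMU hψM
  haveI : Finite ↥(M ⊔ X₂) := finite_of_le hMS
  haveI : Finite (MulAut ↥(M ⊔ X₂)) := finite_mulAut
  haveI : Finite M := finite_of_le (hMT.trans hTS)
  haveI : Finite P₂' := finite_of_le hP₂'S
  haveI : Finite ↥(endN S T P₂ (P₂ ⊔ X₂)) := finite_of_le (le_sup_left.trans hVS₂)
  obtain ⟨β₁, hβ₁⟩ := exists_agree (le_sup_left : M ≤ M ⊔ X₂) β fun v hv => by
    rw [hβe]; exact hψMM _ hv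
  obtain ⟨β₂, hβ₂⟩ := exists_agree (le_sup_right : P₂' ≤ M) β₁ fun v hv => by
    rw [← hβ₁ v, hβe]; exact hψP' _ hv
  obtain ⟨β₃, hβ₃⟩ := exists_agree hQ₂M β₁ fun v hv => by
    rw [← hβ₁ v, hβe]
    show ψ v ∈ _
    rw [hψe ⟨v, Subgroup.mem_sup_left hv⟩, hα₀e, L₀.onEnd ⟨v, hv⟩]
    exact SetLike.coe_mem _
  obtain ⟨m, hm1, hm2⟩ := ConstrainedNormal.exists_pow_coprime p β
  obtain ⟨g, hg, -, hge⟩ := exists_mor_of_aut hMS (pow_mem hβ m)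
  have hgX₂ : ∀ x ∈ X₂, g x = x := fun x hx => by
    have hh : ∀ n : ℕ, (β ^ n) ⟨x, Subgroup.mem_sup_right hx⟩ = ⟨x, Subgroup.mem_sup_right hx⟩ := by
      intro n
      induction n with
      | zero => rfl
      | succ n ih =>
        rw [pow_succ, MulAut.mul_apply, show β ⟨x, Subgroup.mem_sup_right hx⟩ =
          ⟨x, Subgroup.mem_sup_right hx⟩ from Subtype.ext ((hβe _).trans (hψX x hx)), ih]
    exact (hge ⟨x, Subgroup.mem_sup_right hx⟩).trans (congrArg Subtype.val (hh m))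
  have hcoM : (orderOf (β₁ ^ m)).Coprime p := Nat.Coprime.coprime_dvd_left
    (orderOf_dvd_of_pow_eq_one (((hβ₁.pow m).pow _).eq_one (pow_orderOf_eq_one _))) hm1
  have hcoP' : (orderOf (β₂ ^ m)).Coprime p := Nat.Coprime.coprime_dvd_left
    (orderOf_dvd_of_pow_eq_one (((hβ₂.pow m).pow _).eq_one (pow_orderOf_eq_one _))) hcoM
  have hcoQ : (orderOf (β₃ ^ m)).Coprime p := Nat.Coprime.coprime_dvd_left
    (orderOf_dvd_of_pow_eq_one (((hβ₃.pow m).pow _).eq_one (pow_orderOf_eq_one _))) hcoM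
  have hgM : ∀ y : M, g y = (((β₁ ^ m) y : M) : Ω) := fun y => (hge _).trans (hβ₁.pow m y)
  have hgP' : ∀ y : P₂', g y = (((β₂ ^ m) y : P₂') : Ω) := fun y =>
    (hgM ⟨y, Subgroup.mem_sup_right y.2⟩).trans (hβ₂.pow m y)
  have hP₂M : P₂ ≤ M ⊔ X₂ :=
    ((le_upN (W := P₂ ⊔ X₂) (Nat.card S)).trans hQ₂M).trans le_sup_left
  have hgP : ∀ y : P₂, g y = ((MulAut.congr e a y : P₂) : Ω) := by
    have hag₂ : Agree hP₂M β (MulAut.congr e a) := fun y =>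
      (hβe _).trans ((hψW y (Subgroup.mem_sup_left y.2)).trans (hf₂P y))
    intro y
    refine (hge ⟨y, hP₂M y.2⟩).trans ?_
    have h := hag₂.pow m y
    rwa [hm2 _ (by rw [MulEquiv.orderOf_eq]; exact hcoa)
      (orderOf_dvd_of_pow_eq_one ((hag₂.pow _).eq_one (pow_orderOf_eq_one β)))] at h
  have hQsc := GoodPos.sc hS hF hT hp₂.toBase hG₂
  have hXQ₂ : X₂ ≤ Subgroup.normalizer (endN S T P₂ (P₂ ⊔ X₂) : Set Ω) :=
    (le_sup_right : X₂ ≤ P₂ ⊔ X₂).trans (hp₂.toBase.le_normalizer_upN hT _)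
  have hXP₂' : X₂ ≤ Subgroup.normalizer (P₂' : Set Ω) :=
    (le_sup_right : X₂ ≤ P₂' ⊔ X₂).trans hp₂'.Wn
  have hXM : X₂ ≤ Subgroup.normalizer (M : Set Ω) := fun x hx =>
    mem_normalizer_sup (le_sup_left.trans hVS₂) hP₂'S (hXQ₂ hx) (hXP₂' hx)
  have hcard₂ : Nat.card P₂' = Nat.card P' := hθ.card_im le_sup_left hP₂'
  have hIH := IH (Nat.card S - Nat.card P₂') (by omega) P₂' X₂ M rfl hp₂' le_sup_right hMT hXM
    (hQsc.mono hQ₂M hMT) g hg hgX₂ (β₁ ^ m) hgM hcoM (β₂ ^ m) (hβ₂.pow m)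
  have hL : Lift F p T P₂ X₂ (MulAut.congr e a) (β₃ ^ m) g :=
    ⟨hg.mono (sup_le (hQ₂M.trans le_sup_left)
      (sup_le ((hP₂P₂'.trans le_sup_right).trans le_sup_left) le_sup_right)), hgX₂, hgP,
      fun y => (hgM ⟨y, hQ₂M y.2⟩).trans (hβ₃.pow m y), hcoQ⟩
  have hMQ : (β₁ ^ m) ∈ E.autGroup M ↔ (β₃ ^ m) ∈ E.autGroup (endN S T P₂ (P₂ ⊔ X₂)) :=
    ⟨fun h => (hβ₃.pow m).mem hMT h, fun h => mem_of_centric_restrict hS hE hQsc hQ₂M hMT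
      ((hβ₁.pow m).mem hMS (pow_mem hβ m)) hcoM (hβ₃.pow m) h⟩
  have hAP : (β₃ ^ m) ∈ E.autGroup (endN S T P₂ (P₂ ⊔ X₂)) ↔ InA F E p P X a :=
    ⟨fun h => ⟨hcoa, P₂, X₂, θ, e, _, g, hR, he, hL, h⟩,
      fun h => h.mem hS hF hT hinv hp hR he hL ⟨0, by rw [pow_zero, pow_one, inv_mul_cancel]⟩⟩
  -- the two elements on `P₂'` differ by a `p`-element
  have hg₂ : Mor F (P₂' ⊔ (P₂ ⊔ X₂)) g := hg.mono (sup_le (le_sup_right.trans le_sup_left)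
    (sup_le ((hP₂P₂'.trans le_sup_right).trans le_sup_left) le_sup_right))
  have hgW : ∀ w ∈ P₂ ⊔ X₂, g w = f₂ w := by
    obtain ⟨φ, -, hφ⟩ := hg₂.mono (le_sup_right : P₂ ⊔ X₂ ≤ _)
    obtain ⟨χ, -, hχ⟩ := hf₂.mono (le_sup_right : P₂ ⊔ X₂ ≤ _)
    intro w hw
    have hle : P₂ ⊔ X₂ ≤ (φ.eqLocus χ).map (P₂ ⊔ X₂).subtype := sup_le
      (fun x hx => ⟨⟨x, Subgroup.mem_sup_left hx⟩,
        (hφ _).trans ((hgP ⟨x, hx⟩).trans ((hf₂P ⟨x, hx⟩).symm.trans (hχ ⟨x, Subgroup.mem_sup_left hx⟩).symm)), rfl⟩)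
      fun x hx => ⟨⟨x, Subgroup.mem_sup_right hx⟩,
        (hφ _).trans ((hgX₂ x hx).trans ((hf₂X x hx).symm.trans (hχ ⟨x, Subgroup.mem_sup_right hx⟩).symm)), rfl⟩
    obtain ⟨u, hu, rfl⟩ := hle hw
    exact (hφ u).symm.trans ((hu : φ u = χ u).trans (hχ u))
  have hκ : ∃ n : ℕ, ((MulAut.congr e' a')⁻¹ * β₂ ^ m) ^ p ^ n = 1 := by
    refine exists_pow_eq_one_of_fix hS hP₂P₂' hP₂'S (fun u hu => ?_) fun u => ?_
    · rw [MulAut.mul_apply, show (β₂ ^ m) u = MulAut.congr e' a' u from Subtype.ext ((hgP' u).symm.trans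
        ((hgW u (Subgroup.mem_sup_left hu)).trans (hf₂P' u))), MulAut.inv_apply_self]
    · have h := diff_mem hT hp₂ hf₂ hg₂ le_sup_right hgW hf₂W (Subgroup.mem_sup_left u.2)
        (hp₂'.PT u.2) (hn₂ u u.2).2
      have he₂ : f₂ (((MulAut.congr e' a')⁻¹ * β₂ ^ m) u : P₂') = g u := by
        rw [hf₂P', MulAut.mul_apply, MulAut.apply_inv_self, hgP']
      have hfu : ∀ z ∈ P₂, ∀ w : P₂', f₂ w = z → (w : Ω) ∈ P₂ := fun z hz w hw => by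
        obtain ⟨x, hx⟩ := (MulAut.congr e a).surjective ⟨z, hz⟩
        have hxe : f₂ x = z := (hf₂P x).trans (congrArg Subtype.val hx)
        exact hf₂.inj (Subgroup.mem_sup_left w.2) (Subgroup.mem_sup_right (Subgroup.mem_sup_left x.2))
          (hw.trans hxe.symm) ▸ x.2
      refine hfu _ h (u⁻¹ * ((MulAut.congr e' a')⁻¹ * β₂ ^ m) u) ?_
      rw [Subgroup.coe_mul, InvMemClass.coe_inv,
        hf₂.map_mul (Subgroup.mem_sup_left (inv_mem u.2)) (Subgroup.mem_sup_left (SetLike.coe_mem _)),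
        hf₂.map_inv (Subgroup.mem_sup_left u.2), he₂]
  have hXW' : X₂ ≤ P₂' ⊔ (P₂ ⊔ X₂) := le_sup_right.trans le_sup_right
  have hWW' : P₂' ⊔ X₂ ≤ P₂' ⊔ (P₂ ⊔ X₂) := sup_le le_sup_left hXW'
  obtain ⟨ti, hti, -, hti1, -⟩ := hθ.exists_inv hUim
  constructor
  · intro h
    have h₂ := h.of_iso (hθ.mono (sup_le le_sup_left (hXW.trans hWU))) hP₂' hR.imX hee'
    exact hAP.1 (hMQ.1 (hIH.2 (h₂.congr hS hF hT hinv hp₂' hcoP' (hg₂.mono hWW') hgX₂ hgP' hκ)))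
  · intro h
    obtain ⟨n, hn⟩ := hκ
    have h₂ := (hIH.1 (hMQ.2 (hAP.2 h))).congr hS hF hT hinv hp₂'
      (a' := MulAut.congr e' a') (by rw [MulEquiv.orderOf_eq]; exact hcoa') (hf₂.mono hWW') hf₂X hf₂P'
      ⟨n, by
        rw [show (β₂ ^ m)⁻¹ * MulAut.congr e' a' = ((MulAut.congr e' a')⁻¹ * β₂ ^ m)⁻¹ by group,
          inv_pow, hn, inv_one]⟩
    have h₃ := h₂.of_iso (θ₀ := t) (P₂ := P') (X₂ := X) (e₀ := e'.symm) (ht.mono hWW')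
      (fun y => ⟨fun hy => ⟨θ y, hP₂'.mem hy, ht1 y (Subgroup.mem_sup_left hy)⟩, by
        rintro ⟨z, hz, rfl⟩
        obtain ⟨x, hx, rfl⟩ := hP₂'.surj hz
        rw [ht1 x (Subgroup.mem_sup_left hx)]
        exact hx⟩)
      (fun y => ⟨fun hy => ⟨θ y, hR.imX.mem hy, ht1 y (hWU (hXW hy))⟩, by
        rintro ⟨z, hz, rfl⟩
        obtain ⟨x, hx, rfl⟩ := hR.imX.surj hz
        rw [ht1 x (hWU (hXW hx))]
        exact hx⟩)
      fun y => by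
        obtain ⟨x, rfl⟩ := e'.surjective y
        rw [e'.symm_apply_apply, hee', ht1 x (Subgroup.mem_sup_left x.2)]
    rwa [congr_symm_congr] at h₃

end CfsgLib.Balance
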