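import Cfsg.Agent.Fusion.Balance.Good

/-!
Lifts, at large positions, of automorphisms of order prime to `p` that fix `X`; the automorphisms
whose lift lies in a weakly normal subsystem over `T`.
-/

set_option autoImplicit false
set_option linter.style.haveILetI false
set_option linter.unusedSectionVars false

open Cfsg Cfsg.FusionSystem CfsgLib.Fusion CfsgLib.FocCent CfsgLib.NormCent CfsgLib.NormExt
open CfsgLib.Meet

namespace CfsgLib.Balance

variable {Ω : Type*} [Group Ω] {S T P X : Subgroup Ω} {F : FusionSystem S} {E : FusionSystem T}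
  {p : ℕ}

/-- An automorphism of order prime to `p` of the top lifting `a` and fixing `X`. -/
structure Lift (F : FusionSystem S) (p : ℕ) (T P X : Subgroup Ω) (a : MulAut P)
    (b : MulAut ↥(endN S T P (P ⊔ X))) (f : Ω → Ω) : Prop where
  mor : Mor F (upV T P (P ⊔ X) (Nat.card S)) f
  fixX : ∀ x ∈ X, f x = x
  onP : ∀ x : P, f x = ((a x : P) : Ω)
  onEnd : ∀ y : endN S T P (P ⊔ X), f y = ((b y : endN S T P (P ⊔ X)) : Ω)
  coprime : (orderOf b).Coprime p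

/-- A move of `(P, X)` to a large position. -/
structure Reach (F : FusionSystem S) (T P X P' X' : Subgroup Ω) (θ : Ω → Ω) : Prop where
  mor : Mor F (P ⊔ X) θ
  imP : Im θ P P'
  imX : Im θ X X'
  good : GoodPos F T P' (P' ⊔ X')

/-- The automorphisms of order prime to `p` of `P`, fixing `X`, whose lift at a large position lies
in `E`. -/
def InA (F : FusionSystem S) (E : FusionSystem T) (p : ℕ) (P X : Subgroup Ω) (a : MulAut P) : Prop :=
  (orderOf a).Coprime p ∧ ∃ (P' X' : Subgroup Ω) (θ : Ω → Ω) (e : P ≃* P')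
    (b : MulAut ↥(endN S T P' (P' ⊔ X'))) (f : Ω → Ω), Reach F T P X P' X' θ ∧
      (∀ x : P, ((e x : P') : Ω) = θ x) ∧ Lift F p T P' X' (MulAut.congr e a) b f ∧
      b ∈ E.autGroup (endN S T P' (P' ⊔ X'))

theorem Reach.imW {P' X' : Subgroup Ω} {θ : Ω → Ω} (h : Reach F T P X P' X' θ) :
    Im θ (P ⊔ X) (P' ⊔ X') := im_sup h.mor le_rfl h.imP h.imX

theorem aut_fix_sup {A B V : Subgroup Ω} {d : MulAut V} (hAV : A ≤ V) (hBV : B ≤ V)
    (hA : ∀ v : V, (v : Ω) ∈ A → d v = v) (hB : ∀ v : V, (v : Ω) ∈ B → d v = v) :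
    ∀ v : V, (v : Ω) ∈ A ⊔ B → d v = v := by
  intro v hv
  let D : Subgroup V :=
    { carrier := {v | d v = v}
      one_mem' := map_one d
      mul_mem' := fun {u w} hu hw => by
        show d (u * w) = u * w
        rw [map_mul, hu, hw]
      inv_mem' := fun {u} hu => by
        show d u⁻¹ = u⁻¹
        rw [map_inv, hu] }
  have hle : A ⊔ B ≤ D.map V.subtype :=
    sup_le (fun a ha => ⟨⟨a, hAV ha⟩, hA _ ha, rfl⟩) fun b hb => ⟨⟨b, hBV hb⟩, hB _ hb, rfl⟩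
  obtain ⟨u, hu, e⟩ := hle hv
  exact (show u = v from Subtype.ext e) ▸ hu

variable [Finite S]

theorem Lift.im_W {a : MulAut P} {b : MulAut ↥(endN S T P (P ⊔ X))} {f : Ω → Ω}
    (L : Lift F p T P X a b f) : Im f (P ⊔ X) (P ⊔ X) :=
  Meet.im_self L.mor le_sup_right (mor_sup_le L.mor le_sup_right
    (fun x hx => Subgroup.mem_sup_left (Set.mem_of_eq_of_mem (L.onP ⟨x, hx⟩) (a _).2))
    fun x hx => Subgroup.mem_sup_right (Set.mem_of_eq_of_mem (L.fixX x hx) hx))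

theorem Lift.im_V {a : MulAut P} {b : MulAut ↥(endN S T P (P ⊔ X))} {f : Ω → Ω}
    (L : Lift F p T P X a b f) :
    Im f (upV T P (P ⊔ X) (Nat.card S)) (upV T P (P ⊔ X) (Nat.card S)) :=
  Meet.im_self L.mor le_rfl (mor_sup_le L.mor le_rfl
    (fun x hx => Subgroup.mem_sup_left (Set.mem_of_eq_of_mem (L.onEnd ⟨x, hx⟩) (b _).2))
    fun x hx => Subgroup.mem_sup_right (L.im_W.mem hx))

variable [Fact p.Prime] (hS : IsPGroup p S) (hF : F.IsSaturated p) (hT : F.StronglyClosed T)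

include hS hF hT in
/-- A lift exists at a large position. -/
theorem exists_lift (hB : Base S T P (P ⊔ X)) (hG : GoodPos F T P (P ⊔ X)) {a : MulAut P}
    (hco : (orderOf a).Coprime p) {g : Ω → Ω} (hg : Mor F (P ⊔ X) g) (hgX : ∀ x ∈ X, g x = x)
    (hga : ∀ x : P, g x = ((a x : P) : Ω)) : ∃ b f, Lift F p T P X a b f := by
  have hgP : Im g P P := Meet.im_self hg le_sup_left fun x hx =>
    Set.mem_of_eq_of_mem (hga ⟨x, hx⟩) (a _).2
  have hgW : Im g (P ⊔ X) (P ⊔ X) :=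
    im_sup hg le_rfl hgP ((im_id X).congr fun x hx => hgX x hx)
  obtain ⟨f₀, hf₀, hf₀e, hf₀N, hf₀V⟩ := exists_extN hS hF hT _ hB hG hG hg hgP hgW
  have hVS := upV_le_S hT hB (Nat.card S)
  obtain ⟨α, hα, hαe⟩ := hf₀.exists_aut le_rfl hf₀V
  haveI : Finite ↥(upV T P (P ⊔ X) (Nat.card S)) := finite_of_le hVS
  haveI : Finite (MulAut ↥(upV T P (P ⊔ X) (Nat.card S))) := finite_mulAut
  haveI : Finite ↥(endN S T P (P ⊔ X)) := finite_of_le (le_sup_left.trans hVS)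
  have hPV : P ≤ upV T P (P ⊔ X) (Nat.card S) := le_sup_left.trans le_sup_right
  have hαP : Agree hPV α a := fun x =>
    (hαe _).trans ((hf₀e x (Subgroup.mem_sup_left x.2)).trans (hga x))
  obtain ⟨b₀, hb₀⟩ := exists_agree (le_sup_left : endN S T P (P ⊔ X) ≤ _) α
    fun v hv => by rw [hαe]; exact hf₀N.mem hv
  obtain ⟨e, he1, he2⟩ := ConstrainedNormal.exists_pow_coprime p α
  obtain ⟨f, hf, -, hfe⟩ := exists_mor_of_aut hVS (pow_mem hα e)
  have hfix : ∀ n : ℕ, ∀ v : upV T P (P ⊔ X) (Nat.card S), (v : Ω) ∈ X → (α ^ n) v = v := by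
    intro n
    induction n with
    | zero => intro v _; rfl
    | succ n ih =>
      intro v hv
      have hav : α v = v := Subtype.ext ((hαe v).trans ((hf₀e v (Subgroup.mem_sup_right hv)).trans
        (hgX v hv)))
      rw [pow_succ, MulAut.mul_apply, hav, ih v hv]
  refine ⟨b₀ ^ e, f, hf, fun x hx => ?_, fun x => ?_, fun y => ?_, ?_⟩
  · exact (hfe ⟨x, Subgroup.mem_sup_right (Subgroup.mem_sup_right hx)⟩).trans
      (congrArg Subtype.val (hfix e _ hx))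
  · refine (hfe (Subgroup.inclusion hPV x)).trans ?_
    have h := hαP.pow e x
    rwa [he2 a hco (orderOf_dvd_of_pow_eq_one ((hαP.pow _).eq_one (pow_orderOf_eq_one α)))] at h
  · exact (hfe _).trans (hb₀.pow e y)
  · exact Nat.Coprime.coprime_dvd_left
      (orderOf_dvd_of_pow_eq_one (((hb₀.pow e).pow _).eq_one (pow_orderOf_eq_one _))) he1

include hS hT in
/-- Two lifts differing by a `p`-element lie in `E` together. -/
theorem Lift.rel (hE : E.IsInvariantIn F) (hp : Pair F T P (P ⊔ X)) {a₁ a₂ : MulAut P}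
    {b₁ b₂ : MulAut ↥(endN S T P (P ⊔ X))} {f₁ f₂ : Ω → Ω} (L₁ : Lift F p T P X a₁ b₁ f₁)
    (L₂ : Lift F p T P X a₂ b₂ f₂) (hk : ∃ k : ℕ, (a₁⁻¹ * a₂) ^ p ^ k = 1)
    (hb : b₁ ∈ E.autGroup (endN S T P (P ⊔ X))) : b₂ ∈ E.autGroup (endN S T P (P ⊔ X)) := by
  obtain ⟨α₁, hα₁, hα₁e⟩ := L₁.mor.exists_aut le_rfl L₁.im_V
  obtain ⟨α₂, hα₂, hα₂e⟩ := L₂.mor.exists_aut le_rfl L₂.im_V
  obtain ⟨k, hk⟩ := hk
  have hVS := upV_le_S hT hp.toBase (Nat.card S)
  have hPV : P ≤ upV T P (P ⊔ X) (Nat.card S) := le_sup_left.trans le_sup_right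
  have hXV : X ≤ upV T P (P ⊔ X) (Nat.card S) := le_sup_right.trans le_sup_right
  have hP₁ : Agree hPV α₁ a₁ := fun x => (hα₁e _).trans (L₁.onP x)
  have hP₂ : Agree hPV α₂ a₂ := fun x => (hα₂e _).trans (L₂.onP x)
  have hE₁ : Agree (le_sup_left : endN S T P (P ⊔ X) ≤ _) α₁ b₁ :=
    fun y => (hα₁e _).trans (L₁.onEnd y)
  have hE₂ : Agree (le_sup_left : endN S T P (P ⊔ X) ≤ _) α₂ b₂ :=
    fun y => (hα₂e _).trans (L₂.onEnd y)
  have hdP := (hP₁.inv.mul hP₂).pow (p ^ k)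
  rw [hk] at hdP
  have hdX : ∀ n : ℕ, ∀ v : upV T P (P ⊔ X) (Nat.card S), (v : Ω) ∈ X →
      ((α₁⁻¹ * α₂) ^ n) v = v := by
    intro n
    induction n with
    | zero => intro v _; rfl
    | succ n ih =>
      intro v hv
      have h₁ : α₁ v = v := Subtype.ext ((hα₁e v).trans (L₁.fixX v hv))
      have h₂ : α₂ v = v := Subtype.ext ((hα₂e v).trans (L₂.fixX v hv))
      have h₁' : α₁⁻¹ v = v := by
        conv_lhs => rw [← h₁]
        exact MulAut.inv_apply_self _ _ _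
      rw [pow_succ, MulAut.mul_apply, MulAut.mul_apply, h₂, h₁', ih v hv]
  obtain ⟨l, hl⟩ := pElement_of_fix hS hT hp (pow_mem (mul_mem (inv_mem hα₁) hα₂) (p ^ k))
    (aut_fix_sup hPV hXV (fun v hv => Subtype.ext (hdP ⟨v, hv⟩)) (hdX (p ^ k)))
  have hκ : (b₁⁻¹ * b₂) ^ p ^ (k + l) = 1 :=
    ((hE₁.inv.mul hE₂).pow _).eq_one (by rw [pow_add, pow_mul, hl])
  have h := mem_of_coprime_mul hE (upN_le hp.PT _) hb
    (mul_mem (inv_mem (autGroup_mono' hE.1 _ hb)) (hE₂.mem hVS hα₂)) ⟨_, hκ⟩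
    (by rw [mul_inv_cancel_left]; exact L₂.coprime)
  rwa [mul_inv_cancel_left] at h

include hS hF hT in
/-- Lifts move with isomorphisms between large positions. -/
theorem Lift.transport (hE : E.IsInvariantIn F) (hB : Base S T P (P ⊔ X))
    (hG : GoodPos F T P (P ⊔ X)) {P' X' : Subgroup Ω} (hG' : GoodPos F T P' (P' ⊔ X'))
    {χ : Ω → Ω} (hχ : Mor F (P ⊔ X) χ) (hχP : Im χ P P') (hχX : Im χ X X') {e : P ≃* P'}
    (he : ∀ x : P, ((e x : P') : Ω) = χ x) {a : MulAut P}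
    {b : MulAut ↥(endN S T P (P ⊔ X))} {f : Ω → Ω} (L : Lift F p T P X a b f) :
    ∃ b' f', Lift F p T P' X' (MulAut.congr e a) b' f' ∧
      (b ∈ E.autGroup (endN S T P (P ⊔ X)) → b' ∈ E.autGroup (endN S T P' (P' ⊔ X'))) := by
  obtain ⟨c, hc, hce, hcN, hcV⟩ :=
    exists_extN hS hF hT _ hB hG hG' hχ hχP (im_sup hχ le_rfl hχP hχX)
  obtain ⟨ci, hci, hciV, hci1, -⟩ := hc.exists_inv hcV
  obtain ⟨eE, heE, heEe⟩ := exists_isoIn hc (le_sup_left : endN S T P (P ⊔ X) ≤ _) hcN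
  refine ⟨MulAut.congr eE b, c ∘ f ∘ ci,
    ⟨(hci.comp L.mor fun x hx => hciV.mem hx).comp hc fun x hx => L.im_V.mem (hciV.mem hx),
      fun y hy => ?_, fun y => ?_, fun y => ?_, by rw [MulEquiv.orderOf_eq]; exact L.coprime⟩,
    fun hb => autGroup_equiv hE (upN_le hB.PT _) heE hb⟩
  · obtain ⟨x, hx, rfl⟩ := hχX.surj hy
    have hxW : x ∈ P ⊔ X := Subgroup.mem_sup_right hx
    show c (f (ci (χ x))) = χ x
    rw [← hce x hxW, hci1 x (Subgroup.mem_sup_right hxW), L.fixX x hx]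
  · obtain ⟨x, rfl⟩ := e.surjective y
    have hxW : (x : Ω) ∈ P ⊔ X := Subgroup.mem_sup_left x.2
    rw [congr_apply_apply, he, he]
    show c (f (ci (χ x))) = χ ((a x : P) : Ω)
    rw [← hce x hxW, hci1 x (Subgroup.mem_sup_right hxW), L.onP,
      hce _ (Subgroup.mem_sup_left (a x).2)]
  · obtain ⟨x, rfl⟩ := eE.surjective y
    rw [congr_apply_apply, heEe, heEe]
    show c (f (ci (c x))) = c ((b x : endN S T P (P ⊔ X)) : Ω)
    rw [hci1 x (Subgroup.mem_sup_left x.2), L.onEnd]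

theorem Base.reach (hT : F.StronglyClosed T) {P' X' : Subgroup Ω} {θ : Ω → Ω}
    (hB : Base S T P (P ⊔ X)) (hR : Reach F T P X P' X' θ) : Base S T P' (P' ⊔ X') :=
  hB.image hT hR.mor le_rfl hR.imP hR.imW

theorem Pair.reach (hT : F.StronglyClosed T) {P' X' : Subgroup Ω} {θ : Ω → Ω}
    (hp : Pair F T P (P ⊔ X)) (hR : Reach F T P X P' X' θ) : Pair F T P' (P' ⊔ X') :=
  hp.image hT hR.mor le_rfl hR.imP hR.imW

include hS hF hT in
/-- Moves to large positions exist. -/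
theorem exists_reach (hB : Base S T P (P ⊔ X)) {N : Subgroup Ω} (hN : N ≤ S)
    (hNP : N ≤ Subgroup.normalizer (P : Set Ω))
    (hNW : N ≤ Subgroup.normalizer ((P ⊔ X : Subgroup Ω) : Set Ω)) :
    ∃ (θ : Ω → Ω) (P' X' : Subgroup Ω), Reach F T P X P' X' θ ∧ Mor F (N ⊔ (P ⊔ X)) θ := by
  obtain ⟨θ, P', W', hθ, hP, hW, hG⟩ := exists_goodN hS hF hT (Nat.card S) hB hN hNP hNW
  obtain ⟨X', hX⟩ := hθ.exists_im ((le_sup_right : X ≤ P ⊔ X).trans le_sup_right)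
  have hW' := (im_sup (hθ.mono le_sup_right) le_rfl hP hX).unique hW
  exact ⟨θ, P', X', ⟨hθ.mono le_sup_right, hP, hX, hW'.symm ▸ hG⟩, hθ⟩

include hS hF hT in
theorem InA.mem (hE : E.IsInvariantIn F) (hp : Pair F T P (P ⊔ X)) {a : MulAut P}
    (h : InA F E p P X a) {P' X' : Subgroup Ω} {θ : Ω → Ω} (hR : Reach F T P X P' X' θ)
    {e : P ≃* P'} (he : ∀ x : P, ((e x : P') : Ω) = θ x) {a' : MulAut P}
    {b : MulAut ↥(endN S T P' (P' ⊔ X'))} {f : Ω → Ω}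
    (L : Lift F p T P' X' (MulAut.congr e a') b f) (hk : ∃ k : ℕ, (a⁻¹ * a') ^ p ^ k = 1) :
    b ∈ E.autGroup (endN S T P' (P' ⊔ X')) := by
  obtain ⟨-, P₁, X₁, θ₁, e₁, b₁, f₁, hR₁, he₁, L₁, hb₁⟩ := h
  obtain ⟨t, ht, htW, ht1, -⟩ := hR₁.mor.exists_inv hR₁.imW
  have hχ : Mor F (P₁ ⊔ X₁) (θ ∘ t) := ht.comp hR.mor fun x hx => htW.mem hx
  have hback : ∀ {A A₁ A' : Subgroup Ω}, A ≤ P ⊔ X → Im θ₁ A A₁ → Im θ A A' → Im (θ ∘ t) A₁ A' := by
    intro A A₁ A' hA h₁ h' y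
    rw [h' y]
    constructor
    · rintro ⟨x, hx, rfl⟩
      exact ⟨θ₁ x, h₁.mem hx, congrArg θ (ht1 x (hA hx))⟩
    · rintro ⟨z, hz, rfl⟩
      obtain ⟨x, hx, rfl⟩ := h₁.surj hz
      exact ⟨x, hx, (congrArg θ (ht1 x (hA hx))).symm⟩
  obtain ⟨b₂, f₂, L₂, hb₂⟩ := L₁.transport hS hF hT hE (hp.toBase.reach hT hR₁) hR₁.good hR.good hχ
    (hback le_sup_left hR₁.imP hR.imP) (hback le_sup_right hR₁.imX hR.imX) (e := e₁.symm.trans e)
    fun y => by
      obtain ⟨x, rfl⟩ := e₁.surjective y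
      rw [MulEquiv.trans_apply, e₁.symm_apply_apply, he, he₁, Function.comp_apply,
        ht1 x (Subgroup.mem_sup_left x.2)]
  rw [← congr_congr, show e₁.trans (e₁.symm.trans e) = e from MulEquiv.ext fun x => by simp] at L₂
  obtain ⟨k, hk⟩ := hk
  refine L₂.rel hS hT hE (hp.reach hT hR) L ⟨k, ?_⟩ (hb₂ hb₁)
  rw [← map_inv, ← map_mul, ← map_pow, hk, map_one]

include hS hF hT in
/-- An element of the family changed by a `p`-element stays in it. -/
theorem InA.congr (hE : E.IsInvariantIn F) (hp : Pair F T P (P ⊔ X)) {a a' : MulAut P}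
    (h : InA F E p P X a) (hco : (orderOf a').Coprime p) {g : Ω → Ω} (hg : Mor F (P ⊔ X) g)
    (hgX : ∀ x ∈ X, g x = x) (hga : ∀ x : P, g x = ((a' x : P) : Ω))
    (hk : ∃ k : ℕ, (a⁻¹ * a') ^ p ^ k = 1) : InA F E p P X a' := by
  obtain ⟨θ, P', X', hR, -⟩ := exists_reach hS hF hT hp.toBase (N := ⊥) bot_le bot_le bot_le
  obtain ⟨e, -, he⟩ := exists_isoIn hR.mor le_sup_left hR.imP
  obtain ⟨t, ht, htW, ht1, -⟩ := hR.mor.exists_inv hR.imW
  have hgW : ∀ x ∈ P ⊔ X, g x ∈ P ⊔ X := mor_sup_le hg le_rfl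
    (fun x hx => Subgroup.mem_sup_left (Set.mem_of_eq_of_mem (hga ⟨x, hx⟩) (a' _).2))
    fun x hx => Subgroup.mem_sup_right (Set.mem_of_eq_of_mem (hgX x hx) hx)
  obtain ⟨b, f, L⟩ := exists_lift hS hF hT (hp.toBase.reach hT hR) hR.good
    (a := MulAut.congr e a') (by rw [MulEquiv.orderOf_eq]; exact hco) (g := θ ∘ g ∘ t)
    ((ht.comp hg fun x hx => htW.mem hx).comp hR.mor fun x hx => hgW _ (htW.mem hx))
    (fun y hy => by
      obtain ⟨x, hx, rfl⟩ := hR.imX.surj hy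
      show θ (g (t (θ x))) = θ x
      rw [ht1 x (Subgroup.mem_sup_right hx), hgX x hx])
    fun y => by
      obtain ⟨x, rfl⟩ := e.surjective y
      rw [congr_apply_apply, he, he]
      show θ (g (t (θ x))) = θ ((a' x : P) : Ω)
      rw [ht1 x (Subgroup.mem_sup_left x.2), hga]
  exact ⟨hco, P', X', θ, e, b, f, hR, he, L, h.mem hS hF hT hE hp hR he L hk⟩

omit [Finite S] [Fact p.Prime] in
theorem InA.coprime {a : MulAut P} (h : InA F E p P X a) : (orderOf a).Coprime p := h.1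

theorem InA.exists_mor {a : MulAut P} (h : InA F E p P X a) : ∃ g, Mor F (P ⊔ X) g ∧
    (∀ x ∈ X, g x = x) ∧ ∀ x : P, g x = ((a x : P) : Ω) := by
  obtain ⟨-, P', X', θ, e, b, f, hR, he, L, -⟩ := h
  obtain ⟨t, ht, -, ht1, -⟩ := hR.mor.exists_inv hR.imW
  refine ⟨t ∘ f ∘ θ,
    (hR.mor.comp L.mor fun x hx => Subgroup.mem_sup_right (hR.imW.mem hx)).comp ht
      fun x hx => L.im_W.mem (hR.imW.mem hx), fun x hx => ?_, fun x => ?_⟩
  · show t (f (θ x)) = x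
    rw [L.fixX _ (hR.imX.mem hx), ht1 x (Subgroup.mem_sup_right hx)]
  · show t (f (θ x)) = ((a x : P) : Ω)
    have h1 := L.onP (e x)
    rw [congr_apply_apply, he, he] at h1
    rw [h1, ht1 _ (Subgroup.mem_sup_left (a x).2)]

theorem InA.of_iso {P₂ X₂ : Subgroup Ω} {θ₀ : Ω → Ω} (h₀ : Mor F (P ⊔ X) θ₀) (hP : Im θ₀ P P₂)
    (hX : Im θ₀ X X₂) {e₀ : P ≃* P₂} (he₀ : ∀ x : P, ((e₀ x : P₂) : Ω) = θ₀ x) {a : MulAut P}
    (h : InA F E p P X a) : InA F E p P₂ X₂ (MulAut.congr e₀ a) := by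
  obtain ⟨hco, P', X', θ, e, b, f, hR, he, L, hb⟩ := h
  obtain ⟨t, ht, htW, ht1, -⟩ := h₀.exists_inv (im_sup h₀ le_rfl hP hX)
  have hback : ∀ {A A₁ A' : Subgroup Ω}, A ≤ P ⊔ X → Im θ₀ A A₁ → Im θ A A' → Im (θ ∘ t) A₁ A' := by
    intro A A₁ A' hA h₁ h' y
    rw [h' y]
    constructor
    · rintro ⟨x, hx, rfl⟩
      exact ⟨θ₀ x, h₁.mem hx, congrArg θ (ht1 x (hA hx))⟩
    · rintro ⟨z, hz, rfl⟩
      obtain ⟨x, hx, rfl⟩ := h₁.surj hz
      exact ⟨x, hx, (congrArg θ (ht1 x (hA hx))).symm⟩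
  refine ⟨by rw [MulEquiv.orderOf_eq]; exact hco, P', X', θ ∘ t, e₀.symm.trans e, b, f,
    ⟨ht.comp hR.mor fun x hx => htW.mem hx, hback le_sup_left hP hR.imP,
      hback le_sup_right hX hR.imX, hR.good⟩, fun y => ?_, ?_, hb⟩
  · obtain ⟨x, rfl⟩ := e₀.surjective y
    rw [MulEquiv.trans_apply, e₀.symm_apply_apply, he, he₀, Function.comp_apply,
      ht1 x (Subgroup.mem_sup_left x.2)]
  · rwa [← congr_congr, show e₀.trans (e₀.symm.trans e) = e from MulEquiv.ext fun x => by simp]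

include hT in
theorem InA.mem_E (hE : E.IsInvariantIn F) (hB : Base S T P (P ⊔ X)) {a : MulAut P}
    (h : InA F E p P X a) : a ∈ E.autGroup P := by
  obtain ⟨-, P', X', θ, e, b, f, hR, he, L, hb⟩ := h
  obtain ⟨e', he', he'e⟩ := exists_isoIn hR.mor le_sup_left hR.imP
  obtain rfl : e' = e := MulEquiv.ext fun x => Subtype.ext ((he'e x).trans (he x).symm)
  have hB' := hB.reach hT hR
  have h1 : Agree (le_upN (Nat.card S)) b (MulAut.congr e' a) := fun y =>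
    (L.onEnd _).symm.trans (L.onP y)
  have h2 := autGroup_equiv hE hB'.PT he'.symm (h1.mem (upN_le hB'.PT _) hb)
  rwa [congr_symm_congr] at h2

end CfsgLib.Balance
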