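import Cfsg.Agent.Fusion.Balance.Frame

/-!
The part of the local group at a fully normalized centric subgroup belonging to a normal subsystem.
-/

set_option autoImplicit false
set_option linter.style.haveILetI false
set_option linter.unusedSectionVars false

open Cfsg Cfsg.FusionSystem CfsgLib.Fusion CfsgLib.FocCent CfsgLib.NormCent CfsgLib.NormExt
open CfsgLib.Meet

namespace CfsgLib.Balance

universe u

variable {Ω : Type u} [Group Ω] {S T Q : Subgroup Ω} {F : FusionSystem S} {E : FusionSystem T}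
  {p : ℕ} {hQ : Q ≤ S} (L : LocalGroup F p Q hQ)

theorem conj_range_sup {A B : Subgroup Ω} (hA : A ≤ normalizerIn S Q) (hB : B ≤ normalizerIn S Q)
    {g : L.G} (h₁ : ∀ x : A, g * L.ι ⟨x, hA x.2⟩ * g⁻¹ ∈ L.ι.range)
    (h₂ : ∀ x : B, g * L.ι ⟨x, hB x.2⟩ * g⁻¹ ∈ L.ι.range) (x : ↥(A ⊔ B)) :
    g * L.ι ⟨x, sup_le hA hB x.2⟩ * g⁻¹ ∈ L.ι.range := by
  have hle : A ⊔ B ≤ ((L.ι.range).comap ((MulAut.conj g).toMonoidHom.comp L.ι)).map
      (normalizerIn S Q).subtype :=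
    sup_le (fun a ha => ⟨⟨a, hA ha⟩, h₁ ⟨a, ha⟩, rfl⟩) fun b hb => ⟨⟨b, hB hb⟩, h₂ ⟨b, hb⟩, rfl⟩
  obtain ⟨w, hw, hwx⟩ := hle x.2
  exact (show w = ⟨x, sup_le hA hB x.2⟩ from Subtype.ext hwx) ▸ hw

theorem conj_ι_Q (g : L.G) (q : Q) :
    g * L.ι ⟨q, le_normalizerIn hQ q.2⟩ * g⁻¹ =
      L.ι ⟨((L.res g q : Q) : Ω), le_normalizerIn hQ (L.res g q).2⟩ := by
  have h := L.act g (Subgroup.inclusion le_sup_left q)
  refine h.symm.trans (congrArg L.ι (Subtype.ext ?_))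
  exact L.agree g q

/-- A conjugation acting on the image of `Q` determines the restriction. -/
theorem res_eq_of_conj (g : L.G) {b : MulAut Q}
    (h : ∀ q : Q, g * L.ι ⟨q, le_normalizerIn hQ q.2⟩ * g⁻¹ =
      L.ι ⟨((b q : Q) : Ω), le_normalizerIn hQ (b q).2⟩) : L.res g = b :=
  MulEquiv.ext fun q => by
    have h1 := congrArg Subtype.val (L.inj ((conj_ι_Q L g q).symm.trans (h q)))
    exact Subtype.ext h1

variable [Finite S] [Fact p.Prime] (hS : IsPGroup p S) (hF : F.IsSaturated p)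
  (hn : F.IsFullyNormalized Q) (hE : E.IsNormalIn F p)

include hS hF hn hE in
/-- A normal subgroup of the local group mapping onto the automorphisms in the subsystem, with
kernel inside the image of `Q`. -/
theorem exists_kernel_side (hsc : SelfCentralizingIn F T Q) :
    ∃ K : Subgroup L.G, K.Normal ∧ (∀ s : ↥(normalizerIn S Q), (s : Ω) ∈ T → L.ι s ∈ K) ∧
      (∀ s : ↥(normalizerIn S Q), L.ι s ∈ K → (s : Ω) ∈ T) ∧
      (∀ k ∈ K, L.res k ∈ E.autGroup Q) ∧ (∀ b ∈ E.autGroup Q, ∃ k ∈ K, L.res k = b) ∧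
      ∀ k ∈ K, L.res k = 1 → k ∈ img L.ι Q := by
  have hinv := hE.1.2.2
  have hT := hinv.2.1
  have hQT : Q ≤ T := hsc.1
  have hTn := stronglyClosed_normal_in_S hT
  have hVS : Q ⊔ centralizerIn S Q ≤ S := sup_le hQ (centralizerIn_le_S Q)
  haveI : Finite T := finite_of_le hT.1
  have hTp : IsPGroup p T := isPGroup_of_le hS hT.1
  have hQc : E.IsCentric Q := ⟨hQT, fun R hR => hsc.2 R (isConj_of_subsystem hinv.1 hR)⟩
  have hCT : centralizerIn T Q ≤ Q := centralizer_le_of_sc hsc hQ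
  obtain ⟨K₀, hK₀n, hK₀T, hK₀co, hK₀T'⟩ := exists_side L hS hF hn hE.1 hQT
  have hSt : ∀ g : L.G, ∀ v : ↥(Q ⊔ centralizerIn S Q), (v : Ω) ∈ T →
      ((L.ρ g v : ↥(Q ⊔ centralizerIn S Q)) : Ω) ∈ T := fun g v hv =>
    map_mem_of_stronglyClosed hT ((autGroup_carrier hVS).1 (L.mem g)) (x := v) hv
  let X : Subgroup L.G :=
    (modStab T (Q ⊔ centralizerIn S Q)).comap L.ρ ⊓ (E.autGroup Q).comap L.res
  haveI hXn : X.Normal := ⟨fun x hx g => by
    constructor
    · show L.ρ (g * x * g⁻¹) ∈ modStab T (Q ⊔ centralizerIn S Q)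
      rw [map_mul, map_mul, map_inv]
      exact modStab_conj (hSt g) hx.1
    · show L.res (g * x * g⁻¹) ∈ E.autGroup Q
      rw [map_mul, map_mul, map_inv, ← congr_eq_conj]
      exact autGroup_equiv hinv hQT (isoIn_of_aut hQ (L.res_mem g)) hx.2⟩
  haveI := hK₀n
  let K := K₀ ⊓ X
  haveI hKn : K.Normal := Subgroup.normal_inf_normal K₀ X
  have hTK : ∀ s : ↥(normalizerIn S Q), (s : Ω) ∈ T → L.ι s ∈ K := by
    intro s hs
    refine ⟨hK₀T s hs, fun v => ?_, ?_⟩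
    · rw [L.ρ_ι]
      have h1 : (v : Ω)⁻¹ * s * v ∈ T :=
        (Subgroup.mem_normalizer_iff''.1 (hTn (hVS v.2)) _).1 hs
      simpa [mul_assoc] using T.mul_mem h1 (T.inv_mem hs)
    · exact autInducedBy_le_autGroup hQT (mem_autInducedBy.2 ⟨s, hs, L.res_ι s⟩)
  refine ⟨K, hKn, hTK, fun s hs => hK₀T' s hs.1, fun k hk => hk.2.2, fun b hb => ?_, ?_⟩
  · haveI : Finite Q := finite_of_le hQ
    haveI : Finite (MulAut Q) := finite_mulAut
    obtain ⟨⟨-, R, hR⟩, -⟩ :=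
      good_of_fullyNormalized p hTp hE.1.1 (fullyNormalized_sub p hS hF hT hinv.1 hQT hn)
    suffices h : (⊤ : Subgroup (E.autGroup Q)) ≤ (K.map L.res).subgroupOf (E.autGroup Q) by
      obtain ⟨k, hk, hke⟩ := h (Subgroup.mem_top ⟨b, hb⟩)
      exact ⟨k, hk, hke⟩
    refine le_of_sylow_coprime p R le_top (fun a ha => ?_) fun a _ hco => ?_
    · rw [hR, Subgroup.mem_subgroupOf] at ha
      obtain ⟨t, ht, hta⟩ := mem_autInducedBy.1 ha
      exact ⟨L.ι ⟨t, hT.1 ht, mem_normalizer_of_aut hta⟩, hTK _ ht,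
        MulEquiv.ext fun x => Subtype.ext ((L.res_ι _ x).trans (hta x).symm)⟩
    · obtain ⟨B, hB, hBa, hBm⟩ := autGroup_le_modAut p hS hE hQc hn a.2
      obtain ⟨g, hgρ, hgres⟩ := L.onto B hB a hBa
      obtain ⟨m, hm1, hm2⟩ := ConstrainedNormal.exists_pow_coprime p g
      have hres : L.res (g ^ m) = a := by
        rw [map_pow, hgres]
        exact hm2 (a : MulAut Q) (by rwa [Subgroup.orderOf_coe])
          (hgres ▸ orderOf_map_dvd L.res g)
      have hst : B ∈ modStab T (Q ⊔ centralizerIn S Q) := by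
        refine disp_of_sup rfl (fun v hv => hTn (hVS hv)) (fun v hv => ?_) fun v hv => hQT (hBm v hv)
        exact mul_mem (T.inv_mem (hQT hv)) (hQT (hBa.map_mem hv))
      have hρ : L.ρ (g ^ m) ∈ modStab T (Q ⊔ centralizerIn S Q) := by
        rw [map_pow, hgρ]
        exact pow_mem hst m
      have hresE : L.res (g ^ m) ∈ E.autGroup Q := by rw [hres]; exact a.2
      exact ⟨g ^ m, ⟨hK₀co _ hm1 hresE hρ, hρ, hresE⟩, hres⟩
  · -- the kernel
    let N : Subgroup L.G := K ⊓ L.res.ker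
    haveI hNn : N.Normal := Subgroup.normal_inf_normal K L.res.ker
    have hNV : ∀ v : ↥(Q ⊔ centralizerIn S Q), (v : Ω) ∈ T → (v : Ω) ∈ Q := by
      intro v hv
      obtain ⟨x, hx, c, hc, hvc⟩ := exists_mul_sup v.2
      have hcT : c ∈ T := by
        have h := T.mul_mem (T.inv_mem (hQT hx)) (hvc ▸ hv)
        rwa [inv_mul_cancel_left] at h
      rw [hvc]
      exact mul_mem hx (hCT ⟨hcT, hc.2⟩)
    have hNp : IsPGroup p N := by
      rintro ⟨k, hk⟩
      have hfix : ∀ v : ↥(Q ⊔ centralizerIn S Q), (v : Ω) ∈ Q → L.ρ k v = v := fun v hv => by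
        refine Subtype.ext ((L.agree k ⟨v, hv⟩).trans ?_)
        rw [MonoidHom.mem_ker.1 hk.2]
        rfl
      have hdisp : L.ρ k ∈ modStab Q (Q ⊔ centralizerIn S Q) := fun v => by
        let u : ↥(Q ⊔ centralizerIn S Q) := v⁻¹ * L.ρ k v
        exact hNV u (hk.1.2.1 v)
      obtain ⟨j, hj⟩ := exists_pow_eq_one_of_fix hS le_sup_left hVS hfix hdisp
      have hk' : k ^ p ^ j ∈ img L.ι (Q ⊔ centralizerIn S Q) := by
        refine L.cent ?_
        rintro _ ⟨v, hv, rfl⟩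
        have h := L.act (k ^ p ^ j) ⟨v, hv⟩
        rw [map_pow L.ρ, hj] at h
        exact eq_mul_inv_iff_mul_eq.1 h
      obtain ⟨v, -, hv⟩ := hk'
      obtain ⟨l, hl⟩ := (isPGroup_of_le hS (normalizerIn_le_S (S := S) Q)) v
      refine ⟨j + l, Subtype.ext ?_⟩
      show k ^ p ^ (j + l) = 1
      rw [pow_add, pow_mul, ← hv, ← map_pow, hl, map_one]
    intro k hkK hk1
    obtain ⟨Sy, hSy⟩ := L.syl
    have hk' : k ∈ L.ι.range := by
      rw [← hSy]
      exact ((CfsgLib.Solvable.le_pCore p hNn hNp).trans (CfsgLib.Fitting.pCore_le_sylow Sy))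
        ⟨hkK, MonoidHom.mem_ker.2 hk1⟩
    obtain ⟨s, rfl⟩ := hk'
    refine apply_mem_img (hCT ⟨hK₀T' s hkK.1, fun x hx => ?_⟩)
    have h := L.res_ι s ⟨x, hx⟩
    rw [hk1] at h
    have h' : (x : Ω) = s * x * (s : Ω)⁻¹ := h
    calc x * (s : Ω) = (s * x * (s : Ω)⁻¹) * s := by rw [← h']
      _ = s * x := by group

end CfsgLib.Balance
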