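import Cfsg.Agent.Fusion.Balance.Family
import Cfsg.Agent.Fusion.Balance.Frame
import Cfsg.Agent.Fusion.Meet.CompNormal

/-!
Centralizer systems inside normalizer systems, subgroups normal or strongly closed in a normalizer
system, and components moved to a fully normalized position.
-/

set_option autoImplicit false
set_option linter.style.haveILetI false
set_option linter.unusedSectionVars false

open Cfsg Cfsg.FusionSystem CfsgLib.Fusion CfsgLib.FocCent CfsgLib.NormCent CfsgLib.NormExt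
open CfsgLib.Meet
open CfsgLib.FusionImage (im_mk exists_im_res component_im mem_img_iff resHom)

namespace CfsgLib.Balance

variable {Ω : Type*} [Group Ω] {S T X Y : Subgroup Ω} {F : FusionSystem S} {p : ℕ}

theorem mem_of_mor {U : Subgroup Ω} {φ : U →* Ω} {f : Ω → Ω} (hf : Mor F U f)
    (h : ∀ x : U, φ x = f x) : φ ∈ F.Hom U := by
  obtain ⟨ψ, hψ, hψe⟩ := hf
  rwa [show φ = ψ from MonoidHom.ext fun x => (h x).trans (hψe x).symm]

theorem component_congr {U V W : Subgroup Ω} {C : FusionSystem U} {A : FusionSystem V}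
    {B : FusionSystem W} (h : SameMaps A B) (hC : C.IsComponentIn A p) : C.IsComponentIn B p := by
  obtain ⟨rfl, hh⟩ := h
  exact ext_hom hh ▸ hC

theorem weaklyNormal_congr {U V W : Subgroup Ω} {C : FusionSystem U} {A : FusionSystem V}
    {B : FusionSystem W} (h : SameMaps A B) (hC : C.IsWeaklyNormalIn A p) :
    C.IsWeaklyNormalIn B p := by
  obtain ⟨rfl, hh⟩ := h
  exact ext_hom hh ▸ hC

theorem centralizerHom_congr {V W : Subgroup Ω} {A : FusionSystem V} {B : FusionSystem W}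
    (h : SameMaps A B) (Q P : Subgroup Ω) : A.centralizerHom Q P = B.centralizerHom Q P := by
  obtain ⟨rfl, hh⟩ := h
  rw [ext_hom hh]

variable [Finite S]

omit [Finite S] in
theorem centralizerIn_norm (hXY : X ≤ Y) :
    centralizerIn (normalizerIn S X) Y = centralizerIn S Y := by
  refine le_antisymm (fun x hx => ⟨hx.1.1, hx.2⟩) fun x hx => ⟨⟨hx.1, ?_⟩, hx.2⟩
  exact centralizer_le_normalizer' X fun z hz => hx.2 z (hXY hz)

/-- A centralizer inside a normalizer system is the centralizer in the big system. -/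
theorem cent_norm_sameMaps (hX : X ≤ S) (hXY : X ≤ Y) (hYN : Y ≤ normalizerIn S X) :
    SameMaps (centSystem (normSystem F X hX) Y hYN)
      (centSystem F Y (hYN.trans (normalizerIn_le_S X))) := by
  refine ⟨centralizerIn_norm hXY, fun P => Set.ext fun φ => ⟨?_, fun hφ => ?_⟩⟩
  · rintro ⟨hφ, hP, hv, ψ, hψ, he, hf⟩
    exact ⟨hφ.1, hP.trans (centralizerIn_norm hXY).le,
      fun x => (centralizerIn_norm hXY).le (hv x), ψ, hψ.1, he, hf⟩
  obtain ⟨f, hf, hfe⟩ := Mor.of_mem (F := centSystem F Y (hYN.trans (normalizerIn_le_S X))) hφ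
  obtain ⟨g, hg, hge, hgY⟩ := mor_of_cent _ hf
  have hP : P ≤ centralizerIn (normalizerIn S X) Y :=
    (le_of_mem_hom (F := centSystem F Y (hYN.trans (normalizerIn_le_S X))) hφ).trans
      (centralizerIn_norm hXY).ge
  have hgN : Mor (normSystem F X hX) (P ⊔ Y) g := mor_norm hX hg (hXY.trans le_sup_right)
    (sup_le (hP.trans (centralizerIn_le_S Y)) hYN) ((im_id X).congr fun x hx => hgY x (hXY hx))
  exact mem_of_mor (mor_to_cent hYN hP hgN hgY) fun x =>
    (hfe x).symm.trans (hge x x.2).symm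

theorem isNormal_norm_self (hX : X ≤ S) : (normSystem F X hX).IsNormal X := by
  refine ⟨le_normalizerIn hX, fun P φ hφ => ?_⟩
  obtain ⟨hφF, hP, -, ψ, hψ, he, hm⟩ := hφ
  obtain ⟨f, hf, hfe⟩ := Mor.of_mem hψ
  refine ⟨ψ, mem_of_mor (mor_norm hX hf le_sup_right (sup_le hP (le_normalizerIn hX))
    fun y => ?_) fun x => (hfe x).symm, he, hm⟩
  constructor
  · intro hy
    obtain ⟨x, hx, hxX, rfl⟩ := mem_map_subgroupOf.1 (hm.ge hy)
    exact ⟨x, hxX, hfe ⟨x, hx⟩⟩
  · rintro ⟨x, hx, rfl⟩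
    exact hm.le (mem_map_subgroupOf.2
      ⟨x, Subgroup.mem_sup_right hx, hx, (hfe ⟨x, Subgroup.mem_sup_right hx⟩).symm⟩)

theorem stronglyClosed_norm (hX : X ≤ S) (hT : F.StronglyClosed T) :
    (normSystem F X hX).StronglyClosed (normalizerIn T X) :=
  ⟨fun _ hy => ⟨hT.1 hy.1, hy.2⟩, fun _ hR _ hφ x =>
    ⟨hT.2 _ (fun _ hy => (hR hy).1) _ hφ.1 x, (hφ.2.2.1 x).2⟩⟩

/-- A normal subgroup of the system meets a normalizer in a normal subgroup of its system. -/
theorem isNormal_norm_meet (hX : X ≤ S) {Q : Subgroup Ω} (hQ : F.IsNormal Q) :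
    (normSystem F X hX).IsNormal (normalizerIn Q X) := by
  have hQN : normalizerIn Q X ≤ normalizerIn S X := fun y hy => ⟨hQ.1 hy.1, hy.2⟩
  refine ⟨hQN, fun P φ hφ => ?_⟩
  obtain ⟨hφF, hP, -, ψ, hψ, he, hm⟩ := hφ
  obtain ⟨χ, hχ, hχe, hχm⟩ := hQ.2 _ ψ hψ
  obtain ⟨f, hf, hfe⟩ := Mor.of_mem hχ
  have hfP : ∀ x : P, f x = φ x := fun x =>
    (hfe ⟨x, Subgroup.mem_sup_left (Subgroup.mem_sup_left x.2)⟩).trans
      ((hχe (Subgroup.inclusion le_sup_left x)).trans (he x))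
  have hXU : X ≤ P ⊔ X ⊔ Q := le_sup_right.trans le_sup_left
  have hfX : Im f X X := fun y => by
    constructor
    · intro hy
      obtain ⟨x, hx, hxX, rfl⟩ := mem_map_subgroupOf.1 (hm.ge hy)
      exact ⟨x, hxX, (hfe ⟨x, Subgroup.mem_sup_left hx⟩).trans (hχe ⟨x, hx⟩)⟩
    · rintro ⟨x, hx, rfl⟩
      exact hm.le (mem_map_subgroupOf.2 ⟨x, Subgroup.mem_sup_right hx, hx,
        ((hfe ⟨x, hXU hx⟩).trans (hχe ⟨x, Subgroup.mem_sup_right hx⟩)).symm⟩)
  have hQm : ∀ x ∈ normalizerIn Q X, f x ∈ normalizerIn Q X := fun x hx => by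
    refine ⟨hχm.le (mem_map_subgroupOf.2
      ⟨x, Subgroup.mem_sup_right hx.1, hx.1, (hfe ⟨x, Subgroup.mem_sup_right hx.1⟩).symm⟩),
      (hf.mem_normalizerIn hXU hfX (Subgroup.mem_sup_right hx.1) hx.2).2⟩
  have hV : P ⊔ normalizerIn Q X ⊔ X ≤ P ⊔ X ⊔ Q := sup_le
    (sup_le (le_sup_left.trans le_sup_left) ((normalizerIn_le_S X).trans le_sup_right)) hXU
  have hN : Mor (normSystem F X hX) (P ⊔ normalizerIn Q X) f :=
    (mor_norm hX (hf.mono hV) le_sup_right
      (sup_le (sup_le hP hQN) (le_normalizerIn hX)) hfX).mono le_sup_left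
  obtain ⟨ψ', hψ', hψ'e⟩ := id hN
  have hi : Im f (normalizerIn Q X) (normalizerIn Q X) :=
    Meet.im_self (hf.mono hV) (le_sup_right.trans le_sup_left) hQm
  refine ⟨ψ', hψ', fun x => (hψ'e _).trans (hfP x), ?_⟩
  ext y
  rw [mem_map_subgroupOf]
  constructor
  · rintro ⟨x, hx, hxQ, rfl⟩
    exact Set.mem_of_eq_of_mem (hψ'e ⟨x, hx⟩) (hQm x hxQ)
  · intro hy
    obtain ⟨x, hx, rfl⟩ := hi.surj hy
    exact ⟨x, Subgroup.mem_sup_right hx, hx, hψ'e _⟩

/-- The product of a normal subgroup and a strongly closed one is strongly closed. -/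
theorem stronglyClosed_sup {A B : Subgroup Ω} (hA : F.IsNormal A) (hB : F.StronglyClosed B) :
    F.StronglyClosed (A ⊔ B) := by
  refine ⟨sup_le hA.1 hB.1, fun P hP φ hφ x => ?_⟩
  obtain ⟨ψ, hψ, he, hm⟩ := hA.2 P φ hφ
  have hx : (x : Ω) ∈ ((A ⊔ B : Subgroup Ω) : Set Ω) := hP x.2
  rw [Subgroup.coe_mul_of_right_le_normalizer_left A B
    (hB.1.trans (normal_S_le_normalizer hA))] at hx
  obtain ⟨a, ha, b, hb, hab⟩ := hx
  have hb' : b ∈ P ⊔ A := by
    have h1 : a⁻¹ * (x : Ω) ∈ P ⊔ A :=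
      mul_mem (Subgroup.mem_sup_right (inv_mem ha)) (Subgroup.mem_sup_left x.2)
    rwa [← hab, inv_mul_cancel_left] at h1
  have e : φ x = ψ ⟨a, Subgroup.mem_sup_right ha⟩ * ψ ⟨b, hb'⟩ := by
    rw [← map_mul, ← he x]
    exact apply_congr ψ hab.symm
  rw [e]
  exact mul_mem
    (Subgroup.mem_sup_left (hm.le (mem_map_subgroupOf.2 ⟨a, _, ha, rfl⟩)))
    (Subgroup.mem_sup_right (map_mem_of_stronglyClosed hB hψ hb))

omit [Finite S] in
/-- Maps of centralizer systems move with maps of the big system. -/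
theorem cent_push {U Y' P P' : Subgroup Ω} (hY : Y ≤ S) (hY' : Y' ≤ S) {f : Ω → Ω}
    (hf : Mor F U f) (hYU : Y ≤ U) (hCU : centralizerIn S Y ≤ U) (hYi : Im f Y Y')
    (hPi : Im f P P') (hPC : P' ≤ centralizerIn S Y') {g : Ω → Ω}
    (hg : Mor (centSystem F Y hY) P g) :
    ∃ h, Mor (centSystem F Y' hY') P' h ∧ ∀ x ∈ P, h (f x) = f (g x) := by
  obtain ⟨g₁, hg₁, hge, hgY⟩ := mor_of_cent hY hg
  have hPU : P ≤ U := hg.le_S.trans hCU
  have hW : P ⊔ Y ≤ U := sup_le hPU hYU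
  obtain ⟨t, ht, htW, ht1, -⟩ := (hf.mono hW).exists_inv (im_sup hf hW hPi hYi)
  have hgU : ∀ x ∈ P ⊔ Y, g₁ x ∈ U := mor_sup_le hg₁ le_rfl
    (fun x hx => Set.mem_of_eq_of_mem (hge x hx) (hCU (hg.mem_S hx)))
    fun x hx => Set.mem_of_eq_of_mem (hgY x hx) (hYU hx)
  refine ⟨f ∘ g₁ ∘ t, mor_to_cent hY' hPC
    ((ht.comp hg₁ fun x hx => htW.mem hx).comp hf fun x hx => hgU _ (htW.mem hx))
    fun y hy => ?_, fun x hx => ?_⟩
  · obtain ⟨x, hx, rfl⟩ := hYi.surj hy
    show f (g₁ (t (f x))) = f x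
    rw [ht1 x (Subgroup.mem_sup_right hx), hgY x hx]
  · show f (g₁ (t (f x))) = f (g x)
    rw [ht1 x (Subgroup.mem_sup_left hx), hge x hx]

variable [Fact p.Prime] (hS : IsPGroup p S) (hF : F.IsSaturated p)

include hS in
/-- A component of the centralizer system of a fully centralized subgroup, moved to a fully
normalized position, is a component of the normalizer system there. -/
theorem component_move (hF : F.IsSaturated p) (hY : F.IsFullyCentralized Y) {Y' : Subgroup Ω}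
    (hY' : F.IsFullyNormalized Y') {f : Ω → Ω} (hf : Mor F (normalizerIn S Y) f)
    (hYi : Im f Y Y') {V : Subgroup Ω} {C : FusionSystem V}
    (hC : C.IsComponentIn (centSystem F Y hY.1) p) :
    ∃ (V' : Subgroup Ω) (C' : FusionSystem V'),
      C'.IsComponentIn (normSystem F Y' hY'.1) p ∧ ∀ x ∈ V, f x ∈ V' := by
  have hCN : centralizerIn S Y ≤ normalizerIn S Y := centralizerIn_le_normalizerIn Y
  have hYN : Y ≤ normalizerIn S Y := le_normalizerIn hY.1
  have hm : ∀ x ∈ centralizerIn S Y, f x ∈ centralizerIn S Y' := fun x hx =>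
    ⟨hf.mem_S (hCN hx), fun z hz => by
      obtain ⟨y, hy, rfl⟩ := hYi.surj hz
      rw [← hf.map_mul (hYN hy) (hCN hx), ← hf.map_mul (hCN hx) (hYN hy)]
      exact congrArg f (hx.2 y hy)⟩
  have hci : Im f (centralizerIn S Y) (centralizerIn S Y') :=
    im_of_card hf hCN (centralizerIn_le_S Y') hm (hY.2 Y' (hf.isConj hYN hYi))
  obtain ⟨θ, hθ, hθe⟩ := hf.mono hCN
  have hinj : Function.Injective θ := F.injective_of_mem hθ
  have hr : θ.range = centralizerIn S Y' := by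
    ext y
    constructor
    · rintro ⟨x, rfl⟩
      rw [hθe]
      exact hci.mem x.2
    · intro hy
      obtain ⟨x, hx, rfl⟩ := hci.surj hy
      exact ⟨⟨x, hx⟩, hθe _⟩
  have hU : centralizerIn S Y ⊔ Y ≤ normalizerIn S Y := sup_le hCN hYN
  obtain ⟨fi, hfi, hfiU, hfi1, hfi2⟩ :=
    (hf.mono hU).exists_inv (im_sup hf hU hci hYi)
  have hI : (centSystem F Y hY.1).IsFactorSystem ⊥ θ (centSystem F Y' hY'.1) := by
    refine im_mk hinj hr (fun P φ hφ => ?_) fun P' φ' hφ' => ?_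
    · have hP : P ≤ centralizerIn S Y := le_of_mem_hom hφ
      obtain ⟨g, hg, hge⟩ := Mor.of_mem hφ
      have hPi : Im f P (img θ P) := fun y => by
        rw [mem_img_iff]
        constructor
        · rintro ⟨x, hx, rfl⟩
          exact ⟨x, hx, (hθe x).symm⟩
        · rintro ⟨x, hx, rfl⟩
          exact ⟨⟨x, hP hx⟩, hx, hθe _⟩
      have hPC : img θ P ≤ centralizerIn S Y' := fun y hy => by
        obtain ⟨x, hx, rfl⟩ := hPi.surj hy
        exact hci.mem (hP hx)
      obtain ⟨h, hh, hhe⟩ := cent_push hY.1 hY'.1 hf hYN hCN hYi hPi hPC hg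
      obtain ⟨φ', hφ', hφ'e⟩ := hh
      refine ⟨φ', hφ', hP, fun x => apply_mem_S hφ x, fun x => mem_img_iff.2 ⟨_, x.2, rfl⟩,
        fun x => ?_⟩
      refine (hφ'e _).trans ?_
      exact (congrArg h (hθe ⟨x, hP x.2⟩)).trans
        ((hhe x x.2).trans ((congrArg f (hge x)).trans (hθe ⟨φ x, _⟩).symm))
    · have hP' : P' ≤ centralizerIn S Y' := le_of_mem_hom hφ'
      obtain ⟨g, hg, hge⟩ := Mor.of_mem hφ'
      have hpre : preimg θ P' ≤ centralizerIn S Y := fun x hx => by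
        obtain ⟨hx', -⟩ := mem_preimg.1 hx
        exact hx'
      have hPi : Im fi P' (preimg θ P') := fun x => by
        constructor
        · intro hx
          obtain ⟨hxC, hxP⟩ := mem_preimg.1 hx
          exact ⟨f x, Set.mem_of_eq_of_mem (hθe ⟨x, hxC⟩).symm hxP,
            hfi1 x (Subgroup.mem_sup_left hxC)⟩
        · rintro ⟨y, hy, rfl⟩
          obtain ⟨z, hz, rfl⟩ := hci.surj (hP' hy)
          rw [hfi1 z (Subgroup.mem_sup_left hz)]
          exact mem_preimg.2 ⟨hz, Set.mem_of_eq_of_mem (hθe ⟨z, hz⟩) hy⟩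
      have hYi' : Im fi Y' Y := fun x => by
        constructor
        · exact fun hx => ⟨f x, hYi.mem hx, hfi1 x (Subgroup.mem_sup_right hx)⟩
        · rintro ⟨y, hy, rfl⟩
          obtain ⟨z, hz, rfl⟩ := hYi.surj hy
          rwa [hfi1 z (Subgroup.mem_sup_right hz)]
      obtain ⟨h, hh, hhe⟩ :=
        cent_push hY'.1 hY.1 hfi le_sup_right le_sup_left hYi' hPi hpre hg
      obtain ⟨φ, hφ, hφe⟩ := hh
      refine ⟨φ, hφ, hpre, fun x => apply_mem_S hφ x, fun x => ?_, fun x => ?_⟩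
      · obtain ⟨hxC, hxP⟩ := mem_preimg.1 x.2
        exact hxP
      · obtain ⟨hxC, hxP⟩ := mem_preimg.1 x.2
        have hfx : f x ∈ P' := Set.mem_of_eq_of_mem (hθe ⟨x, hxC⟩).symm hxP
        have h1 : φ x = fi (g (f x)) := by
          rw [hφe, ← hhe (f x) hfx, hfi1 x (Subgroup.mem_sup_left hxC)]
        obtain ⟨z, hz, hze⟩ := hci.surj (hg.mem_S hfx)
        refine (hge _).symm.trans (Eq.trans ?_ (hθe ⟨φ x, apply_mem_S hφ x⟩).symm)
        show g (θ ⟨x, hxC⟩) = f (φ x)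
        rw [h1, ← hze, hfi1 z (Subgroup.mem_sup_left hz), hze]
        exact congrArg g (hθe ⟨x, hxC⟩)
  haveI : Finite (centralizerIn S Y) := finite_of_le (centralizerIn_le_S Y)
  have hVC : V ≤ centralizerIn S Y := (subnormal_le hC.1).1
  obtain ⟨C', hC'⟩ := exists_im_res hVC C hinj
  have h1 := component_im (isPGroup_of_le hS (centralizerIn_le_S Y)) hC hI hVC hC'
  have hs := cent_norm_sameMaps (F := F) hY'.1 le_rfl (le_normalizerIn hY'.1)
  have h2 := component_congr ⟨hs.1.symm, fun Q => (hs.2 Q).symm⟩ h1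
  haveI : Finite (normalizerIn S Y') := finite_of_le (normalizerIn_le_S Y')
  refine ⟨_, C', component_trans h2 (CoreComp.centSystem_normal p
    (isPGroup_of_le hS (normalizerIn_le_S Y'))
    (normalizerSystem_saturated p hS hF hY' (normSystem_spec F Y' hY'.1))
    (isNormal_norm_self hY'.1)), fun x hx => mem_img_iff.2 ⟨⟨x, hVC hx⟩, hx, hθe _⟩⟩

end CfsgLib.Balance
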