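import Cfsg.Agent.Fusion.Balance.Wn
import Cfsg.Agent.Fusion.Balance.Transport
import Cfsg.Agent.Fusion.GenFitting

/-!
E-balance: the layer of the normalizer system of a fully normalized subgroup lies in the layer.
-/

set_option autoImplicit false
set_option linter.style.haveILetI false
set_option linter.unusedSectionVars false

open Cfsg Cfsg.FusionSystem CfsgLib.Fusion CfsgLib.FocCent CfsgLib.NormCent CfsgLib.NormExt
open CfsgLib.Meet

namespace CfsgLib.Balance

universe u

variable {Ω : Type u} [Group Ω] {S T X Y : Subgroup Ω} {F : FusionSystem S} {E : FusionSystem T}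
  {p : ℕ} [Fact p.Prime] [Finite S] (hS : IsPGroup p S) (hF : F.IsSaturated p)

include hS hF in
/-- A subgroup containing a fully normalized one and strongly closed in its normalizer system is
fully centralized. -/
theorem fullyCentralized_above (hX : F.IsFullyNormalized X) (hXY : X ≤ Y)
    (hY : (normSystem F X hX.1).StronglyClosed Y) : F.IsFullyCentralized Y := by
  have hYS : Y ≤ S := hY.1.trans (normalizerIn_le_S X)
  refine ⟨hYS, fun Y₁ hY₁ => ?_⟩
  obtain ⟨f, hf, hfi⟩ := isConj_iff_mor.1 hY₁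
  obtain ⟨X₁, hX₁⟩ := hf.exists_im hXY
  have hX₁Y : X₁ ≤ Y₁ := fun y hy => by
    obtain ⟨x, hx, rfl⟩ := hX₁.surj hy
    exact hfi.mem (hXY hx)
  obtain ⟨hfa, hrec⟩ := good_of_fullyNormalized p hS hF hX
  obtain ⟨φ, hφ, -, hφm⟩ :=
    exists_map_normalizer p hS hfa hrec (isConj_symm (hf.isConj hXY hX₁))
  obtain ⟨t, ht, hte⟩ := Mor.of_mem hφ
  have hX₁N : X₁ ≤ normalizerIn S X₁ := le_normalizerIn (hf.im_le_S hXY hX₁)
  have hti : Im t X₁ X := fun y => by
    constructor
    · intro hy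
      obtain ⟨x, hx, hxX, rfl⟩ := mem_map_subgroupOf.1 (hφm.ge hy)
      exact ⟨x, hxX, hte ⟨x, hx⟩⟩
    · rintro ⟨x, hx, rfl⟩
      exact hφm.le (mem_map_subgroupOf.2 ⟨x, hX₁N hx, hx, (hte ⟨x, hX₁N hx⟩).symm⟩)
  have hfN : ∀ y ∈ Y, f y ∈ normalizerIn S X₁ := fun y hy =>
    hf.mem_normalizerIn hXY hX₁ hy (hY.1 hy).2
  have hu : Mor F Y (t ∘ f) := hf.comp ht hfN
  have huN : Mor (normSystem F X hX.1) Y (t ∘ f) := mor_norm hX.1 hu hXY hY.1 (hX₁.comp hti)
  have huY : Im (t ∘ f) Y Y :=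
    Meet.im_self hu le_rfl fun y hy => mor_apply_mem hY huN hy hy
  refine card_le_of_mor ht (fun c hc => ⟨hc.1, centralizer_le_normalizer' X₁
    fun z hz => hc.2 z (hX₁Y hz)⟩) (centralizerIn_le_S Y) fun c hc => ?_
  have hcN : c ∈ normalizerIn S X₁ :=
    ⟨hc.1, centralizer_le_normalizer' X₁ fun z hz => hc.2 z (hX₁Y hz)⟩
  refine ⟨ht.mem_S hcN, fun z hz => ?_⟩
  obtain ⟨y, hy, rfl⟩ := huY.surj hz
  show t (f y) * t c = t c * t (f y)
  rw [← ht.map_mul (hfN y hy) hcN, ← ht.map_mul hcN (hfN y hy), hc.2 _ (hfi.mem hy)]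

/-- Membership in `T` is insensitive to automorphisms of the ambient group of a system in which
`T` is strongly closed. -/
theorem img_le_iff {V : Subgroup Ω} {N : FusionSystem V} {B : Subgroup Ω}
    (hB : N.StronglyClosed B) {α : MulAut V} (hα : α ∈ N.autGroup V) {W : Subgroup Ω}
    (hWV : W ≤ V) (h : img (V.subtype.comp α.toMonoidHom) W ≤ B) : W ≤ B := by
  intro x hx
  have h1 : ((α ⟨x, hWV hx⟩ : V) : Ω) ∈ B :=
    h (apply_mem_img (ι := V.subtype.comp α.toMonoidHom) (x := ⟨x, hWV hx⟩) hx)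
  have h2 := map_mem_of_stronglyClosed hB ((autGroup_carrier le_rfl).1 (inv_mem hα))
    (x := α ⟨x, hWV hx⟩) h1
  refine Set.mem_of_eq_of_mem ?_ h2
  show x = ((α⁻¹ (α ⟨x, hWV hx⟩) : V) : Ω)
  rw [MulAut.inv_apply_self]

variable (hE : E.IsLayerOf F p)

include hS hF hE in
/-- The support of a component of a normalizer system lies in that of the layer. -/
theorem component_support_le : ∀ {X : Subgroup Ω} (hX : F.IsFullyNormalized X) {V : Subgroup Ω}
    {C : FusionSystem V}, C.IsComponentIn (normSystem F X hX.1) p → V ≤ T := by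
  classical
  suffices key : ∀ (n : ℕ) (X : Subgroup Ω), Nat.card S - Nat.card X = n →
      ∀ (hX : F.IsFullyNormalized X) (V : Subgroup Ω) (C : FusionSystem V),
        C.IsComponentIn (normSystem F X hX.1) p → V ≤ T from
    fun {X} hX {V C} hC => key _ X rfl hX V C hC
  intro n
  induction n using Nat.strong_induction_on with
  | _ n IH =>
  intro X hn hX V C hC
  by_contra hV
  have hEn := hE.1
  have hT : F.StronglyClosed T := hEn.1.2.2.2.1
  have hXS := hX.1
  have hXc := fullyCentralized_of_fullyNormalized p hS hF hX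
  haveI : Finite (normalizerIn S X) := finite_of_le (normalizerIn_le_S X)
  have hNp : IsPGroup p (normalizerIn S X) := isPGroup_of_le hS (normalizerIn_le_S X)
  have hN := normalizerSystem_saturated p hS hF hX (normSystem_spec F X hXS)
  have hXN := isNormal_norm_self (F := F) hXS
  -- every component centralizes `X`; one outside `T` centralizes `N_T(X)`
  have hA := CoreComp.centSystem_normal p hNp hN hXN
  have hs := cent_norm_sameMaps (F := F) hXS le_rfl (le_normalizerIn hXS)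
  obtain ⟨H, hH, -⟩ := exists_weaklyNormal_inside hS hF hXc hEn
  have hNT := stronglyClosed_norm (F := F) hXS hT
  have hNQ := isNormal_norm_meet (F := F) hXS (isNormal_core (F := F))
  haveI : Finite (centralizerIn S X) := finite_of_le (centralizerIn_le_S X)
  have hGp : IsPGroup p (centralizerIn S X) := isPGroup_of_le hS (centralizerIn_le_S X)
  have hcentX : ∀ {V : Subgroup Ω} {C : FusionSystem V},
      C.IsComponentIn (normSystem F X hXS) p → ∀ P,
        C.Hom P ⊆ (normSystem F X hXS).centralizerHom X P :=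
    fun hC => CoreComp.quasisimple_centralizes p hNp hC.1 hC.2 hXN
  have hbad : ∀ {V : Subgroup Ω} {C : FusionSystem V},
      C.IsComponentIn (normSystem F X hXS) p → ¬ V ≤ T → ∀ P,
        C.Hom P ⊆ (normSystem F X hXS).centralizerHom (normalizerIn T X) P := by
    intro V C hC hV
    have hVA : V ≤ centralizerIn (normalizerIn S X) X :=
      (hcentX hC V (subtype_mem le_rfl)).2.1
    have hCA := component_of_le hNp hC hA.1 hVA
    rcases component_dichotomy hGp (component_congr hs hCA) hH with h | h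
    · exact absurd (fun x hx => (h hx).1) hV
    · refine centralizes_closed hNp hA hNT hC.2.1 hC.2.2.1
        (component_le hC hNp hA.1 hVA) fun P φ hφ => ?_
      refine (centralizerHom_congr hs _ P).ge (centralizerHom_mono ?_ (h P hφ))
      exact fun x hx => ⟨hx.2.1, hx.1.2⟩
  -- the strongly closed subgroup they centralize
  let Y := (X ⊔ normalizerIn F.core X) ⊔ normalizerIn T X
  have hY : (normSystem F X hXS).StronglyClosed Y :=
    stronglyClosed_sup (isNormal_sup hXN hNQ) hNT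
  have hXY : X ≤ Y := le_sup_left.trans le_sup_left
  have hYS : Y ≤ S := hY.1.trans (normalizerIn_le_S X)
  have hbadY : ∀ {V : Subgroup Ω} {C : FusionSystem V},
      C.IsComponentIn (normSystem F X hXS) p → ¬ V ≤ T →
        V ≤ Subgroup.centralizer (Y : Set Ω) := by
    intro V C hC hV
    have h1 := (hcentX hC V (subtype_mem le_rfl)).2.1
    have h2 := (CoreComp.quasisimple_centralizes p hNp hC.1 hC.2 hNQ V (subtype_mem le_rfl)).2.1
    have h3 := (hbad hC hV V (subtype_mem le_rfl)).2.1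
    refine Subgroup.le_centralizer_iff.1 (sup_le (sup_le ?_ ?_) ?_)
    · exact Subgroup.le_centralizer_iff.1 fun x hx => (h1 hx).2
    · exact Subgroup.le_centralizer_iff.1 fun x hx => (h2 hx).2
    · exact Subgroup.le_centralizer_iff.1 fun x hx => (h3 hx).2
  -- a normal subsystem carrying them
  let Q : Subgroup Ω → Prop := fun W => ¬ W ≤ T
  have hQ : ∀ α ∈ (normSystem F X hXS).autGroup (normalizerIn S X), ∀ W ≤ normalizerIn S X,
      Q W → Q (img ((normalizerIn S X).subtype.comp α.toMonoidHom) W) := by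
    intro α hα W hW hWQ hle
    refine hWQ fun x hx => (img_le_iff hNT hα hW (fun y hy => ⟨hle hy, ?_⟩) hx).1
    obtain ⟨z, -, rfl⟩ := hy
    exact (α z).2.2
  obtain ⟨Rall, Kall, hKall, hall⟩ := exists_all_normal hNp hN
  have hRallN : Rall ≤ normalizerIn S X := hKall.1.2.2.2.1.1
  haveI : Finite Rall := finite_of_le hRallN
  have hRallp := isPGroup_of_le hNp hRallN
  have hQall : ∀ α ∈ (normSystem F X hXS).autGroup Rall, ∀ W ≤ Rall,
      Q W → Q (img (Rall.subtype.comp α.toMonoidHom) W) := by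
    intro α hα W hW hWQ hle
    refine hWQ fun x hx => ?_
    have h1 : ((α ⟨x, hW hx⟩ : Rall) : Ω) ∈ normalizerIn T X :=
      ⟨hle (apply_mem_img (ι := Rall.subtype.comp α.toMonoidHom) (x := ⟨x, hW hx⟩) hx),
        (hRallN (SetLike.coe_mem _)).2⟩
    have h2 := map_mem_of_stronglyClosed hNT ((autGroup_carrier hRallN).1 (inv_mem hα))
      (x := α ⟨x, hW hx⟩) h1
    refine (Set.mem_of_eq_of_mem ?_ h2 : x ∈ normalizerIn T X).1
    show x = ((α⁻¹ (α ⟨x, hW hx⟩) : Rall) : Ω)
    rw [MulAut.inv_apply_self]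
  obtain ⟨R₀, E₀, hE₀, hR₀, hmin₀⟩ := exists_char hNp hKall.1 Q hQall
  have hfin := finite_supports (F := Kall) (p := p) hRallp Q
  have hCK := component_of_le hNp hC hKall.1 (hall V C hC).1
  obtain ⟨W₀, K₀, hK₀, hW₀, hsW₀⟩ := exists_product hRallp hKall.1.1 (s := hfin.toFinset)
    ⟨V, hfin.mem_toFinset.2 ⟨⟨C, hCK⟩, hV⟩⟩ fun W hW => by
      obtain ⟨⟨D, hD⟩, -⟩ := hfin.mem_toFinset.1 hW
      exact ⟨D, hD, (hall W D (component_trans hD hKall)).2⟩
  have hR₀Y : R₀ ≤ Subgroup.centralizer (Y : Set Ω) :=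
    (le_of_subsystem (hmin₀ W₀ K₀ hK₀.1 fun W D hD hW =>
      hsW₀ W (hfin.mem_toFinset.2 ⟨⟨D, hD⟩, hW⟩))).trans (hW₀.trans (Finset.sup_le fun W hW => by
        obtain ⟨⟨D, hD⟩, hWQ⟩ := hfin.mem_toFinset.1 hW
        exact hbadY (component_trans hD hKall) hWQ))
  have hR₀N : R₀ ≤ normalizerIn S X := hE₀.1.2.2.2.1.1
  haveI : Finite R₀ := finite_of_le hR₀N
  have hR₀p := isPGroup_of_le hNp hR₀N
  have hWc : E₀.StronglyClosed (R₀ ⊓ Y) := ⟨inf_le_left, fun P hP φ hφ x =>
    ⟨apply_mem_S hφ x, hY.2 P (hP.trans inf_le_right) φ (hE₀.1.2.2.1 P hφ) x⟩⟩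
  have hWn : E₀.IsNormal (R₀ ⊓ Y) := isNormal_of_abelian p hR₀p hE₀.1.1 hWc
    ⟨⟨fun a b => Subtype.ext (hR₀Y b.2.1 a a.2.2)⟩⟩
  have hQ₀ : ∀ α ∈ (normSystem F X hXS).autGroup R₀, ∀ W ≤ R₀,
      Q W → Q (img (R₀.subtype.comp α.toMonoidHom) W) := by
    intro α hα W hW hWQ hle
    refine hWQ fun x hx => ?_
    have h1 : ((α ⟨x, hW hx⟩ : R₀) : Ω) ∈ normalizerIn T X :=
      ⟨hle (apply_mem_img (ι := R₀.subtype.comp α.toMonoidHom) (x := ⟨x, hW hx⟩) hx),
        (hR₀N (SetLike.coe_mem _)).2⟩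
    have h2 := map_mem_of_stronglyClosed hNT ((autGroup_carrier hR₀N).1 (inv_mem hα))
      (x := α ⟨x, hW hx⟩) h1
    refine (Set.mem_of_eq_of_mem ?_ h2 : x ∈ normalizerIn T X).1
    show x = ((α⁻¹ (α ⟨x, hW hx⟩) : R₀) : Ω)
    rw [MulAut.inv_apply_self]
  obtain ⟨R₁, E₁, hE₁, hR₁, hmin₁⟩ := exists_char hNp hE₀.1 Q hQ₀
  have hE₁W : E₁.IsSubsystemOf (centSystem E₀ (R₀ ⊓ Y) hWn.1) :=
    hmin₁ _ _ (CoreComp.centSystem_normal p hR₀p hE₀.1.1 hWn).1 fun W D hD hW x hx =>
      ⟨(subnormal_le hD.1).1 hx,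
        fun y hy => (hbadY (component_trans hD hE₀) hW hx) y hy.2⟩
  have hR₁R₀ : R₁ ≤ R₀ := (le_of_subsystem hE₁W).trans (centralizerIn_le_S _)
  have hR₁N : R₁ ≤ normalizerIn S X := hR₁R₀.trans hR₀N
  have hE₁Y : E₁.IsSubsystemOf (centSystem (normSystem F X hXS) Y hY.1) := fun P φ hφ =>
    centralizes_of_comm hNp hE₀ hY hE₁.1.1 (fun Q ψ hψ => (hE₁W Q hψ).1)
      (fun Q ψ hψ => hE₁W Q hψ) (fun x hx => ⟨hR₁N hx, hR₀Y (hR₁R₀ hx)⟩) P hφ
  -- hence components of the centralizer of `Y`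
  have hVR₁ : V ≤ R₁ := by
    have hVK := hR₀ V C hCK hV
    exact hR₁ V C (component_of_le hNp hC hE₀.1 hVK) hV
  haveI : Finite R₁ := finite_of_le hR₁N
  have hR₁p := isPGroup_of_le hNp hR₁N
  have hYn : (normSystem F X hXS).IsFullyNormalized Y := ⟨hY.1, fun Q _ => by
    rw [show normalizerIn (normalizerIn S X) Y = normalizerIn S X from
      inf_eq_left.2 (stronglyClosed_normal_in_S hY)]
    exact card_le_of_le le_rfl (normalizerIn_le_S Q)⟩
  have hYN := fullyCentralized_of_fullyNormalized p hNp hN hYn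
  haveI : Finite (centralizerIn (normalizerIn S X) Y) := finite_of_le (centralizerIn_le_S Y)
  have hDp : IsPGroup p (centralizerIn (normalizerIn S X) Y) :=
    isPGroup_of_le hNp (centralizerIn_le_S Y)
  have hDs := centralizerSystem_saturated p hNp hN hYN
    (centSystem_spec (normSystem F X hXS) Y hY.1)
  have hE₁D := SolvIndex.weaklyNormal_of_between hDp hDs (fun P φ hφ => hφ.1) hE₁Y hE₁.1
  obtain ⟨E₂, hE₂⟩ := exists_pPrimeResidual p hR₁p hE₁.1.1
  have hCE₁ := component_of_le hNp hC hE₁.1 hVR₁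
  have hE₂E₁ := pPrimeResidual_normal hR₁p (isNormalIn_self hE₁.1.1).1 hE₂
  have hCE₂ := component_of_le hR₁p hCE₁ hE₂E₁.1 hVR₁
  have hCD := component_trans hCE₂ (pPrimeResidual_normal hDp hE₁D hE₂)
  have hCY := component_congr (cent_norm_sameMaps (F := F) hXS hXY hY.1) hCD
  have hYc := fullyCentralized_above hS hF hX hXY hY
  rcases hXY.eq_or_lt with hXe | hlt
  · -- then `X` contains `T` and the core
    have hgrow : ∀ {B : Subgroup Ω}, F.StronglyClosed B → normalizerIn B X ≤ X → B ≤ X := by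
      intro B hB hBX
      have hBn := stronglyClosed_normal_in_S hB
      by_contra hne
      have hlt : X < X ⊔ B := left_lt_sup.2 hne
      refine (lt_normalizerIn p hS (sup_le hXS hB.1) hlt).not_ge fun y hy => ?_
      have h1 : y ∈ ((X ⊔ B : Subgroup Ω) : Set Ω) := hy.1
      rw [Subgroup.coe_mul_of_left_le_normalizer_right X B (hXS.trans hBn)] at h1
      obtain ⟨x, hx, b, hb, rfl⟩ := h1
      refine mul_mem hx (hBX ⟨hb, ?_⟩)
      have h2 := mul_mem (inv_mem (Subgroup.le_normalizer hx)) hy.2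
      rwa [inv_mul_cancel_left] at h2
    have hTX : T ≤ X := hgrow hT (le_sup_right.trans hXe.ge)
    have hQX : F.core ≤ X := hgrow (stronglyClosed_of_isNormal isNormal_core)
      ((le_sup_right.trans le_sup_left).trans hXe.ge)
    have hVX : ∀ P, C.Hom P ⊆ F.centralizerHom X P := fun P φ hφ =>
      ((cent_norm_sameMaps (F := F) hXS le_rfl (le_normalizerIn hXS)).2 P).le (hcentX hC P hφ)
    have hVT : ∀ P, C.Hom P ⊆ F.centralizerHom T P := fun P φ hφ =>
      centralizerHom_mono hTX (hVX P hφ)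
    have hVS : V ≤ centralizerIn S X := (hVX V (subtype_mem le_rfl)).2.1
    have hVfoc : V ≤ (centSystem F T hT.1).focalSubgroup := by
      refine hC.2.2.1.ge.trans ((Subgroup.closure_le _).2 ?_)
      rintro _ ⟨P, ⟨α, hα⟩, x, hP, -, rfl⟩
      exact Subgroup.subset_closure
        ⟨P, _, x, hVT P ((autGroup_carrier hP).1 hα), rfl⟩
    have hVQ : V ≤ F.core := GenFitting.le_core_of_centralizes p hS hF hE
      (fun v hv => ⟨(hVS hv).1, fun t ht => (hVS hv).2 t (hTX ht)⟩)
      (fun v hv z hz => (hVS hv).2 z (hQX hz))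
      fun P φ hφ => centralizerHom_mono hVfoc (FocCent.hom_le_centralizerHom p hS hEn hT.1 P hφ)
    exact component_nonabelian hNp hC
      ⟨⟨fun a b => Subtype.ext ((hVS b.2).2 a (hQX (hVQ a.2)))⟩⟩
  · obtain ⟨Y', f, hY', hf, hfi⟩ := exists_mor_normalizer hS hF hYS
    obtain ⟨V', C', hC', hVV'⟩ := component_move hS hF hYc hY' hf hfi hCY
    have hcard : Nat.card Y' = Nat.card Y := hf.card_im (le_normalizerIn hYS) hfi
    have h1 := card_lt_of_lt hYS hlt
    have h2 := card_le_of_le le_rfl hY'.1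
    have hV'T := IH _ (by omega) Y' rfl hY' V' C' hC'
    refine hV fun x hx => ?_
    have hxN : x ∈ normalizerIn S Y := centralizerIn_le_normalizerIn Y ((subnormal_le hCY.1).1 hx)
    obtain ⟨fi, hfi', hfiW, hfi1, -⟩ :=
      hf.exists_inv (hf.exists_im (le_refl _)).choose_spec
    have h3 := mor_apply_mem hT hfi'
      ((hf.exists_im (le_refl _)).choose_spec.mem hxN) (hV'T (hVV' x hx))
    rwa [hfi1 x hxN] at h3

include hS hF hE in
/-- **E-balance.** -/
theorem layer_balance (hX : F.IsFullyNormalized X) {U : Subgroup Ω} {EN : FusionSystem U}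
    (hEN : EN.IsLayerOf (normSystem F X hX.1) p) : EN.IsSubsystemOf E := by
  have hXS := hX.1
  have hXc := fullyCentralized_of_fullyNormalized p hS hF hX
  haveI : Finite (normalizerIn S X) := finite_of_le (normalizerIn_le_S X)
  have hNp : IsPGroup p (normalizerIn S X) := isPGroup_of_le hS (normalizerIn_le_S X)
  have hN := normalizerSystem_saturated p hS hF hX (normSystem_spec F X hXS)
  have hXN := isNormal_norm_self (F := F) hXS
  have hA := CoreComp.centSystem_normal p hNp hN hXN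
  have hs := cent_norm_sameMaps (F := F) hXS le_rfl (le_normalizerIn hXS)
  obtain ⟨H, hH, hHE⟩ := exists_weaklyNormal_inside hS hF hXc hE.1
  obtain ⟨R₁, E₁, hE₁, hR₁, hmin⟩ := exists_char hNp hA.1 (fun _ => True) fun _ _ _ _ _ => trivial
  have hE₁H : E₁.IsSubsystemOf H :=
    hmin _ H (weaklyNormal_congr ⟨hs.1.symm, fun Q => (hs.2 Q).symm⟩ hH) fun W D hD _ x hx =>
      ⟨component_support_le hS hF hE hX (component_trans hD hA) hx,
        ((subnormal_le hD.1).1 hx).2⟩
  have hle : EN.IsSubsystemOf E₁ := hEN.2.2 R₁ E₁ hE₁ fun W D hD => by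
    have hWA : W ≤ centralizerIn (normalizerIn S X) X :=
      (CoreComp.quasisimple_centralizes p hNp hD.1 hD.2 hXN W (subtype_mem le_rfl)).2.1
    exact component_le hD hNp hE₁.1 (hR₁ W D (component_of_le hNp hD hA.1 hWA) trivial)
  exact fun P φ hφ => hHE P (hE₁H P (hle P hφ))

end CfsgLib.Balance
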