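import Cfsg.Agent.Fusion.Balance.Util

/-!
Climbing from a subgroup `P` of a strongly closed subgroup `T`, inside a normalizing subgroup `W`,
to a subgroup containing its centralizer in `T`; positions at which this climb is as large as
possible.
-/

set_option autoImplicit false
set_option linter.style.haveILetI false
set_option linter.unusedSectionVars false

open Cfsg Cfsg.FusionSystem CfsgLib.Fusion CfsgLib.FocCent CfsgLib.NormCent CfsgLib.NormExt
open CfsgLib.Meet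

namespace CfsgLib.Balance

variable {Ω : Type*} [Group Ω] {S T P W : Subgroup Ω} {F : FusionSystem S}

/-- The elements of `T` centralizing `Q` whose commutators with `W` lie in `Q`. -/
def trC (T Q W : Subgroup Ω) : Subgroup Ω where
  carrier := {y | y ∈ T ∧ (∀ q ∈ Q, q * y = y * q) ∧ ∀ w ∈ W, w * y * w⁻¹ * y⁻¹ ∈ Q}
  one_mem' := ⟨one_mem T, fun q _ => by simp, fun w _ => by simp⟩
  mul_mem' {y z} hy hz := by
    refine ⟨mul_mem hy.1 hz.1, fun q hq => ?_, fun w hw => ?_⟩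
    · rw [← mul_assoc, hy.2.1 q hq, mul_assoc, hz.2.1 q hq, mul_assoc]
    · have h1 := hz.2.2 w hw
      rw [show w * (y * z) * w⁻¹ * (y * z)⁻¹ =
        (w * y * w⁻¹ * y⁻¹) * (y * (w * z * w⁻¹ * z⁻¹) * y⁻¹) by group,
        ← hy.2.1 _ h1, mul_inv_cancel_right]
      exact mul_mem (hy.2.2 w hw) h1
  inv_mem' {y} hy := by
    refine ⟨inv_mem hy.1, fun q hq => ?_, fun w hw => ?_⟩
    · calc q * y⁻¹ = y⁻¹ * (y * q) * y⁻¹ := by group
        _ = y⁻¹ * (q * y) * y⁻¹ := by rw [hy.2.1 q hq]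
        _ = y⁻¹ * q := by group
    · have h1 := Q.inv_mem (hy.2.2 w hw)
      rw [show w * y⁻¹ * w⁻¹ * y⁻¹⁻¹ = y⁻¹ * ((w * y * w⁻¹ * y⁻¹)⁻¹ * y) by group,
        hy.2.1 _ h1, inv_mul_cancel_left]
      exact h1

/-- The climb. -/
def upN (T P W : Subgroup Ω) : ℕ → Subgroup Ω
  | 0 => P
  | i + 1 => upN T P W i ⊔ trC T (upN T P W i) W

/-- The top of the climb. -/
noncomputable abbrev endN (S T P W : Subgroup Ω) : Subgroup Ω := upN T P W (Nat.card S)

theorem upN_le (hPT : P ≤ T) : ∀ i, upN T P W i ≤ T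
  | 0 => hPT
  | i + 1 => sup_le (upN_le hPT i) fun _ hy => hy.1

theorem le_upN : ∀ i, P ≤ upN T P W i
  | 0 => le_rfl
  | i + 1 => (le_upN i).trans le_sup_left

theorem upN_succ_le (i : ℕ) : upN T P W i ≤ upN T P W (i + 1) := le_sup_left

/-- The subgroups that can be climbed from. -/
structure Base (S T P W : Subgroup Ω) : Prop where
  PT : P ≤ T
  PW : P ≤ W
  WS : W ≤ S
  Wn : W ≤ Subgroup.normalizer (P : Set Ω)

/-- The centralizer in `T` of every image of `W` lies in the image of `P`. -/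
structure Pair (F : FusionSystem S) (T P W : Subgroup Ω) : Prop extends Base S T P W where
  cent : ∀ f : Ω → Ω, Mor F W f → ∀ c ∈ T, (∀ w ∈ W, f w * c = c * f w) → ∃ x ∈ P, f x = c

theorem Pair.cent_id (h : Pair F T P W) {c : Ω} (hc : c ∈ T) (hcW : ∀ w ∈ W, w * c = c * w) :
    c ∈ P := by
  obtain ⟨x, hx, rfl⟩ := h.cent id (Mor.id_mor h.WS) c hc hcW
  exact hx

theorem Pair.mono (h : Pair F T P W) {P' W' : Subgroup Ω} (hP : P ≤ P') (hW : W ≤ W')
    (hB : Base S T P' W') : Pair F T P' W' :=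
  ⟨hB, fun f hf c hc hcW => by
    obtain ⟨x, hx, e⟩ := h.cent f (hf.mono hW) c hc fun w hw => hcW w (hW hw)
    exact ⟨x, hP hx, e⟩⟩

theorem mor_sup_le {U A B C : Subgroup Ω} {f : Ω → Ω} (hf : Mor F U f) (hU : A ⊔ B ≤ U)
    (hA : ∀ x ∈ A, f x ∈ C) (hB : ∀ x ∈ B, f x ∈ C) : ∀ x ∈ A ⊔ B, f x ∈ C := by
  obtain ⟨φ, -, e⟩ := hf
  intro x hx
  have hle : A ⊔ B ≤ (C.comap φ).map U.subtype :=
    sup_le (fun y hy => ⟨⟨y, hU (Subgroup.mem_sup_left hy)⟩, show φ _ ∈ C from Set.mem_of_eq_of_mem (e _) (hA y hy), rfl⟩)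
      fun y hy => ⟨⟨y, hU (Subgroup.mem_sup_right hy)⟩, show φ _ ∈ C from Set.mem_of_eq_of_mem (e _) (hB y hy), rfl⟩
  obtain ⟨u, hu, rfl⟩ := hle hx
  exact (e u) ▸ hu

theorem im_sup {U A B A' B' : Subgroup Ω} {f : Ω → Ω} (hf : Mor F U f) (hU : A ⊔ B ≤ U)
    (hA : Im f A A') (hB : Im f B B') : Im f (A ⊔ B) (A' ⊔ B') := by
  obtain ⟨V, hV⟩ := hf.exists_im hU
  suffices A' ⊔ B' = V from this ▸ hV
  refine le_antisymm (sup_le ?_ ?_) fun y hy => ?_
  · intro y hy
    obtain ⟨x, hx, rfl⟩ := hA.surj hy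
    exact hV.mem (Subgroup.mem_sup_left hx)
  · intro y hy
    obtain ⟨x, hx, rfl⟩ := hB.surj hy
    exact hV.mem (Subgroup.mem_sup_right hx)
  · obtain ⟨x, hx, rfl⟩ := hV.surj hy
    exact mor_sup_le hf hU (fun a ha => Subgroup.mem_sup_left (hA.mem ha))
      (fun b hb => Subgroup.mem_sup_right (hB.mem hb)) x hx

theorem mor_mem_trC (hT : F.StronglyClosed T) {U Q Q' W' : Subgroup Ω} {f : Ω → Ω}
    (hf : Mor F U f) (hQ : Q ≤ U) (hW : W ≤ U) (hQi : Im f Q Q') (hWi : Im f W W') {y : Ω}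
    (hy : y ∈ U) (hyt : y ∈ trC T Q W) : f y ∈ trC T Q' W' := by
  refine ⟨mor_apply_mem hT hf hy hyt.1, fun q hq => ?_, fun w hw => ?_⟩
  · obtain ⟨x, hx, rfl⟩ := hQi.surj hq
    rw [← hf.map_mul (hQ hx) hy, ← hf.map_mul hy (hQ hx), hyt.2.1 x hx]
  · obtain ⟨x, hx, rfl⟩ := hWi.surj hw
    have h1 : f (x * y * x⁻¹ * y⁻¹) ∈ Q' := hQi.mem (hyt.2.2 x hx)
    rwa [hf.map_mul (mul_mem (mul_mem (hW hx) hy) (inv_mem (hW hx))) (inv_mem hy),
      hf.map_conj (hW hx) hy, hf.map_inv hy] at h1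

theorem map_up (hT : F.StronglyClosed T) {U P' W' : Subgroup Ω} {f : Ω → Ω} {i : ℕ}
    (hf : Mor F U f) (hU : upN T P W (i + 1) ⊔ W ≤ U)
    (hi : Im f (upN T P W i) (upN T P' W' i)) (hW : Im f W W') :
    ∀ x ∈ upN T P W (i + 1), f x ∈ upN T P' W' (i + 1) :=
  mor_sup_le hf (le_sup_left.trans hU) (fun _ hx => Subgroup.mem_sup_left (hi.mem hx))
    fun y hy => Subgroup.mem_sup_right (mor_mem_trC hT hf
      ((upN_succ_le i).trans (le_sup_left.trans hU)) (le_sup_right.trans hU) hi hW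
      (hU (Subgroup.mem_sup_left (Subgroup.mem_sup_right hy))) hy)

variable [Finite S]

theorem im_of_card {U A B : Subgroup Ω} {f : Ω → Ω} (hf : Mor F U f) (hA : A ≤ U) (hB : B ≤ S)
    (hm : ∀ x ∈ A, f x ∈ B) (hc : Nat.card B ≤ Nat.card A) : Im f A B := by
  obtain ⟨V, hV⟩ := hf.exists_im hA
  have hVB : V ≤ B := fun y hy => by
    obtain ⟨x, hx, rfl⟩ := hV.surj hy
    exact hm x hx
  exact eq_of_le_of_card_le hB hVB (hc.trans (hf.card_im hA hV).ge) ▸ hV

theorem card_le_of_mor {U A B : Subgroup Ω} {f : Ω → Ω} (hf : Mor F U f) (hA : A ≤ U) (hB : B ≤ S)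
    (hm : ∀ x ∈ A, f x ∈ B) : Nat.card A ≤ Nat.card B := by
  obtain ⟨V, hV⟩ := hf.exists_im hA
  rw [← hf.card_im hA hV]
  exact card_le_of_le hB fun y hy => by
    obtain ⟨x, hx, rfl⟩ := hV.surj hy
    exact hm x hx

theorem im_upN_self (hT : F.StronglyClosed T) (hPT : P ≤ T) {U : Subgroup Ω} {f : Ω → Ω}
    (hf : Mor F U f) (hP : Im f P P) (hW : Im f W W) :
    ∀ i, upN T P W i ⊔ W ≤ U → Im f (upN T P W i) (upN T P W i) := by
  intro i
  induction i with
  | zero => exact fun _ => hP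
  | succ i ih =>
    intro hU
    have hi := ih ((sup_le_sup_right (upN_succ_le i) W).trans hU)
    exact Meet.im_self hf (le_sup_left.trans hU) (map_up hT hf hU hi hW)

theorem conj_im {A U : Subgroup Ω} (hU : U ≤ S) (hA : A ≤ U) {g : Ω} (hg : g ∈ S)
    (hn : g ∈ Subgroup.normalizer (A : Set Ω)) : Im (fun x => g * x * g⁻¹) A A :=
  Meet.im_self (F := innerFusionSystem S) (Mor.conj_mor hU hg) hA
    fun x hx => (Subgroup.mem_normalizer_iff.1 hn x).1 hx

theorem mem_normalizer_upN (hT : F.StronglyClosed T) (hB : Base S T P W) {g : Ω} (hg : g ∈ S)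
    (hgP : g ∈ Subgroup.normalizer (P : Set Ω)) (hgW : g ∈ Subgroup.normalizer (W : Set Ω))
    (i : ℕ) : g ∈ Subgroup.normalizer (upN T P W i : Set Ω) := by
  have hPS := hB.PW.trans hB.WS
  have hU : upN T P W i ⊔ W ≤ S := sup_le ((upN_le hB.PT i).trans hT.1) hB.WS
  have h := im_upN_self hT hB.PT (Mor.conj_mor (F := F) hU hg) (conj_im hPS le_rfl hg hgP)
    (conj_im hB.WS le_rfl hg hgW) i le_rfl
  exact mem_normalizer_of_conj_mem (le_sup_left.trans hU) fun x hx => h.mem hx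

theorem Base.le_normalizer_upN (hT : F.StronglyClosed T) (hB : Base S T P W) (i : ℕ) :
    W ≤ Subgroup.normalizer (upN T P W i : Set Ω) := fun _ hw =>
  mem_normalizer_upN hT hB (hB.WS hw) (hB.Wn hw) (Subgroup.le_normalizer hw) i

/-- `upN` and `W` together. -/
abbrev upV (T P W : Subgroup Ω) (i : ℕ) : Subgroup Ω := upN T P W i ⊔ W

theorem upV_mono {i j : ℕ} (h : i ≤ j) : upV T P W i ≤ upV T P W j := by
  induction h with
  | refl => exact le_rfl
  | step _ ih => exact ih.trans (sup_le_sup_right (upN_succ_le _) W)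

theorem upV_le_S (hT : F.StronglyClosed T) (hB : Base S T P W) (i : ℕ) : upV T P W i ≤ S :=
  sup_le ((upN_le hB.PT i).trans hT.1) hB.WS

theorem upV_le_normalizer (hT : F.StronglyClosed T) (hB : Base S T P W) (i : ℕ) :
    upV T P W i ≤ Subgroup.normalizer (upN T P W i : Set Ω) :=
  sup_le Subgroup.le_normalizer (hB.le_normalizer_upN hT i)

theorem Base.upper (hT : F.StronglyClosed T) (hB : Base S T P W) (i : ℕ) :
    Base S T (upN T P W i) (upV T P W i) :=
  ⟨upN_le hB.PT i, le_sup_left, upV_le_S hT hB i, upV_le_normalizer hT hB i⟩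

theorem Pair.upper (hT : F.StronglyClosed T) (h : Pair F T P W) (i : ℕ) :
    Pair F T (upN T P W i) (upV T P W i) :=
  h.mono (le_upN i) le_sup_right (h.toBase.upper hT i)

theorem Base.image (hT : F.StronglyClosed T) (hB : Base S T P W) {P' W' U : Subgroup Ω}
    {f : Ω → Ω} (hf : Mor F U f) (hU : W ≤ U) (hP : Im f P P') (hW : Im f W W') :
    Base S T P' W' := by
  refine ⟨fun y hy => ?_, fun y hy => ?_, hf.im_le_S hU hW, fun y hy => ?_⟩
  · obtain ⟨x, hx, rfl⟩ := hP.surj hy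
    exact mor_apply_mem hT hf (hU (hB.PW hx)) (hB.PT hx)
  · obtain ⟨x, hx, rfl⟩ := hP.surj hy
    exact hW.mem (hB.PW hx)
  · obtain ⟨x, hx, rfl⟩ := hW.surj hy
    exact (hf.mem_normalizerIn (hB.PW.trans hU) hP (hU hx) (hB.Wn hx)).2

theorem Pair.image (hT : F.StronglyClosed T) (h : Pair F T P W) {P' W' U : Subgroup Ω}
    {f : Ω → Ω} (hf : Mor F U f) (hU : W ≤ U) (hP : Im f P P') (hW : Im f W W') :
    Pair F T P' W' := by
  refine ⟨h.toBase.image hT hf hU hP hW, fun g hg c hc hcW => ?_⟩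
  obtain ⟨x, hx, e⟩ := h.cent (g ∘ f) ((hf.mono hU).comp hg fun x hx => hW.mem hx) c hc
    fun w hw => hcW _ (hW.mem hw)
  exact ⟨f x, hP.mem hx, e⟩

/-- An element normalizing a subgroup in the image normalizes. -/
theorem mem_normalizer_upV (hT : F.StronglyClosed T) (hB : Base S T P W) {g : Ω} (hg : g ∈ S)
    (hgP : g ∈ Subgroup.normalizer (P : Set Ω)) (hgW : g ∈ Subgroup.normalizer (W : Set Ω))
    (i : ℕ) : g ∈ Subgroup.normalizer (upV T P W i : Set Ω) :=
  mem_normalizer_sup ((upN_le hB.PT i).trans hT.1) hB.WS (mem_normalizer_upN hT hB hg hgP hgW i) hgW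

theorem disp_of_sup {V A C B : Subgroup Ω} (hV : V = A ⊔ C)
    (hn : V ≤ Subgroup.normalizer (B : Set Ω)) {d : MulAut V}
    (hA : ∀ v : V, (v : Ω) ∈ A → (v : Ω)⁻¹ * ((d v : V) : Ω) ∈ B)
    (hC : ∀ v : V, (v : Ω) ∈ C → (v : Ω)⁻¹ * ((d v : V) : Ω) ∈ B) : d ∈ modStab B V := by
  let D : Subgroup V :=
    { carrier := {v | (v : Ω)⁻¹ * ((d v : V) : Ω) ∈ B}
      one_mem' := by simp
      mul_mem' := fun {u v} hu hv => by
        show ((u * v : V) : Ω)⁻¹ * ((d (u * v) : V) : Ω) ∈ B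
        have h1 := (Subgroup.mem_normalizer_iff''.1 (hn v.2) _).1 hu
        have h2 := mul_mem h1 hv
        rw [map_mul, Subgroup.coe_mul, Subgroup.coe_mul]
        simpa [mul_assoc] using h2
      inv_mem' := fun {u} hu => by
        show ((u⁻¹ : V) : Ω)⁻¹ * ((d u⁻¹ : V) : Ω) ∈ B
        have h1 := (Subgroup.mem_normalizer_iff.1 (hn u.2) _).1 (B.inv_mem hu)
        simpa [mul_assoc] using h1 }
  have hle : V ≤ D.map V.subtype := hV.le.trans
    (sup_le (fun a ha => ⟨⟨a, hV.ge (Subgroup.mem_sup_left ha)⟩, hA _ ha, rfl⟩)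
      fun c hc => ⟨⟨c, hV.ge (Subgroup.mem_sup_right hc)⟩, hC _ hc, rfl⟩)
  intro v
  obtain ⟨u, hu, e⟩ := hle v.2
  exact (show u = v from Subtype.ext e) ▸ hu

/-- An element of `trC` acts on the level below as an element of `fixMod`. -/
theorem exists_conj_trC (hT : F.StronglyClosed T) (hB : Base S T P W) {i : ℕ} {g : Ω}
    (hg : g ∈ trC T (upN T P W i) W) : ∃ α ∈ fixMod (upN T P W i) (upV T P W i),
      α ∈ F.autGroup (upV T P W i) ∧
      ∀ v : upV T P W i, ((α v : upV T P W i) : Ω) = g * v * g⁻¹ := by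
  set Q := upN T P W i
  have hgS : g ∈ S := hT.1 hg.1
  have hVS := upV_le_S hT hB i
  have hQc : ∀ q ∈ Q, g * q * g⁻¹ = q := fun q hq => by
    rw [← hg.2.1 q hq, mul_inv_cancel_right]
  have hWd : ∀ w ∈ W, g * w * g⁻¹ * w⁻¹ ∈ Q := fun w hw => by
    have := Q.inv_mem (hg.2.2 w hw)
    simpa [mul_assoc] using this
  have hgV : g ∈ Subgroup.normalizer (upV T P W i : Set Ω) :=
    mem_normalizer_of_conj_mem hVS (mor_sup_le (Mor.conj_mor (F := F) hVS hgS) le_rfl
      (fun q hq => Subgroup.mem_sup_left (by simpa only [hQc q hq] using hq))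
      fun w hw => by
        have h1 := mul_mem (Subgroup.mem_sup_left (T := W) (hWd w hw)) (Subgroup.mem_sup_right hw)
        simpa [upV] using h1)
  obtain ⟨α, hα, hαe⟩ := exists_conj_aut_of_mem (F := F) hVS ⟨hgS, hgV⟩
  have hfix : α ∈ fixAut Q (upV T P W i) := fun v hv => Subtype.ext ((hαe v).trans (hQc v hv))
  refine ⟨α, ⟨hfix, disp_of_sup rfl (upV_le_normalizer hT hB i)
    (fun v hv => by rw [hfix v hv, inv_mul_cancel]; exact one_mem Q) fun v hv => ?_⟩, hα, hαe⟩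
  rw [hαe]
  have h1 := (Subgroup.mem_normalizer_iff''.1 (hB.le_normalizer_upN hT i hv) _).1 (hWd v hv)
  simpa [mul_assoc] using h1

variable {p : ℕ} [Fact p.Prime] (hS : IsPGroup p S)

include hS in
/-- An automorphism of a level fixing `W` pointwise is a `p`-element. -/
theorem pElement_of_fix (hT : F.StronglyClosed T) (h : Pair F T P W) {j : ℕ}
    {α : MulAut ↥(upV T P W j)} (hα : α ∈ F.autGroup (upV T P W j))
    (hW : ∀ v : upV T P W j, (v : Ω) ∈ W → α v = v) : ∃ k : ℕ, α ^ p ^ k = 1 := by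
  have hVS : (upV T P W j) ≤ S := upV_le_S hT h.toBase j
  suffices key : ∀ i, i ≤ j → ∃ k : ℕ, ∀ v : (upV T P W j), (v : Ω) ∈ upV T P W i → (α ^ p ^ k) v = v by
    obtain ⟨k, hk⟩ := key j le_rfl
    exact ⟨k, MulEquiv.ext fun v => hk v v.2⟩
  intro i
  induction i with
  | zero =>
    exact fun _ => ⟨0, fun v hv => by
      rw [pow_zero, pow_one]; exact hW v ((sup_le h.PW le_rfl : P ⊔ W ≤ W) hv)⟩
  | succ i ih =>
    intro hij
    obtain ⟨k, hk⟩ := ih (Nat.le_of_succ_le hij)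
    let U := upV T P W (i + 1)
    have hUV : U ≤ (upV T P W j) := upV_mono hij
    have hiU : upV T P W i ≤ U := sup_le_sup_right (upN_succ_le i) W
    haveI : Finite U := finite_of_le (hUV.trans hVS)
    obtain ⟨f, hf, -, hfe⟩ := exists_mor_of_aut hVS (pow_mem hα (p ^ k))
    have hfix : ∀ x ∈ upV T P W i, f x = x := fun x hx =>
      (hfe ⟨x, hUV (hiU hx)⟩).trans (congrArg Subtype.val (hk _ hx))
    have hid : ∀ A, A ≤ upV T P W i → Im f A A := fun A hA =>
      (im_id A).congr fun x hx => hfix x (hA hx)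
    have hU : ∀ x ∈ U, f x ∈ U :=
      mor_sup_le hf hUV (fun x hx => Subgroup.mem_sup_left
        (map_up hT hf hUV (hid _ le_sup_left) (hid _ le_sup_right) x hx))
        fun x hx => Subgroup.mem_sup_right ((hid _ le_sup_right).mem hx)
    obtain ⟨d, hd⟩ := exists_agree hUV (α ^ p ^ k) fun v hv => by rw [← hfe]; exact hU _ hv
    have hde : ∀ u : U, ((d u : U) : Ω) = f u := fun u => (hd u).symm.trans (hfe _).symm
    have hdfix : ∀ u : U, (u : Ω) ∈ upV T P W i → d u = u := fun u hu =>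
      Subtype.ext ((hde u).trans (hfix u hu))
    have hn : U ≤ Subgroup.normalizer (upN T P W i : Set Ω) :=
      sup_le (sup_le Subgroup.le_normalizer fun y hy => mem_normalizer_of_conj_mem
          ((upN_le h.PT i).trans hT.1) fun q hq => by
            rw [← hy.2.1 q hq, mul_inv_cancel_right]; exact hq)
        (h.toBase.le_normalizer_upN hT i)
    have hmod : d ∈ modStab (upN T P W i) U := by
      refine disp_of_sup (A := upN T P W i ⊔ W) (C := trC T (upN T P W i) W) ?_ hn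
        (fun u hu => by rw [hdfix u hu, inv_mul_cancel]; exact one_mem _) fun u hu => ?_
      · exact sup_right_comm _ _ _
      · rw [hde]
        refine le_upN i (h.cent_id (mul_mem (T.inv_mem hu.1) (mor_apply_mem hT hf (hUV u.2) hu.1))
          fun w hw => ?_)
        have hwU : w ∈ (upV T P W j) := Subgroup.mem_sup_right hw
        have hwy := hu.2.2 w hw
        have h1 := hfix _ (Subgroup.mem_sup_left hwy : _ ∈ upV T P W i)
        rw [hf.map_mul (mul_mem (mul_mem hwU (hUV u.2)) (inv_mem hwU)) (inv_mem (hUV u.2)),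
          hf.map_conj hwU (hUV u.2), hf.map_inv (hUV u.2),
          hfix w (Subgroup.mem_sup_right hw)] at h1
        calc w * ((u : Ω)⁻¹ * f u) = w * (u : Ω)⁻¹ * w⁻¹ * (w * f u * w⁻¹ * (f u)⁻¹) * f u * w := by
              group
          _ = w * (u : Ω)⁻¹ * w⁻¹ * (w * u * w⁻¹ * (u : Ω)⁻¹) * f u * w := by rw [h1]
          _ = (u : Ω)⁻¹ * f u * w := by group
    obtain ⟨l, hl⟩ := exists_pow_eq_one_of_fix hS (le_sup_left.trans hiU) (hUV.trans hVS)
      (fun u hu => hdfix u (Subgroup.mem_sup_left hu)) hmod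
    refine ⟨k + l, fun v hv => Subtype.ext ?_⟩
    have h1 := (hd.pow (p ^ l)) ⟨v, hv⟩
    rw [hl, ← pow_mul, ← pow_add] at h1
    exact h1

end CfsgLib.Balance
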