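import Cfsg.Agent.Fusion.Balance.Acts

/-!
At a fully normalized member the elements of order prime to `p` of the family are the expected
ones, and the conjugations by `C_T(X)` form a Sylow subgroup of it.
-/

set_option autoImplicit false
set_option linter.style.haveILetI false
set_option linter.unusedSectionVars false

open Cfsg Cfsg.FusionSystem CfsgLib.Fusion CfsgLib.FocCent CfsgLib.NormCent CfsgLib.NormExt
open CfsgLib.Meet

namespace CfsgLib.Balance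

universe u

variable {Ω : Type u} [Group Ω] {S T P X : Subgroup Ω} {F : FusionSystem S} {E : FusionSystem T}
  {p : ℕ}

theorem im_back {U A A₁ A' : Subgroup Ω} {θ θ₁ t : Ω → Ω} (hA : A ≤ U)
    (ht : ∀ x ∈ U, t (θ₁ x) = x) (h₁ : Im θ₁ A A₁) (h' : Im θ A A') : Im (θ ∘ t) A₁ A' := by
  intro y
  rw [h' y]
  constructor
  · rintro ⟨x, hx, rfl⟩
    exact ⟨θ₁ x, h₁.mem hx, congrArg θ (ht x (hA hx))⟩
  · rintro ⟨z, hz, rfl⟩
    obtain ⟨x, hx, rfl⟩ := h₁.surj hz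
    exact ⟨x, hx, (congrArg θ (ht x (hA hx))).symm⟩

variable [Finite S] [Fact p.Prime] (hS : IsPGroup p S) (hF : F.IsSaturated p)
  (hE : E.IsInvariantIn F)

section

variable (hB : Base S T P (P ⊔ X)) (hfr : Framed F E p P X)
  (L : LocalGroup F p (endN S T P (P ⊔ X)) hfr.fn.1) {K : Subgroup L.G} (hK : IsKer L E K)

include hS hF hE hB hK in
/-- A transported conjugation by an element of `T` centralizing `X` is realised inside `jSub`. -/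
theorem trans_acts (hG : GoodPos F T P (P ⊔ X)) {P' X' : Subgroup Ω}
    (hB' : Base S T P' (P' ⊔ X')) {χ : Ω → Ω} (hχ : Mor F (P' ⊔ X') χ) (hχP : Im χ P' P)
    (hχX : Im χ X' X) {e : P' ≃* P} (he : ∀ x : P', ((e x : P) : Ω) = χ x) {r : Ω} (hrT : r ∈ T)
    (hrP : r ∈ Subgroup.normalizer (P' : Set Ω)) (hrX : ∀ x ∈ X', x * r = r * x) {c : MulAut P'}
    (hc : ∀ x : P', ((c x : P') : Ω) = r * x * r⁻¹) :
    ∃ g ∈ jSub K P X, Acts L (P_le_normIn hE hB) g (MulAut.congr e c) := by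
  have hT := hE.2.1
  have hrS : r ∈ S := hT.1 hrT
  have hrn : r ∈ Subgroup.normalizer ((P' ⊔ X' : Subgroup Ω) : Set Ω) :=
    mem_normalizer_sup (hB'.PW.trans hB'.WS) ((le_sup_right : X' ≤ P' ⊔ X').trans hB'.WS) hrP
      (centralizer_le_normalizer' X' (fun x hx => hrX x hx))
  obtain ⟨θ', P₃, X₃, hR₃, hθ'⟩ := exists_reach hS hF hT hB' (N := Subgroup.zpowers r)
    (Subgroup.zpowers_le.2 hrS) (Subgroup.zpowers_le.2 hrP) (Subgroup.zpowers_le.2 hrn)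
  have hrU : r ∈ Subgroup.zpowers r ⊔ (P' ⊔ X') := Subgroup.mem_sup_left (Subgroup.mem_zpowers r)
  have hW'U : P' ⊔ X' ≤ Subgroup.zpowers r ⊔ (P' ⊔ X') := le_sup_right
  have hB₃ := hB'.reach hT hR₃
  obtain ⟨t, ht, htW, ht1, -⟩ := hR₃.mor.exists_inv hR₃.imW
  have hχ₃ : Mor F (P₃ ⊔ X₃) (χ ∘ t) := ht.comp hχ fun x hx => htW.mem hx
  have hχ₃P := im_back le_sup_left ht1 hR₃.imP hχP
  have hχ₃X := im_back le_sup_right ht1 hR₃.imX hχX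
  obtain ⟨η₀, hη₀, hη₀e, hη₀N, hη₀V⟩ :=
    exists_extN hS hF hT _ hB₃ hR₃.good hG hχ₃ hχ₃P (im_sup hχ₃ le_rfl hχ₃P hχ₃X)
  obtain ⟨hfa, hrec⟩ := good_of_fullyNormalized p hS hF hfr.fn
  obtain ⟨φ, hφ, -, hφm⟩ := exists_map_normalizer p hS hfa hrec
    (hη₀.isConj le_sup_left hη₀N)
  obtain ⟨h, hh, hhe⟩ := Mor.of_mem hφ
  have hQ₃S : endN S T P₃ (P₃ ⊔ X₃) ≤ S := hB₃.upN_le_S hT _
  have hhQ : Im h (endN S T P₃ (P₃ ⊔ X₃)) (endN S T P (P ⊔ X)) := fun y => by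
    constructor
    · intro hy
      obtain ⟨x, hx, hxQ, rfl⟩ := mem_map_subgroupOf.1 (hφm.ge hy)
      exact ⟨x, hxQ, hhe ⟨x, hx⟩⟩
    · rintro ⟨x, hx, rfl⟩
      exact hφm.le (mem_map_subgroupOf.2 ⟨x, le_normalizerIn hQ₃S hx, hx, (hhe _).symm⟩)
  have hV₃N : upV T P₃ (P₃ ⊔ X₃) (Nat.card S) ≤ normalizerIn S (endN S T P₃ (P₃ ⊔ X₃)) :=
    fun x hx => ⟨upV_le_S hT hB₃ _ hx, upV_le_normalizer hT hB₃ _ hx⟩
  have hW₃N := (le_sup_right : P₃ ⊔ X₃ ≤ upV T P₃ (P₃ ⊔ X₃) (Nat.card S)).trans hV₃N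
  have hP₃r : θ' r ∈ normalizerIn S P₃ :=
    hθ'.mem_normalizerIn (le_sup_left.trans hW'U) hR₃.imP hrU hrP
  have hW₃r : θ' r ∈ normalizerIn S (P₃ ⊔ X₃) := hθ'.mem_normalizerIn hW'U hR₃.imW hrU hrn
  have hr₃N : θ' r ∈ normalizerIn S (endN S T P₃ (P₃ ⊔ X₃)) :=
    ⟨hP₃r.1, mem_normalizer_upN hT hB₃ hP₃r.1 hP₃r.2 hW₃r.2 _⟩
  obtain ⟨P₄, hP₄⟩ := hh.exists_im (le_sup_left.trans hW₃N)
  obtain ⟨X₄, hX₄⟩ := hh.exists_im (le_sup_right.trans hW₃N)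
  have hW₄ := im_sup hh hW₃N hP₄ hX₄
  have hB₄ := hB₃.image hT hh hW₃N hP₄ hW₄
  obtain ⟨-, hi₄⟩ := goodN_image hT hB₃ hR₃.good hh hV₃N hP₄ hW₄
  have hQ₄ : endN S T P₄ (P₄ ⊔ X₄) = endN S T P (P ⊔ X) := hi₄.unique hhQ
  have hV₄ := im_sup hh hV₃N hi₄ hW₄
  -- the element
  have hr₄T : h (θ' r) ∈ T := mor_apply_mem hT hh hr₃N (mor_apply_mem hT hθ' hrU hrT)
  have hr₄Q : h (θ' r) ∈ normalizerIn S (endN S T P (P ⊔ X)) :=
    hh.mem_normalizerIn (le_normalizerIn hQ₃S) hhQ hr₃N hr₃N.2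
  have hr₄P : h (θ' r) ∈ normalizerIn S P₄ :=
    hh.mem_normalizerIn (le_sup_left.trans hW₃N) hP₄ hr₃N hP₃r.2
  have hr₄W : h (θ' r) ∈ normalizerIn S (P₄ ⊔ X₄) := hh.mem_normalizerIn hW₃N hW₄ hr₃N hW₃r.2
  have hr₄X : ∀ y ∈ X₄, h (θ' r) * y * (h (θ' r))⁻¹ = y := fun y hy => by
    obtain ⟨z, hz, rfl⟩ := hX₄.surj hy
    obtain ⟨x, hx, rfl⟩ := hR₃.imX.surj hz
    have hxU : x ∈ Subgroup.zpowers r ⊔ (P' ⊔ X') := hW'U (Subgroup.mem_sup_right hx)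
    rw [← hh.map_conj hr₃N (hW₃N (Subgroup.mem_sup_right hz)), ← hθ'.map_conj hrU hxU,
      show r * x * r⁻¹ = x by rw [← hrX x hx, mul_inv_cancel_right]]
  have hr₄V : h (θ' r) ∈ normalizerIn S (upV T P₄ (P₄ ⊔ X₄) (Nat.card S)) :=
    ⟨hr₄P.1, mem_normalizer_upV hT hB₄ hr₄P.1 hr₄P.2 hr₄W.2 _⟩
  have hQV₄ : endN S T P (P ⊔ X) ≤ upV T P₄ (P₄ ⊔ X₄) (Nat.card S) := hQ₄ ▸ le_sup_left
  have hV₄N : upV T P₄ (P₄ ⊔ X₄) (Nat.card S) ≤ normalizerIn S (endN S T P (P ⊔ X)) := fun x hx =>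
    ⟨upV_le_S hT hB₄ _ hx, hQ₄ ▸ upV_le_normalizer hT hB₄ _ hx⟩
  obtain ⟨hi, hhi, hhiV, hhi1, -⟩ := (hh.mono hV₃N).exists_inv hV₄
  let η₄ := η₀ ∘ hi
  have hη₄ : Mor F (upV T P₄ (P₄ ⊔ X₄) (Nat.card S)) η₄ :=
    hhi.comp hη₀ fun x hx => hhiV.mem hx
  have hη₄V := im_back le_rfl hhi1 hV₄ hη₀V
  have hη₄Q : Im η₄ (endN S T P (P ⊔ X)) (endN S T P (P ⊔ X)) :=
    im_back le_sup_left hhi1 hhQ hη₀N
  have hη₄P : Im η₄ P₄ P := im_back (le_sup_left.trans le_sup_right) hhi1 hP₄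
    (hχ₃P.congr fun x hx => hη₀e x (Subgroup.mem_sup_left hx))
  have hη₄X : Im η₄ X₄ X := im_back (le_sup_right.trans le_sup_right) hhi1 hX₄
    (hχ₃X.congr fun x hx => hη₀e x (Subgroup.mem_sup_right hx))
  have hη₄N : Mor (normSystem F (endN S T P (P ⊔ X)) hfr.fn.1) _ η₄ :=
    mor_norm hfr.fn.1 hη₄ hQV₄ hV₄N hη₄Q
  obtain ⟨e₄, he₄, he₄e⟩ := exists_isoIn hη₄N le_rfl hη₄V
  haveI : Finite ↥(normalizerIn S (endN S T P (P ⊔ X))) := finite_of_le (normalizerIn_le_S _)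
  have hP₄V : P₄ ≤ upV T P₄ (P₄ ⊔ X₄) (Nat.card S) := le_sup_left.trans le_sup_right
  have hX₄V : X₄ ≤ upV T P₄ (P₄ ⊔ X₄) (Nat.card S) := le_sup_right.trans le_sup_right
  have hV₄S := upV_le_S hT hB₄ (Nat.card S)
  obtain ⟨c₄, hc₄, hc₄e⟩ : ∃ c₄ : MulAut ↥(upV T P₄ (P₄ ⊔ X₄) (Nat.card S)),
      c₄ = conjAut S _ ⟨h (θ' r), hr₄V⟩ ∧
        ∀ v, ((c₄ v : upV T P₄ (P₄ ⊔ X₄) (Nat.card S)) : Ω) = h (θ' r) * v * (h (θ' r))⁻¹ :=
    ⟨_, rfl, fun _ => rfl⟩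
  have hc₄F : c₄ ∈ F.autGroup (upV T P₄ (P₄ ⊔ X₄) (Nat.card S)) :=
    autInducedBy_le_autGroup hV₄S (mem_autInducedBy.2 ⟨_, hr₄V.1, hc₄e⟩)
  have heF : IsoIn F e₄ := he₄.1
  set β := MulAut.congr e₄ c₄ with hβdef
  have hconj : ∀ {A : Subgroup Ω}, h (θ' r) ∈ Subgroup.normalizer (A : Set Ω) →
      ∀ v : upV T P₄ (P₄ ⊔ X₄) (Nat.card S), (v : Ω) ∈ A →
        ((c₄ v : upV T P₄ (P₄ ⊔ X₄) (Nat.card S)) : Ω) ∈ A := fun {A} hA v hv => by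
    rw [hc₄e]; exact (Subgroup.mem_normalizer_iff.1 hA _).1 hv
  have hβ : β ∈ gammaE F E P X := by
    refine ⟨⟨⟨⟨fun y hy => ?_, congr_stabX hη₄ le_rfl hP₄V hη₄P he₄e
      (mem_stabX_of_forall hV₄S hP₄V (hconj hr₄P.2))⟩, congr_stabX hη₄ le_rfl hQV₄ hη₄Q he₄e
      (mem_stabX_of_forall hV₄S hQV₄ (hconj hr₄Q.2))⟩, heF.congr_mem hc₄F⟩, ?_⟩
    · obtain ⟨x, rfl⟩ := e₄.surjective y
      rw [hβdef, congr_apply_apply]
      refine congrArg e₄ (Subtype.ext ((hc₄e x).trans (hr₄X x ?_)))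
      obtain ⟨z, hz, hze⟩ := hη₄X.surj hy
      rw [he₄e] at hze
      exact hη₄.inj (hX₄V hz) x.2 hze ▸ hz
    · obtain ⟨eQ, heQ, heQe⟩ := exists_isoIn hη₄ hQV₄ hη₄Q
      refine ⟨MulAut.congr eQ (conjAut S _ ⟨h (θ' r), hr₄Q⟩),
        autGroup_equiv hE (upN_le hB.PT _) heQ (autInducedBy_le_autGroup (upN_le hB.PT _)
          (mem_autInducedBy.2 ⟨h (θ' r), hr₄T, fun _ => rfl⟩)), ?_⟩
      exact agree_congr le_sup_left (hPW := hQV₄) (fun x => (he₄e _).trans (heQe x).symm)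
        fun x => hc₄e _
  obtain ⟨k, hk⟩ := hS ⟨_, hr₄P.1⟩
  obtain ⟨η₁, hη₁, hη₁i⟩ := hfr.sylow β hβ ⟨k, by
    rw [hβdef, ← map_pow, hc₄, ← map_pow, show (⟨h (θ' r), hr₄V⟩ :
      ↥(S ⊓ Subgroup.normalizer (upV T P₄ (P₄ ⊔ X₄) (Nat.card S) : Set Ω))) ^ p ^ k = 1 from
        Subtype.ext (by simpa using congrArg Subtype.val hk), map_one, map_one]⟩
  have hη₁N : η₁ ∈ (normSystem F (endN S T P (P ⊔ X)) hfr.fn.1).autGroup
      (upV T P (P ⊔ X) (Nat.card S)) :=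
    mem_norm_aut hfr.fn.1 le_sup_left (upV_le_normIn hE hB) hη₁.1.2 hη₁.1.1.2
  obtain ⟨f₁, hf₁, -, hf₁e⟩ := exists_ext_of_conj hfr.receptive
    (he₄.trans (isoIn_of_aut (upV_le_normIn hE hB) hη₁N)) (N := Subgroup.zpowers (h (θ' r)))
    fun z hz => by
      obtain ⟨i, rfl⟩ := Subgroup.mem_zpowers_iff.1 hz
      refine ⟨zpow_mem hr₄Q i, c₄ ^ i, fun v => ?_, ?_⟩
      · rw [hc₄, ← map_zpow]
        exact congrArg (fun z => z * (v : Ω) * z⁻¹) (by simp)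
      · rw [map_zpow]
        refine zpow_mem ?_ i
        rw [congr_congr, congr_eq_conj]
        exact hη₁i
  have hzU : h (θ' r) ∈ Subgroup.zpowers (h (θ' r)) ⊔ upV T P₄ (P₄ ⊔ X₄) (Nat.card S) :=
    Subgroup.mem_sup_left (Subgroup.mem_zpowers _)
  have htQ : f₁ (h (θ' r)) ∈ normalizerIn S (endN S T P (P ⊔ X)) := hf₁.mem_S hzU
  have htT : f₁ (h (θ' r)) ∈ T :=
    mor_apply_mem hT (mor_of_norm hfr.fn.1 (hQV₄.trans le_sup_right) hf₁).1 hzU hr₄T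
  obtain ⟨g₁, hg₁, -⟩ := exists_realise hS hE hB hfr L hK hη₁
  let j := g₁⁻¹ * L.ι ⟨_, htQ⟩ * g₁
  have hj : ∀ w : upV T P (P ⊔ X) (Nat.card S),
      j * L.ι ⟨w, upV_le_normIn hE hB w.2⟩ * j⁻¹ =
        L.ι ⟨((β w : upV T P (P ⊔ X) (Nat.card S)) : Ω), upV_le_normIn hE hB (β w).2⟩ := by
    intro w
    obtain ⟨v, rfl⟩ := e₄.surjective w
    have h1 : L.ι ⟨_, htQ⟩ *
        L.ι ⟨((η₁ (e₄ v) : upV T P (P ⊔ X) (Nat.card S)) : Ω), upV_le_normIn hE hB (η₁ (e₄ v)).2⟩ *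
          (L.ι ⟨_, htQ⟩)⁻¹ =
        L.ι ⟨((η₁ (e₄ (c₄ v)) : upV T P (P ⊔ X) (Nat.card S)) : Ω),
          upV_le_normIn hE hB (η₁ (e₄ (c₄ v))).2⟩ := by
      rw [← map_inv, ← map_mul, ← map_mul]
      refine congrArg L.ι (Subtype.ext ?_)
      show f₁ (h (θ' r)) * ((η₁ (e₄ v) : upV T P (P ⊔ X) (Nat.card S)) : Ω) * (f₁ (h (θ' r)))⁻¹ = _
      have e1 := hf₁e v
      rw [MulEquiv.trans_apply] at e1
      rw [← e1, ← hf₁.map_conj hzU (Subgroup.mem_sup_right v.2), ← hc₄e, hf₁e,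
        MulEquiv.trans_apply]
    rw [hβdef, congr_apply_apply]
    calc j * L.ι ⟨_, upV_le_normIn hE hB (e₄ v).2⟩ * j⁻¹
        = g₁⁻¹ * (L.ι ⟨_, htQ⟩ * (g₁ * L.ι ⟨_, upV_le_normIn hE hB (e₄ v).2⟩ * g₁⁻¹) *
            (L.ι ⟨_, htQ⟩)⁻¹) * g₁ := by simp only [j]; group
      _ = g₁⁻¹ * (g₁ * L.ι ⟨_, upV_le_normIn hE hB (e₄ (c₄ v)).2⟩ * g₁⁻¹) * g₁ := by
            rw [hg₁, h1, ← hg₁]
      _ = _ := by group
  obtain ⟨hjX, hjP⟩ := realise_norm hE hB hfr L hβ.1 hj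
  have hjK : j ∈ K := by
    have h1 := hK.normal.conj_mem _ (hK.mem ⟨_, htQ⟩ htT) g₁⁻¹
    rwa [inv_inv] at h1
  refine ⟨j, ⟨⟨hjK, hjX⟩, hjP⟩, fun y => ?_⟩
  obtain ⟨x, rfl⟩ := e.surjective y
  have hxW : (x : Ω) ∈ P' ⊔ X' := Subgroup.mem_sup_left x.2
  have hx₃ : θ' x ∈ upV T P₃ (P₃ ⊔ X₃) (Nat.card S) := Subgroup.mem_sup_right (hR₃.imW.mem hxW)
  have hx₄ : h (θ' x) ∈ upV T P₄ (P₄ ⊔ X₄) (Nat.card S) := hV₄.mem hx₃
  have hkey : ∀ z : P', η₄ (h (θ' z)) = χ z := fun z => by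
    have hzW : (z : Ω) ∈ P' ⊔ X' := Subgroup.mem_sup_left z.2
    show η₀ (hi (h (θ' z))) = χ z
    rw [hhi1 _ (Subgroup.mem_sup_right (hR₃.imW.mem hzW)), hη₀e _ (hR₃.imW.mem hzW)]
    exact congrArg χ (ht1 _ hzW)
  have hey : ((e₄ ⟨_, hx₄⟩ : upV T P (P ⊔ X) (Nat.card S)) : Ω) = ((e x : P) : Ω) := by
    rw [he₄e, he]
    exact hkey x
  have hcx : ((β (e₄ ⟨_, hx₄⟩) : upV T P (P ⊔ X) (Nat.card S)) : Ω) =
      ((MulAut.congr e c (e x) : P) : Ω) := by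
    rw [hβdef, congr_apply_apply, congr_apply_apply, he₄e, hc₄e, he, ← hkey (c x), hc,
      hθ'.map_conj hrU (hW'U hxW), hh.map_conj hr₃N (hW₃N (hR₃.imW.mem hxW))]
  have h2 := hj (e₄ ⟨_, hx₄⟩)
  simp only [hey, hcx] at h2
  exact h2

end

variable (hXc : F.IsFullyCentralized X)

include hS hF in
theorem balFam_facts (hEn : E.IsNormalIn F p) {P : Subgroup Ω}
    (hP : SelfCentralizingIn (centSystem F X hXc.1) (centralizerIn T X) P)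
    (hn : (centSystem F X hXc.1).IsFullyNormalized P) :
    (∀ a ∈ balFam F E p X hXc.1 P, (orderOf a).Coprime p → InA F E p P X a) ∧
      ∀ B : Subgroup (MulAut P), IsPGroup p B → autInducedBy (centralizerIn T X) P ≤ B →
        B ≤ balFam F E p X hXc.1 P → B ≤ autInducedBy (centralizerIn T X) P := by
  classical
  have hinv := hEn.1.2.2
  have hT := hinv.2.1
  have hp := pair_of_sc hS hF hXc hT hP
  obtain ⟨θ, P₂, X₂, hR, hfr⟩ := exists_framed hS hF hinv hp.toBase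
  have hp₂ := hp.reach hT hR
  have hB₂ := hp₂.toBase
  have hsc := GoodPos.sc hS hF hT hB₂ hR.good
  obtain ⟨L⟩ := exists_localGroup hS hF hfr.fn
  obtain ⟨K, hK1, hK2, hK3, hK4, hK5, hK6⟩ := exists_kernel_side L hS hF hfr.fn hEn hsc
  have hK : IsKer L E K := ⟨hK1, hK2, hK3, hK4, hK5, hK6⟩
  obtain ⟨e, he', he⟩ := exists_isoIn hR.mor le_sup_left hR.imP
  obtain ⟨t, ht, htW, ht1, -⟩ := hR.mor.exists_inv hR.imW
  let B₁ : Subgroup (MulAut P) :=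
    { carrier := {a | ∃ g ∈ jSub K P₂ X₂, Acts L (P_le_normIn hinv hB₂) g (MulAut.congr e a)}
      one_mem' := ⟨1, one_mem _, by rw [map_one]; exact Acts.one⟩
      mul_mem' := fun ⟨g, hg, h₁⟩ ⟨g', hg', h₂⟩ =>
        ⟨g * g', mul_mem hg hg', by rw [map_mul]; exact h₁.mul h₂⟩
      inv_mem' := fun ⟨g, hg, h₁⟩ => ⟨g⁻¹, Subgroup.inv_mem _ hg, by rw [map_inv]; exact h₁.inv⟩ }
  have hA : balFam F E p X hXc.1 P ≤ B₁ := by
    refine (Subgroup.closure_le _).2 ?_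
    rintro a (ha | ⟨P', e', r, c, he'', hr, hc, rfl⟩)
    · obtain ⟨g, hg, hgX, hga⟩ := InA.exists_mor (E := E) ha
      have hgW : ∀ x ∈ P ⊔ X, g x ∈ P ⊔ X := mor_sup_le hg le_rfl
        (fun x hx => Subgroup.mem_sup_left (Set.mem_of_eq_of_mem (hga ⟨x, hx⟩) (a _).2))
        fun x hx => Subgroup.mem_sup_right (Set.mem_of_eq_of_mem (hgX x hx) hx)
      have hco : (orderOf (MulAut.congr e a)).Coprime p := by
        rw [MulEquiv.orderOf_eq]; exact ha.1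
      obtain ⟨b, f, hl⟩ := exists_lift hS hF hT hB₂ hR.good hco (g := θ ∘ g ∘ t)
        ((ht.comp hg fun x hx => htW.mem hx).comp hR.mor fun x hx => hgW _ (htW.mem hx))
        (fun y hy => by
          obtain ⟨x, hx, rfl⟩ := hR.imX.surj hy
          show θ (g (t (θ x))) = θ x
          rw [ht1 x (Subgroup.mem_sup_right hx), hgX x hx])
        fun y => by
          obtain ⟨x, rfl⟩ := e.surjective y
          rw [congr_apply_apply, he, he]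
          show θ (g (t (θ x))) = θ ((a x : P) : Ω)
          rw [ht1 x (Subgroup.mem_sup_left x.2), hga]
      exact lift_acts hS hinv hB₂ hfr L hK hco hl
        (ha.mem hS hF hT hinv hp hR he hl ⟨0, by rw [pow_zero, pow_one, inv_mul_cancel]⟩)
    · obtain ⟨f, hf, hfi, hfe⟩ := he''.exists_mor
      obtain ⟨fe, hfe', hfee, hfeX⟩ := mor_of_cent hXc.1 hf
      have hP' := hP.of_isConj (stronglyClosed_cent hXc.1 hT) he''.symm.isConj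
      have hW : Im fe (P' ⊔ X) (P ⊔ X) :=
        im_sup hfe' le_rfl (hfi.congr hfee) ((im_id X).congr hfeX)
      show ∃ g ∈ jSub K P₂ X₂, Acts L _ g (MulAut.congr e (MulAut.congr e' c))
      rw [← congr_congr]
      exact trans_acts hS hF hinv hB₂ hfr L hK hR.good (base_cent hXc.1 hT hP'.1) (χ := θ ∘ fe)
        (hfe'.comp hR.mor fun x hx => hW.mem hx) ((hfi.congr hfee).comp hR.imP)
        (((im_id X).congr hfeX).comp hR.imX) (e := e'.trans e)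
        (fun x => by
          rw [MulEquiv.trans_apply, he, ← hfe x, ← hfee x x.2]
          rfl)
        hr.1.1 hr.2 (fun x hx => hr.1.2 x hx) hc
  refine ⟨fun a ha hco => ?_, fun B hBp hRB hBA => ?_⟩
  · obtain ⟨g, hg, hga⟩ := hA ha
    obtain ⟨b, f, hl, hb⟩ := acts_lift hS hinv hB₂ hfr L hK hg
      (by rw [MulEquiv.orderOf_eq]; exact hco) hga
    exact ⟨hco, P₂, X₂, θ, e, b, f, hR, he, hl, hb⟩
  -- the Sylow subgroup
  have hQN : endN S T P₂ (P₂ ⊔ X₂) ≤ normalizerIn S (endN S T P₂ (P₂ ⊔ X₂)) :=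
    le_normalizerIn (hB₂.upN_le_S hT _)
  have hVN := upV_le_normIn hinv hB₂
  let H : Subgroup L.G :=
    { carrier := {g | g ∈ jSub K P₂ X₂ ∧ ∃ b ∈ B, Acts L (P_le_normIn hinv hB₂) g (MulAut.congr e b)}
      one_mem' := ⟨one_mem _, 1, one_mem _, by rw [map_one]; exact Acts.one⟩
      mul_mem' := fun ⟨hg, b, hb, h₁⟩ ⟨hg', b', hb', h₂⟩ =>
        ⟨mul_mem hg hg', b * b', mul_mem hb hb', by rw [map_mul]; exact h₁.mul h₂⟩
      inv_mem' := fun ⟨hg, b, hb, h₁⟩ =>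
        ⟨Subgroup.inv_mem _ hg, b⁻¹, Subgroup.inv_mem _ hb, by rw [map_inv]; exact h₁.inv⟩ }
  haveI : Finite P := finite_of_le (hp.PW.trans hp.WS)
  haveI : Finite (MulAut P) := finite_mulAut
  have hspec : ∀ g : H, ∃ b : B, Acts L (P_le_normIn hinv hB₂) g (MulAut.congr e b) :=
    fun g => ⟨⟨_, g.2.2.choose_spec.1⟩, g.2.2.choose_spec.2⟩
  let ψ : H →* B := MonoidHom.mk' (fun g => (hspec g).choose) fun g g' => Subtype.ext
    ((MulAut.congr e).injective (((hspec (g * g')).choose_spec.unique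
      ((hspec g).choose_spec.mul (hspec g').choose_spec)).trans (map_mul _ _ _).symm))
  have hψ : Function.Surjective ψ := fun b => by
    obtain ⟨g, hg, hga⟩ := hA (hBA b.2)
    exact ⟨⟨g, hg, b, b.2, hga⟩, Subtype.ext ((MulAut.congr e).injective
      ((hspec ⟨g, hg, b, b.2, hga⟩).choose_spec.unique hga))⟩
  let PH : Sylow p H := default
  have hPH : ∀ b : B, ∃ g ∈ (PH : Subgroup H), ψ g = b := by
    have htop : (PH.mapSurjective hψ : Subgroup B) = ⊤ :=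
      ((PH.mapSurjective hψ).3 (hBp.to_subgroup ⊤) le_top).symm
    intro b
    have h1 : b ∈ (PH.mapSurjective hψ : Subgroup B) := htop.ge (Subgroup.mem_top b)
    rw [Sylow.coe_mapSurjective] at h1
    exact h1
  let U₁ : Subgroup L.G := (PH : Subgroup H).map H.subtype
  have hU₁J : U₁ ≤ jSub K P₂ X₂ := by
    rintro _ ⟨g, -, rfl⟩
    exact g.2.1
  have hPQ₂ : P₂ ≤ endN S T P₂ (P₂ ⊔ X₂) := le_upN _
  have hU₁n : U₁ ≤ Subgroup.normalizer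
      (img L.ι (upV T P₂ (P₂ ⊔ X₂) (Nat.card S)) : Set L.G) := by
    intro g hg
    obtain ⟨⟨-, hgX⟩, -⟩ := hU₁J hg
    refine mem_normalizer_of_conj_mem (S := (⊤ : Subgroup L.G)) le_top ?_
    have hle : upV T P₂ (P₂ ⊔ X₂) (Nat.card S) ≤
        ((img L.ι (upV T P₂ (P₂ ⊔ X₂) (Nat.card S))).comap
          ((MulAut.conj g).toMonoidHom.comp L.ι)).map (normalizerIn S _).subtype := by
      have hq : endN S T P₂ (P₂ ⊔ X₂) ≤
          ((img L.ι (upV T P₂ (P₂ ⊔ X₂) (Nat.card S))).comap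
            ((MulAut.conj g).toMonoidHom.comp L.ι)).map (normalizerIn S _).subtype := fun q hq => by
        have h1 : g * L.ι ⟨q, hQN hq⟩ * g⁻¹ ∈
            img L.ι (upV T P₂ (P₂ ⊔ X₂) (Nat.card S)) := by
          rw [conj_ι_Q L g ⟨q, hq⟩]
          exact apply_mem_img (Subgroup.mem_sup_left (SetLike.coe_mem _))
        exact Subgroup.mem_map.2 ⟨⟨q, hQN hq⟩, Subgroup.mem_comap.2 h1, rfl⟩
      refine sup_le hq (sup_le (hPQ₂.trans hq) fun x hx => ?_)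
      have hxV : x ∈ upV T P₂ (P₂ ⊔ X₂) (Nat.card S) :=
        Subgroup.mem_sup_right (Subgroup.mem_sup_right hx)
      refine Subgroup.mem_map.2 ⟨⟨x, hVN hxV⟩, Subgroup.mem_comap.2 ?_, rfl⟩
      show g * L.ι ⟨x, hVN hxV⟩ * g⁻¹ ∈ _
      rw [← hgX (L.ι ⟨x, hVN hxV⟩) (apply_mem_img hx), mul_inv_cancel_right]
      exact apply_mem_img hxV
    rintro _ ⟨y, hy, rfl⟩
    obtain ⟨z, hz, hze⟩ := hle hy
    exact (show z = y from Subtype.ext hze) ▸ hz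
  have hUp : IsPGroup p (img L.ι (upV T P₂ (P₂ ⊔ X₂) (Nat.card S)) ⊔ U₁ : Subgroup L.G) :=
    (((isPGroup_of_le hS (normalizerIn_le_S _)).to_subgroup _).map L.ι).to_sup_of_normal_left'
      (PH.2.map _) hU₁n
  obtain ⟨T₁, hT₁⟩ := hUp.exists_le_sylow
  obtain ⟨Sy, hSy⟩ := L.syl
  obtain ⟨g₀, hg₀⟩ := MulAction.exists_smul_eq L.G T₁ Sy
  have hconj : ∀ x ∈ (img L.ι (upV T P₂ (P₂ ⊔ X₂) (Nat.card S)) ⊔ U₁ : Subgroup L.G),
      g₀ * x * g₀⁻¹ ∈ L.ι.range := fun x hx => by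
    rw [← hSy, ← hg₀, Sylow.coe_subgroup_smul]
    exact ⟨x, hT₁ hx, rfl⟩
  obtain ⟨φ, hφN, hφ, hφe⟩ := L.hom (upV T P₂ (P₂ ⊔ X₂) (Nat.card S)) hVN g₀
    fun x => hconj _ (Subgroup.mem_sup_left (apply_mem_img x.2))
  obtain ⟨f₅, hf₅, hf₅e⟩ := Mor.of_mem hφ
  have hW₂V : P₂ ⊔ X₂ ≤ upV T P₂ (P₂ ⊔ X₂) (Nat.card S) := le_sup_right
  have hφι : ∀ (z : Ω) (hz : z ∈ upV T P₂ (P₂ ⊔ X₂) (Nat.card S))
      (hz' : f₅ z ∈ normalizerIn S (endN S T P₂ (P₂ ⊔ X₂))),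
      L.ι ⟨f₅ z, hz'⟩ = g₀ * L.ι ⟨z, hVN hz⟩ * g₀⁻¹ := fun z hz hz' =>
    (congrArg L.ι (Subtype.ext (hf₅e ⟨z, hz⟩))).trans (hφe ⟨z, hz⟩)
  have hf₅N : ∀ z ∈ upV T P₂ (P₂ ⊔ X₂) (Nat.card S),
      f₅ z ∈ normalizerIn S (endN S T P₂ (P₂ ⊔ X₂)) := fun z hz =>
    Set.mem_of_eq_of_mem (hf₅e ⟨z, hz⟩) (hφN ⟨z, hz⟩)
  let ω := f₅ ∘ θ
  have hω : Mor F (P ⊔ X) ω := hR.mor.comp hf₅ fun x hx => hW₂V (hR.imW.mem hx)
  obtain ⟨X₅, hX₅⟩ := hω.exists_im (le_sup_right : X ≤ P ⊔ X)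
  obtain ⟨ωi, hωi, hωiX, hωi1, -⟩ := (hω.mono le_sup_right).exists_inv hX₅
  obtain ⟨ω', hω', hω'e⟩ := receptive_mor (N := centralizerIn S X₅)
    (receptive_of_fullyCentralized p hS hF hXc) hωi hωiX fun z hz =>
      ⟨hz.1, centralizer_le_normalizer' X₅ hz.2, 1, S.one_mem, fun x hx => by
        rw [conj_eq_of_mem_centralizerIn hz hx, one_mul, inv_one, mul_one]⟩
  have hωU : ∀ x ∈ P ⊔ X, ω x ∈ centralizerIn S X₅ ⊔ X₅ := mor_sup_le hω le_rfl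
    (fun y hy => Subgroup.mem_sup_left ⟨hω.mem_S (Subgroup.mem_sup_left hy), fun z hz => by
      obtain ⟨x, hx, rfl⟩ := hX₅.surj hz
      rw [← hω.map_mul (Subgroup.mem_sup_right hx) (Subgroup.mem_sup_left hy),
        ← hω.map_mul (Subgroup.mem_sup_left hy) (Subgroup.mem_sup_right hx)]
      exact congrArg ω ((hP.1 hy).2 x hx)⟩)
    fun y hy => Subgroup.mem_sup_right (hX₅.mem hy)
  have hg₅ : Mor F (P ⊔ X) (ω' ∘ ω) := hω.comp hω' hωU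
  have hg₅X : ∀ x ∈ X, (ω' ∘ ω) x = x := fun x hx =>
    (hω'e _ (hX₅.mem hx)).trans (hωi1 x hx)
  have hPC : P ≤ centralizerIn S X := fun y hy => ⟨hT.1 (hP.1 hy).1, (hP.1 hy).2⟩
  have hg₅G := mor_to_cent hXc.1 hPC hg₅ hg₅X
  obtain ⟨P₆, hP₆⟩ := hg₅G.exists_im (le_refl P)
  obtain ⟨e₆, he₆, he₆e⟩ := exists_isoIn hg₅G le_rfl hP₆
  haveI : Finite P₆ := finite_of_le (he₆.le_right.trans (centralizerIn_le_S X))
  haveI : Finite (MulAut P₆) := finite_mulAut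
  have hB6 : ∀ b ∈ B, MulAut.congr e₆ b ∈ autInducedBy (centralizerIn T X) P₆ := by
    intro b hb
    obtain ⟨g, hgPH, hgb⟩ := hPH ⟨b, hb⟩
    obtain ⟨⟨hgK, hgX⟩, -⟩ := g.2.1
    have hga : Acts L (P_le_normIn hinv hB₂) (g : L.G) (MulAut.congr e b) := by
      have h1 := (hspec g).choose_spec
      rwa [show (hspec g).choose = ⟨b, hb⟩ from hgb] at h1
    obtain ⟨⟨s, hsN⟩, hs⟩ := hconj g (Subgroup.mem_sup_right ⟨g, hgPH, rfl⟩)
    have hsT : s ∈ T := hK.mem' ⟨s, hsN⟩ (by rw [hs]; exact hK.normal.conj_mem _ hgK g₀)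
    have hsconj : ∀ z y : Ω, ∀ (hz : z ∈ upV T P₂ (P₂ ⊔ X₂) (Nat.card S))
        (hy : y ∈ upV T P₂ (P₂ ⊔ X₂) (Nat.card S)),
        (g : L.G) * L.ι ⟨z, hVN hz⟩ * (g : L.G)⁻¹ = L.ι ⟨y, hVN hy⟩ →
          s * f₅ z * s⁻¹ = f₅ y := by
      intro z y hz hy hzy
      have h1 : L.ι (⟨s, hsN⟩ * ⟨f₅ z, hf₅N z hz⟩ * ⟨s, hsN⟩⁻¹) = L.ι ⟨f₅ y, hf₅N y hy⟩ := by
        rw [map_mul, map_mul, map_inv, hs, hφι z hz, hφι y hy, ← hzy]
        group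
      exact congrArg Subtype.val (L.inj h1)
    have hsX : ∀ x ∈ X, s * ω x * s⁻¹ = ω x := fun x hx =>
      hsconj _ _ (hW₂V (Subgroup.mem_sup_right (hR.imX.mem hx)))
        (hW₂V (Subgroup.mem_sup_right (hR.imX.mem hx)))
        (mul_inv_eq_iff_eq_mul.2 (hgX _ (apply_mem_img (hR.imX.mem hx))).symm)
    have hsU : s ∈ centralizerIn S X₅ ⊔ X₅ := Subgroup.mem_sup_left ⟨hsN.1, fun z hz => by
      obtain ⟨x, hx, rfl⟩ := hX₅.surj hz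
      exact (mul_inv_eq_iff_eq_mul.1 (hsX x hx)).symm⟩
    refine mem_autInducedBy.2 ⟨ω' s, ⟨mor_apply_mem hT hω' hsU hsT, fun x hx => ?_⟩, fun y => ?_⟩
    · rw [← hg₅X x hx, Function.comp_apply, ← hω'.map_mul (hωU x (Subgroup.mem_sup_right hx)) hsU,
        ← hω'.map_mul hsU (hωU x (Subgroup.mem_sup_right hx))]
      exact congrArg ω' (mul_inv_eq_iff_eq_mul.1 (hsX x hx)).symm
    · obtain ⟨x, rfl⟩ := e₆.surjective y
      rw [congr_apply_apply, he₆e, he₆e, Function.comp_apply, Function.comp_apply,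
        ← hω'.map_conj hsU (hωU x (Subgroup.mem_sup_left x.2))]
      refine congrArg ω' ?_
      refine (hsconj _ _ (hW₂V (Subgroup.mem_sup_left (hR.imP.mem x.2)))
        (hW₂V (Subgroup.mem_sup_left (hR.imP.mem (b x).2))) ?_).symm
      have h1 := hga (e x)
      simp only [congr_apply_apply, he] at h1
      exact h1
  haveI : Finite (centralizerIn S X) := finite_of_le (centralizerIn_le_S X)
  have hGp : IsPGroup p (centralizerIn S X) := isPGroup_of_le hS (centralizerIn_le_S X)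
  have hGs := centralizerSystem_saturated p hS hF hXc (centSystem_spec F X hXc.1)
  obtain ⟨hfa, hrec⟩ := good_of_fullyNormalized p hGp hGs hn
  obtain ⟨φ₇, hφ₇, -, hφ₇m⟩ := exists_map_normalizer p hGp hfa hrec he₆.symm.isConj
  obtain ⟨f₇, hf₇, hf₇e⟩ := Mor.of_mem hφ₇
  have hP₆S : P₆ ≤ centralizerIn S X := he₆.le_right
  have hf₇P : Im f₇ P₆ P := fun y => by
    constructor
    · intro hy
      obtain ⟨x, hx, hxP, rfl⟩ := mem_map_subgroupOf.1 (hφ₇m.ge hy)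
      exact ⟨x, hxP, hf₇e ⟨x, hx⟩⟩
    · rintro ⟨x, hx, rfl⟩
      exact hφ₇m.le (mem_map_subgroupOf.2 ⟨x, le_normalizerIn hP₆S hx, hx, (hf₇e _).symm⟩)
  obtain ⟨e₇, -, he₇e⟩ := exists_isoIn hf₇ (le_normalizerIn hP₆S) hf₇P
  have hsub : B.map (MulAut.congr (e₆.trans e₇)).toMonoidHom ≤
      autInducedBy (centralizerIn T X) P := by
    rintro _ ⟨b, hb, rfl⟩
    show MulAut.congr (e₆.trans e₇) b ∈ _
    rw [congr_congr]
    obtain ⟨r, hr, hrb⟩ := mem_autInducedBy.1 (hB6 b hb)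
    have hrN : r ∈ normalizerIn (centralizerIn S X) P₆ :=
      ⟨⟨hT.1 hr.1, hr.2⟩, mem_normalizer_of_aut hrb⟩
    exact mem_autInducedBy.2 ⟨f₇ r, mor_apply_mem (stronglyClosed_cent hXc.1 hT) hf₇ hrN hr,
      congr_conj_apply hf₇ (le_normalizerIn hP₆S) he₇e hrN hrb⟩
  have hcard : Nat.card B ≤ Nat.card (autInducedBy (centralizerIn T X) P) :=
    (Subgroup.card_map_of_injective (MulEquiv.injective _)).ge.trans
      (Subgroup.card_le_of_le hsub)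
  exact (Subgroup.eq_of_le_of_card_ge hRB hcard).ge

end CfsgLib.Balance
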