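import Cfsg.Agent.Fusion.Meet.Dichotomy

/-!
Auxiliary facts for the balance theorem of fusion systems: growth inside `p`-groups, moving a
`p`-group of automorphisms into the conjugations, and membership in a normal subsystem read off at
a centric subgroup.
-/

set_option autoImplicit false
set_option linter.style.haveILetI false
set_option linter.unusedSectionVars false

open Cfsg Cfsg.FusionSystem CfsgLib.Fusion CfsgLib.FocCent CfsgLib.NormCent CfsgLib.NormExt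
open CfsgLib.Meet
open scoped commutatorElement

namespace CfsgLib.Balance

variable {Ω : Type*} [Group Ω] {S T : Subgroup Ω} {F : FusionSystem S} {E : FusionSystem T}
  {p : ℕ} [Fact p.Prime] [Finite S] (hS : IsPGroup p S)

include hS in
/-- A subgroup stable under `X` and not inside `B` has an element outside `B` whose commutators with
`X` lie in `B`. -/
theorem exists_growth {A B X : Subgroup Ω} (hA : A ≤ S) (hX : X ≤ S)
    (hXA : ∀ x ∈ X, ∀ a ∈ A, x * a * x⁻¹ ∈ A) (hne : ¬ A ≤ B) :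
    ∃ a ∈ A, a ∉ B ∧ ∀ x ∈ X, x * a * x⁻¹ * a⁻¹ ∈ B := by
  by_contra hcon
  push Not at hcon
  obtain ⟨n, hn⟩ := (Subgroup.isNilpotent_iff_lowerCentralSeries S).1 hS.isNilpotent
  have key : ∀ i, ∃ a ∈ A, a ∉ B ∧ a ∈ S.lowerCentralSeries i := by
    intro i
    induction i with
    | zero =>
      obtain ⟨a, ha, haB⟩ := SetLike.not_le_iff_exists.1 hne
      exact ⟨a, ha, haB, hA ha⟩
    | succ i ih =>
      obtain ⟨a, ha, haB, hai⟩ := ih
      obtain ⟨x, hx, hxB⟩ := hcon a ha haB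
      refine ⟨_, mul_mem (hXA x hx a ha) (inv_mem ha), hxB, ?_⟩
      rw [Subgroup.lowerCentralSeries_succ, Subgroup.commutator_comm]
      exact Subgroup.commutator_mem_commutator (hX hx) hai
  obtain ⟨a, -, haB, ha⟩ := key n
  rw [hn, Subgroup.mem_bot] at ha
  exact haB (ha ▸ one_mem B)

/-- The automorphisms fixing `B` pointwise and trivial modulo `B`. -/
def fixMod (B W : Subgroup Ω) : Subgroup (MulAut W) := fixAut B W ⊓ modStab B W

theorem isPGroup_fixMod {B W : Subgroup Ω} (hS : IsPGroup p S) (h : B ≤ W) (hW : W ≤ S) :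
    IsPGroup p (fixMod B W) := fun a => by
  obtain ⟨k, hk⟩ := exists_pow_eq_one_of_fix hS h hW (γ := (a : MulAut W)) a.2.1 a.2.2
  exact ⟨k, Subtype.ext hk⟩

theorem fixMod_conj {B W : Subgroup Ω} {α m : MulAut W}
    (hα : ∀ w : W, (w : Ω) ∈ B → ((α w : W) : Ω) ∈ B)
    (hα' : ∀ w : W, (w : Ω) ∈ B → ((α⁻¹ w : W) : Ω) ∈ B) (hm : m ∈ fixMod B W) :
    α * m * α⁻¹ ∈ fixMod B W :=
  ⟨fixAut_conj hα' hm.1, modStab_conj hα hm.2⟩

include hS in
/-- A `p`-group of automorphisms is carried into the conjugations at some fully normalized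
conjugate. -/
theorem exists_tw (hF : F.IsSaturated p) {W : Subgroup Ω} (hW : W ≤ S)
    {Pi : Subgroup (MulAut W)} (hp : IsPGroup p Pi) (hPF : Pi ≤ F.autGroup W) :
    ∃ (W' : Subgroup Ω) (e : W ≃* W'), F.IsFullyNormalized W' ∧ IsoIn F e ∧
      ∀ α ∈ Pi, MulAut.congr e α ∈ autInducedBy S W' := by
  obtain ⟨W', hc, hn⟩ := exists_fullyNormalized F hW
  obtain ⟨f, hf, hfi⟩ := isConj_iff_mor.1 hc
  obtain ⟨e, he, -⟩ := exists_isoIn hf le_rfl hfi
  haveI : Finite W' := finite_of_le hn.1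
  haveI : Finite (MulAut W') := finite_mulAut
  obtain ⟨⟨-, R, hR⟩, -⟩ := good_of_fullyNormalized p hS hF hn
  obtain ⟨T', hT'⟩ := ((hp.map (MulAut.congr e).toMonoidHom).comap_of_injective
    (F.autGroup W').subtype Subtype.val_injective).exists_le_sylow
  obtain ⟨c, hc⟩ := MulAction.exists_smul_eq (F.autGroup W') T' R
  refine ⟨W', e.trans (c : MulAut W'), hn, he.trans (isoIn_of_aut hn.1 c.2), fun α hα => ?_⟩
  have hm : MulAut.congr e α ∈ F.autGroup W' := he.congr_mem (hPF hα)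
  have h1 : c * ⟨MulAut.congr e α, hm⟩ * c⁻¹ ∈ (R : Subgroup (F.autGroup W')) := by
    rw [← hc, Sylow.coe_subgroup_smul]
    exact ⟨_, hT' (show ⟨MulAut.congr e α, hm⟩ ∈ _ from ⟨α, hα, rfl⟩), rfl⟩
  rw [hR] at h1
  rw [congr_congr, congr_eq_conj]
  exact Subgroup.mem_subgroupOf.1 h1

/-- An isomorphism onto a receptive subgroup carrying conjugations to conjugations extends. -/
theorem exists_ext_of_conj {W W' N : Subgroup Ω} (hW' : F.IsReceptive W') {e : W ≃* W'}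
    (he : IsoIn F e)
    (hN : ∀ g ∈ N, g ∈ S ∧ ∃ α : MulAut W, (∀ w : W, ((α w : W) : Ω) = g * w * g⁻¹) ∧
      MulAut.congr e α ∈ autInducedBy S W') :
    ∃ f, Mor F (N ⊔ W) f ∧ Im f W W' ∧ ∀ w : W, f w = ((e w : W') : Ω) := by
  obtain ⟨f₀, hf₀, hi, he₀⟩ := he.exists_mor
  obtain ⟨f, hf, hfe⟩ := receptive_mor hW' hf₀ hi fun g hg => by
    obtain ⟨hgS, α, hα, hαi⟩ := hN g hg
    obtain ⟨s, hs, hse⟩ := mem_autInducedBy.1 hαi
    refine ⟨hgS, mem_normalizer_of_aut hα, s, hs, fun x hx => ?_⟩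
    have h1 := hse (e ⟨x, hx⟩)
    rw [congr_apply_apply, ← he₀, ← he₀] at h1
    rw [← hα ⟨x, hx⟩]
    exact h1
  exact ⟨f, hf, hi.congr hfe, fun w => (hfe w w.2).trans (he₀ w)⟩

/-- A product of a member of a normal subsystem and a `p`-element, of order prime to `p`, lies in
the normal subsystem. -/
theorem mem_of_coprime_mul (hE : E.IsInvariantIn F) {P : Subgroup Ω} (hPT : P ≤ T)
    {b κ : MulAut P} (hb : b ∈ E.autGroup P) (hκF : κ ∈ F.autGroup P)
    (hκ : ∃ k : ℕ, κ ^ p ^ k = 1) (hco : (orderOf (b * κ)).Coprime p) :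
    b * κ ∈ E.autGroup P := by
  have hPS : P ≤ S := hPT.trans hE.2.1.1
  have hbF : b ∈ F.autGroup P := autGroup_mono' hE.1 P hb
  let B : Subgroup (F.autGroup P) := (E.autGroup P).subgroupOf (F.autGroup P)
  haveI : B.Normal := ⟨fun n hn g => Subgroup.mem_subgroupOf.2 (by
    show (g : MulAut P) * (n : MulAut P) * (g : MulAut P)⁻¹ ∈ E.autGroup P
    rw [← congr_eq_conj]
    exact autGroup_equiv hE hPT (isoIn_of_aut hPS g.2) hn)⟩
  obtain ⟨k, hk⟩ := hκ
  exact Subgroup.mem_subgroupOf.1 (mem_of_mul_pElement (p := p) (B := B) (b := ⟨b, hbF⟩)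
    (κ := ⟨κ, hκF⟩) (Subgroup.mem_subgroupOf.2 hb) ⟨k, Subtype.ext hk⟩
    (by rw [← Subgroup.orderOf_coe]; exact hco))

include hS in
/-- The normal case of `mem_of_centric_restrict`. -/
theorem mem_of_centric_restrict_normal (hE : E.IsWeaklyNormalIn F p)
    {P Q : Subgroup Ω} (hP : SelfCentralizingIn F T P) (hPQ : P ≤ Q)
    (hQ : Q ≤ normalizerIn T P) {b : MulAut Q} (hb : b ∈ F.autGroup Q)
    (hco : (orderOf b).Coprime p) {a : MulAut P} (hag : Agree hPQ b a) (ha : a ∈ E.autGroup P) :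
    b ∈ E.autGroup Q := by
  obtain ⟨hEs, -, hinv⟩ := hE
  have hQT : Q ≤ T := hQ.trans (normalizerIn_le_S P)
  have hTS : T ≤ S := hinv.2.1.1
  haveI : Finite T := finite_of_le hTS
  have hTp : IsPGroup p T := isPGroup_of_le hS hTS
  have hPT : P ≤ T := hP.1
  have hQS : Q ≤ S := hQT.trans hTS
  have ha' := (autGroup_carrier hPT).1 ha
  have hPc : E.IsFullyCentralized P := isFullyCentralized_of_centric
    ⟨hPT, fun R hR => hP.2 R (isConj_of_subsystem hinv.1 hR)⟩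
  have hconj : ∀ (w : Ω) (hw : w ∈ Q) (x : P) (hx : w * (x : Ω) * w⁻¹ ∈ P),
      ((a ⟨_, hx⟩ : P) : Ω) = (b ⟨w, hw⟩ : Q) * ((a x : P) : Ω) * ((b ⟨w, hw⟩ : Q) : Ω)⁻¹ := by
    intro w hw x hx
    rw [← hag ⟨_, hx⟩, ← hag x,
      show Subgroup.inclusion hPQ ⟨_, hx⟩ = ⟨w, hw⟩ * Subgroup.inclusion hPQ x * ⟨w, hw⟩⁻¹ from rfl,
      map_mul, map_mul, map_inv]
    rfl
  obtain ⟨χ, hχ, hχe⟩ := saturated_extend p hTp hEs ha' (by rw [range_subtype_comp]; exact hPc)
    (N := Q) (fun w hw => mem_extender_of ⟨hQT hw, (hQ hw).2⟩ (hQT (b ⟨w, hw⟩).2)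
      fun x hx => hconj w hw x hx)
  have hχF := hinv.1 Q hχ
  have hd : ∀ w : Q, ((b w : Q) : Ω)⁻¹ * χ w ∈ centralizerIn T P := by
    intro w
    refine ⟨mul_mem (T.inv_mem (hQT (b w).2)) (apply_mem_S hχ w),
      diff_mem_centralizer fun z hz => ?_⟩
    obtain ⟨x, hx⟩ := a.surjective ⟨z, hz⟩
    have hwx : (w : Ω) * x * (w : Ω)⁻¹ ∈ P := (Subgroup.mem_normalizer_iff.1 (hQ w.2).2 _).1 x.2
    rw [show z = ((a x : P) : Ω) from (congrArg Subtype.val hx).symm]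
    have h2 := hχe _ hwx (hPQ hwx)
    rw [show (⟨_, hPQ hwx⟩ : Q) = w * ⟨x, hPQ x.2⟩ * w⁻¹ from rfl, map_mul, map_mul, map_inv,
      hχe x x.2 (hPQ x.2)] at h2
    exact h2.trans (hconj w w.2 x hwx)
  have hC : centralizerIn T P ≤ P := centralizer_le_of_sc hP (hPT.trans hTS)
  have hχr : χ.range = Q := by
    refine eq_of_le_of_card_le hQS ?_ (card_range hχ).ge
    rintro _ ⟨w, rfl⟩
    have h := mul_mem (b w).2 (hPQ (hC (hd w)))
    rwa [mul_inv_cancel_left] at h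
  let c := autOfRange χ (E.injective_of_mem hχ) hχr
  have hc : c ∈ E.autGroup Q := autOfRange_mem hχ hχr
  have hcP : Agree hPQ c a := fun x => hχe x x.2 _
  have hκ1 : Agree hPQ (c⁻¹ * b) (1 : MulAut P) := by
    have h := hcP.inv.mul hag
    rwa [inv_mul_cancel] at h
  have hκd : ∀ w : Q, (w : Ω)⁻¹ * (((c⁻¹ * b) w : Q) : Ω) ∈ P := by
    intro w
    refine hC ⟨mul_mem (T.inv_mem (hQT w.2)) (hQT ((c⁻¹ * b) w).2),
      diff_mem_centralizer fun z hz => ?_⟩
    have hwz : (w : Ω) * z * (w : Ω)⁻¹ ∈ P := (Subgroup.mem_normalizer_iff.1 (hQ w.2).2 z).1 hz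
    have h1 := hκ1 ⟨_, hwz⟩
    rw [show Subgroup.inclusion hPQ ⟨_, hwz⟩ = w * Subgroup.inclusion hPQ ⟨z, hz⟩ * w⁻¹ from rfl,
      map_mul, map_mul, map_inv, Subgroup.coe_mul, Subgroup.coe_mul, InvMemClass.coe_inv,
      hκ1 ⟨z, hz⟩] at h1
    exact h1
  have h := mem_of_coprime_mul hinv hQT hc (mul_mem (inv_mem (autGroup_mono' hinv.1 Q hc)) hb)
    (exists_pow_eq_one_of_fix hS hPQ hQS (fun w hw => Subtype.ext (hκ1 ⟨w, hw⟩)) hκd)
    (by rwa [mul_inv_cancel_left])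
  rwa [mul_inv_cancel_left] at h

include hS in
/-- An automorphism of order prime to `p` lies in a weakly normal subsystem as soon as its
restriction to a centric subgroup does. -/
theorem mem_of_centric_restrict (hE : E.IsWeaklyNormalIn F p) :
    ∀ {P Q : Subgroup Ω}, SelfCentralizingIn F T P → ∀ (hPQ : P ≤ Q), Q ≤ T →
      ∀ {b : MulAut Q}, b ∈ F.autGroup Q → (orderOf b).Coprime p → ∀ {a : MulAut P},
      Agree hPQ b a → a ∈ E.autGroup P → b ∈ E.autGroup Q := by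
  suffices key : ∀ (d : ℕ) (P Q : Subgroup Ω), SelfCentralizingIn F T P → ∀ (hPQ : P ≤ Q),
      Q ≤ T → Nat.card Q - Nat.card P = d → ∀ b : MulAut Q, b ∈ F.autGroup Q →
      (orderOf b).Coprime p → ∀ a : MulAut P, Agree hPQ b a → a ∈ E.autGroup P →
      b ∈ E.autGroup Q from
    fun {P Q} hP hPQ hQ {b} hb hco {a} hag ha => key _ P Q hP hPQ hQ rfl b hb hco a hag ha
  intro d
  induction d using Nat.strong_induction_on with
  | _ d IH =>
  intro P Q hP hPQ hQT hd b hb hco a hag ha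
  have hQS : Q ≤ S := hQT.trans hE.2.2.2.1.1
  by_cases hn : Q ≤ normalizerIn T P
  · exact mem_of_centric_restrict_normal hS hE hP hPQ hn hb hco hag ha
  have hlt : P < Q := lt_of_le_of_ne hPQ fun e => hn (e ▸ le_normalizerIn hP.1)
  let P₁ := normalizerIn Q P
  have hP₁ : P < P₁ := lt_normalizerIn p hS hQS hlt
  have hP₁Q : P₁ ≤ Q := normalizerIn_le_S P
  haveI : Finite P₁ := finite_of_le (hP₁Q.trans hQS)
  obtain ⟨a₁, ha₁⟩ := exists_agree hP₁Q b fun w hw => by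
    refine ⟨(b w).2, mem_normalizer_of_conj_mem (hPQ.trans hQS) fun y hy => ?_⟩
    obtain ⟨q, hq⟩ := a.surjective ⟨y, hy⟩
    have h1 : (w : Ω) * (q : Ω) * (w : Ω)⁻¹ ∈ P :=
      (Subgroup.mem_normalizer_iff.1 hw.2 _).1 q.2
    have h2 := hag.map_mem (x := w * Subgroup.inclusion hPQ q * w⁻¹) h1
    rw [map_mul, map_mul, map_inv, Subgroup.coe_mul, Subgroup.coe_mul, InvMemClass.coe_inv,
      hag q, hq] at h2
    exact h2
  have hco₁ : (orderOf a₁).Coprime p := Nat.Coprime.coprime_dvd_left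
    (orderOf_dvd_of_pow_eq_one ((ha₁.pow _).eq_one (pow_orderOf_eq_one b))) hco
  have h₁ : a₁ ∈ E.autGroup P₁ := mem_of_centric_restrict_normal hS hE hP hP₁.le
    (fun x hx => ⟨hQT (hP₁Q hx), hx.2⟩) (ha₁.mem hQS hb) hco₁
    (fun x => (ha₁ (Subgroup.inclusion hP₁.le x)).symm.trans (hag x)) ha
  have hlt' : Nat.card P < Nat.card P₁ := card_lt_of_lt (hP₁Q.trans hQS) hP₁
  have hle' : Nat.card P₁ ≤ Nat.card Q := card_le_of_le hQS hP₁Q
  exact IH _ (by omega) P₁ Q (hP.mono hP₁.le (hP₁Q.trans hQT)) hP₁Q hQT rfl b hb hco a₁ ha₁ h₁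

end CfsgLib.Balance
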