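import Cfsg.Agent.Fusion.Balance.Sylow
import Cfsg.Agent.Fusion.Meet.Ext
import Cfsg.Agent.Fusion.Meet.Constricted

/-!
The family is stable under restriction and extension, so it generates a weakly normal subsystem
of the centralizer system which lies in the given normal subsystem.
-/

set_option autoImplicit false
set_option linter.style.haveILetI false
set_option linter.unusedSectionVars false

open Cfsg Cfsg.FusionSystem CfsgLib.Fusion CfsgLib.FocCent CfsgLib.NormCent CfsgLib.NormExt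
open CfsgLib.Meet

namespace CfsgLib.Balance

universe u

variable {Ω : Type u} [Group Ω] {S T P U W X : Subgroup Ω} {F : FusionSystem S}
  {E : FusionSystem T} {p : ℕ}

variable [Finite S] [Fact p.Prime] (hS : IsPGroup p S) (hF : F.IsSaturated p)
  (hXc : F.IsFullyCentralized X) (hEn : E.IsNormalIn F p)

include hS hF hXc hEn in
theorem balFam_base :
    IsInvBase (centSystem F X hXc.1) p (centralizerIn T X)
      (fun P => balFam F E p X hXc.1 P) where
  closed := stronglyClosed_cent hXc.1 hEn.1.2.2.2.1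
  le hP := balFam_le hS hF hXc hEn hP
  equiv _ he _ ha := balFam_equiv hXc.1 he ha
  inn hP := inn_le_balFam hXc.1 fun _ hy => ⟨hEn.1.2.2.2.1.1 (hP.1 hy).1, (hP.1 hy).2⟩
  sylow hP hn _ hB h1 h2 := (balFam_facts hS hF hXc hEn hP hn).2 _ hB h1 h2

include hS hF hXc hEn in
/-- The members of order prime to `p` are the expected ones. -/
theorem balFam_coprime (hP : SelfCentralizingIn (centSystem F X hXc.1) (centralizerIn T X) P)
    {a : MulAut P} (ha : a ∈ balFam F E p X hXc.1 P) (hco : (orderOf a).Coprime p) :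
    InA F E p P X a := by
  have hT := hEn.1.2.2.2.1
  have hR := stronglyClosed_cent (F := F) hXc.1 hT
  haveI : Finite (centralizerIn S X) := finite_of_le (centralizerIn_le_S X)
  have hGp : IsPGroup p (centralizerIn S X) := isPGroup_of_le hS (centralizerIn_le_S X)
  have hGs := centralizerSystem_saturated p hS hF hXc (centSystem_spec F X hXc.1)
  have hPG : P ≤ centralizerIn S X := hP.1.trans hR.1
  obtain ⟨Q, f, hQ, hf, hfi⟩ := exists_mor_normalizer hGp hGs hPG
  obtain ⟨e, he, -⟩ := exists_isoIn hf (le_normalizerIn hPG) hfi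
  have h1 := (balFam_facts hS hF hXc hEn (hP.of_isConj hR he.isConj) hQ).1 _
    (balFam_equiv hXc.1 he ha) (by rw [MulEquiv.orderOf_eq]; exact hco)
  obtain ⟨f', hf', hf'i, hf'e⟩ := he.symm.exists_mor
  obtain ⟨g, hg, hge, hgX⟩ := mor_of_cent hXc.1 hf'
  have h2 := h1.of_iso hg (hf'i.congr hge) ((im_id X).congr hgX) (e₀ := e.symm)
    fun x => ((hge x x.2).trans (hf'e x)).symm
  rwa [congr_symm_congr] at h2

include hS hF hEn in
/-- The lift at a large position of an automorphism of an overgroup decides the class of its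
restriction. -/
theorem lift_route (hp : Pair F T P (P ⊔ X)) (hB : Base S T U (U ⊔ X)) (hPU : P ≤ U)
    {γ : MulAut U} {a : MulAut P} (hag : Agree hPU γ a) {U' X' : Subgroup Ω} {θ : Ω → Ω}
    (hR : Reach F T U X U' X' θ) {e : U ≃* U'} (he : ∀ x : U, ((e x : U') : Ω) = θ x)
    {b : MulAut ↥(endN S T U' (U' ⊔ X'))} {f : Ω → Ω}
    (L : Lift F p T U' X' (MulAut.congr e γ) b f) :
    b ∈ E.autGroup (endN S T U' (U' ⊔ X')) ↔ InA F E p P X a := by
  have hT := hEn.1.2.2.2.1
  have hWU : P ⊔ X ≤ U ⊔ X := sup_le_sup_right hPU X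
  have hθ : Mor F (P ⊔ X) θ := hR.mor.mono hWU
  obtain ⟨P₀, hP₀⟩ := hθ.exists_im (le_sup_left : P ≤ P ⊔ X)
  obtain ⟨e₀, -, he₀⟩ := exists_isoIn hθ le_sup_left hP₀
  have hp₀ : Pair F T P₀ (P₀ ⊔ X') :=
    hp.image hT hθ le_rfl hP₀ (im_sup hθ le_rfl hP₀ hR.imX)
  have hB' := hB.reach hT hR
  have hP₀Q : P₀ ≤ endN S T U' (U' ⊔ X') := fun y hy => by
    obtain ⟨x, hx, rfl⟩ := hP₀.surj hy
    exact le_upN _ (hR.imP.mem (hPU hx))
  have hXQ : X' ≤ Subgroup.normalizer (endN S T U' (U' ⊔ X') : Set Ω) :=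
    (le_sup_right : X' ≤ U' ⊔ X').trans (hB'.le_normalizer_upN hT _)
  have hagree : Agree hP₀Q b (MulAut.congr e₀ a) := fun y => by
    obtain ⟨x, rfl⟩ := e₀.surjective y
    rw [congr_apply_apply, he₀, ← hag x, ← he, ← congr_apply_apply e γ, ← L.onP,
      he (Subgroup.inclusion hPU x), ← L.onEnd]
    show f _ = f _
    exact congrArg f (he₀ x)
  have hkey := key hS hF hEn.1 hp₀ hP₀Q (upN_le hB'.PT _) hXQ (GoodPos.sc hS hF hT hB' hR.good)
    (L.mor.mono (sup_le_sup_left (le_sup_right : X' ≤ U' ⊔ X') _)) L.fixX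
    (fun y => L.onEnd y) L.coprime hagree
  rw [hkey]
  constructor
  · intro h
    obtain ⟨t, ht, -, ht1, -⟩ := hθ.exists_inv (im_sup hθ le_rfl hP₀ hR.imX)
    have hti : ∀ {A A' : Subgroup Ω}, A ≤ P ⊔ X → Im θ A A' → Im t A' A := by
      intro A A' hA hi y
      constructor
      · exact fun hy => ⟨θ y, hi.mem hy, ht1 y (hA hy)⟩
      · rintro ⟨z, hz, rfl⟩
        obtain ⟨x, hx, rfl⟩ := hi.surj hz
        rw [ht1 x (hA hx)]
        exact hx
    have h2 := h.of_iso ht (hti le_sup_left hP₀) (hti le_sup_right hR.imX) (e₀ := e₀.symm)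
      fun y => by
        obtain ⟨x, rfl⟩ := e₀.surjective y
        rw [e₀.symm_apply_apply, he₀, ht1 x (Subgroup.mem_sup_left x.2)]
    rwa [congr_symm_congr] at h2
  · exact fun h => h.of_iso hθ hP₀ hR.imX he₀

include hS hF hXc hEn in
/-- The family is stable under restriction. -/
theorem balFam_restr (hP : SelfCentralizingIn (centSystem F X hXc.1) (centralizerIn T X) P)
    (hPU : P ≤ U) (hU : U ≤ centralizerIn T X) {γ : MulAut U}
    (hγ : γ ∈ balFam F E p X hXc.1 U) {a : MulAut P} (hag : Agree hPU γ a) :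
    a ∈ balFam F E p X hXc.1 P := by
  have hb := balFam_base hS hF hXc hEn
  have hR := hb.closed
  have hT := hEn.1.2.2.2.1
  haveI : Finite (centralizerIn S X) := finite_of_le (centralizerIn_le_S X)
  have hGp : IsPGroup p (centralizerIn S X) := isPGroup_of_le hS (centralizerIn_le_S X)
  have hUsc := hP.mono hPU hU
  haveI : Finite U := finite_of_le (hU.trans hR.1)
  haveI : Finite (MulAut U) := finite_mulAut
  obtain ⟨i, j, hi, ⟨k, hk⟩, hij⟩ := exists_parts p γ
  have haij : a ^ j * a ^ i = a := by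
    have h := (hag.pow j).mul (hag.pow i)
    rw [hij] at h
    exact agree_unique h hag
  rw [← haij]
  refine mul_mem ?_ ?_
  · obtain ⟨U', e, r, c, he, hr, hc, hce⟩ :=
      hb.exists_transport hGp hUsc (pow_mem hγ j) ⟨k, hk⟩
    obtain ⟨f, hf, hfi, hfe⟩ := he.symm.exists_mor
    obtain ⟨P', hP'⟩ := hf.exists_im hPU
    obtain ⟨e₀, he₀, he₀e⟩ := exists_isoIn hf hPU hP'
    have key' : ∀ y : P', ((MulAut.congr e₀ (a ^ j) y : P') : Ω) = r * (y : Ω) * r⁻¹ := by
      intro y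
      obtain ⟨x, rfl⟩ := e₀.surjective y
      have hx : Subgroup.inclusion hPU ((a ^ j) x) = (γ ^ j) (Subgroup.inclusion hPU x) :=
        Subtype.ext ((hag.pow j) x).symm
      rw [congr_apply_apply, he₀e, he₀e]
      have h1 := hfe (Subgroup.inclusion hPU ((a ^ j) x))
      refine h1.trans ?_
      rw [hx, ← hce]
      refine (congrArg Subtype.val (show e.symm (MulAut.congr e c (Subgroup.inclusion hPU x)) =
        c (e.symm (Subgroup.inclusion hPU x)) by simp)).trans ?_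
      rw [hc]
      exact congrArg (fun y => r * y * r⁻¹) (hfe (Subgroup.inclusion hPU x)).symm
    exact Subgroup.subset_closure (Or.inr ⟨P', e₀.symm, r, MulAut.congr e₀ (a ^ j), he₀.symm,
      ⟨hr.1, mem_normalizer_of_aut key'⟩, key', congr_symm_congr _ _⟩)
  · obtain ⟨-, U', X', θ, e, b, f, hReach, he, L, hbE⟩ :=
      balFam_coprime hS hF hXc hEn hUsc (pow_mem hγ i) hi
    exact Subgroup.subset_closure (Or.inl ((lift_route hS hF hEn (pair_of_sc hS hF hXc hT hP)
      (base_cent hXc.1 hT hU) hPU (hag.pow i) hReach he L).1 hbE))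

include hS hF hXc hEn in
/-- The extension of a `p`-element. -/
theorem balFam_ext_pElement
    (hP : SelfCentralizingIn (centSystem F X hXc.1) (centralizerIn T X) P)
    (hn : (centSystem F X hXc.1).IsFullyNormalized P) (hPW : P ≤ W)
    (hW : W ≤ normalizerIn (centralizerIn T X) P) {x : MulAut P}
    (hx : x ∈ balFam F E p X hXc.1 P)
    (hxW : ∀ β ∈ autInducedBy W P, x * β * x⁻¹ ∈ autInducedBy W P)
    (hp : ∃ k : ℕ, x ^ p ^ k = 1) : ∃ γ ∈ balFam F E p X hXc.1 W, Agree hPW γ x := by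
  classical
  have hb := balFam_base hS hF hXc hEn
  have hR := hb.closed
  haveI : Finite (centralizerIn S X) := finite_of_le (centralizerIn_le_S X)
  have hGp : IsPGroup p (centralizerIn S X) := isPGroup_of_le hS (centralizerIn_le_S X)
  have hGs := centralizerSystem_saturated p hS hF hXc (centSystem_spec F X hXc.1)
  have hPS : P ≤ centralizerIn S X := hn.1
  have hWR : W ≤ centralizerIn T X := hW.trans (normalizerIn_le_S P)
  have hWS : W ≤ centralizerIn S X := hWR.trans hR.1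
  have hc := fullyCentralized_of_fullyNormalized p hGp hGs hn
  haveI : Finite P := finite_of_le hPS
  haveI : Finite (MulAut P) := finite_mulAut
  obtain ⟨k, hk⟩ := hp
  have hxN : x ∈ Subgroup.normalizer ((autInducedBy W P : Subgroup (MulAut P)) : Set (MulAut P)) :=
    mem_normalizer_of_conj_mem (S := (⊤ : Subgroup (MulAut P))) le_top hxW
  have hB : IsPGroup p (autInducedBy W P ⊔ Subgroup.zpowers x : Subgroup (MulAut P)) :=
    (isPGroup_autInducedBy (isPGroup_of_le hGp hWS) P).to_sup_of_normal_left'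
      (isPGroup_zpowers hk) (Subgroup.zpowers_le.2 hxN)
  obtain ⟨g, hg, hgB⟩ := (hb.good hP hn).exists_conj_le hGp hb hB
    (sup_le ((autInducedBy_mono hWR P).trans (hb.inn hP)) (Subgroup.zpowers_le.2 hx))
  have hgF := (autGroup_carrier hPS).1 (hb.le hP hg)
  have hgw : ∀ w ∈ W, ∃ r ∈ centralizerIn T X, ∀ y : P, ∀ hy : w * (y : Ω) * w⁻¹ ∈ P,
      ((g ⟨w * y * w⁻¹, hy⟩ : P) : Ω) = r * ((g y : P) : Ω) * r⁻¹ := by
    intro w hw
    obtain ⟨c, hc'⟩ : ∃ c : MulAut P, ∀ y : P, ((c y : P) : Ω) = w * y * w⁻¹ :=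
      ⟨conjAut W P ⟨w, hw, (hW hw).2⟩, fun _ => rfl⟩
    obtain ⟨r, hr, hre⟩ := mem_autInducedBy.1
      (hgB c (Subgroup.mem_sup_left (mem_autInducedBy.2 ⟨w, hw, hc'⟩)))
    refine ⟨r, hr, fun y hy => ?_⟩
    have h1 := hre (g y)
    rw [MulAut.mul_apply, MulAut.mul_apply, MulAut.inv_apply_self] at h1
    rw [← h1, show (⟨w * (y : Ω) * w⁻¹, hy⟩ : P) = c y from Subtype.ext (hc' y).symm]
  have hWN : W ≤ normalizerIn (centralizerIn S X) P := fun w hw => ⟨hWS hw, (hW hw).2⟩
  obtain ⟨ψ, hψ, hψe⟩ := saturated_extend p hGp hGs hgF (by rw [range_subtype_comp]; exact hc)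
    (N := W) (fun w hw => by
      obtain ⟨r, hr, hre⟩ := hgw w hw
      exact mem_extender_of (hWN hw) (hR.1 hr) hre)
  obtain ⟨f, hf, hfe⟩ := Mor.of_mem hψ
  obtain ⟨W', hW'⟩ := hf.exists_im (le_refl W)
  obtain ⟨e, he, hee⟩ := exists_isoIn hf le_rfl hW'
  have hfP : ∀ y : P, f y = ((g y : P) : Ω) := fun y =>
    (hfe ⟨y, hPW y.2⟩).trans (hψe y y.2 _)
  have hPW' : P ≤ W' := fun y hy => by
    obtain ⟨z, hz⟩ := g.surjective ⟨y, hy⟩
    have h1 := hW'.mem (hPW z.2)
    rwa [hfP, hz] at h1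
  obtain ⟨r, hr, hre⟩ := mem_autInducedBy.1
    (hgB x (Subgroup.mem_sup_right (Subgroup.mem_zpowers x)))
  have hrN : r ∈ normalizerIn (centralizerIn T X) W' := by
    refine ⟨hr, mem_normalizer_of_conj_mem (hf.im_le_S le_rfl hW') fun y hy => ?_⟩
    obtain ⟨w, hw, rfl⟩ := hW'.surj hy
    obtain ⟨c, hc'⟩ : ∃ c : MulAut P, ∀ y : P, ((c y : P) : Ω) = w * y * w⁻¹ :=
      ⟨conjAut W P ⟨w, hw, (hW hw).2⟩, fun _ => rfl⟩
    obtain ⟨w', hw', hwe⟩ := mem_autInducedBy.1 (hxW c (mem_autInducedBy.2 ⟨w, hw, hc'⟩))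
    have hfR : ∀ v ∈ W, f v ∈ centralizerIn T X := fun v hv => mor_apply_mem hR hf hv (hWR hv)
    have h1 : (f w')⁻¹ * (r * f w * r⁻¹) ∈ centralizerIn (centralizerIn T X) P := by
      refine ⟨mul_mem ((centralizerIn T X).inv_mem (hfR w' hw'))
        (mul_mem (mul_mem hr (hfR w hw)) ((centralizerIn T X).inv_mem hr)),
        diff_mem_centralizer fun z hz => ?_⟩
      obtain ⟨q, hq⟩ := (g * x).surjective ⟨z, hz⟩
      have hzq : z = ((g (x q) : P) : Ω) := (congrArg Subtype.val hq).symm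
      have e1 : r * ((g q : P) : Ω) * r⁻¹ = ((g (x q) : P) : Ω) := by
        rw [← hre (g q)]
        simp [MulAut.mul_apply]
      have e2 : ∀ (v : Ω) (hv : v ∈ W) (y : P) (c : MulAut P),
          (∀ y : P, ((c y : P) : Ω) = v * y * v⁻¹) →
            f v * ((g y : P) : Ω) * (f v)⁻¹ = ((g (c y) : P) : Ω) := fun v hv y c hv' => by
        rw [← hfP, ← hf.map_conj hv (hPW y.2), ← hv' y, hfP]
      rw [hzq, e2 w' hw' (x q) (x * c * x⁻¹) hwe]
      rw [show (x * c * x⁻¹) (x q) = x (c q) by simp [MulAut.mul_apply], ← e1,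
        show (g (x (c q)) : P) = (g * x * g⁻¹) (g (c q)) by simp [MulAut.mul_apply],
        hre, ← e2 w hw q c hc']
      group
    have h2 := mul_mem (hW'.mem hw') (hPW' (centralizer_le_of_sc hP hPS h1))
    rwa [mul_inv_cancel_left] at h2
  let c : MulAut W' := conjAut (centralizerIn T X) W' ⟨r, hrN⟩
  have hcc : ∀ y : W', ((c y : W') : Ω) = r * y * r⁻¹ := fun _ => rfl
  refine ⟨MulAut.congr e.symm c,
    Subgroup.subset_closure (Or.inr ⟨W', e.symm, r, c, he.symm, hrN, hcc, rfl⟩), fun q => ?_⟩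
  refine hf.inj (MulAut.congr e.symm c (Subgroup.inclusion hPW q)).2 (hPW (x q).2) ?_
  rw [← hee, hfP]
  have e3 : e (MulAut.congr e.symm c (Subgroup.inclusion hPW q)) =
      c (e (Subgroup.inclusion hPW q)) := by simp
  rw [e3, hcc, hee, show f ((Subgroup.inclusion hPW q : W) : Ω) = ((g q : P) : Ω) from hfP q,
    ← hre (g q)]
  simp [MulAut.mul_apply]

include hS hF hXc hEn in
/-- The extension of an element of order prime to `p`. -/
theorem balFam_ext_coprime
    (hP : SelfCentralizingIn (centSystem F X hXc.1) (centralizerIn T X) P)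
    (hn : (centSystem F X hXc.1).IsFullyNormalized P) (hPW : P ≤ W)
    (hW : W ≤ normalizerIn (centralizerIn T X) P) {a : MulAut P}
    (ha : a ∈ balFam F E p X hXc.1 P)
    (haW : ∀ β ∈ autInducedBy W P, a * β * a⁻¹ ∈ autInducedBy W P)
    (hco : (orderOf a).Coprime p) : ∃ γ ∈ balFam F E p X hXc.1 W, Agree hPW γ a := by
  classical
  have hb := balFam_base hS hF hXc hEn
  have hR := hb.closed
  have hT := hEn.1.2.2.2.1
  haveI : Finite (centralizerIn S X) := finite_of_le (centralizerIn_le_S X)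
  have hGp : IsPGroup p (centralizerIn S X) := isPGroup_of_le hS (centralizerIn_le_S X)
  have hGs := centralizerSystem_saturated p hS hF hXc (centSystem_spec F X hXc.1)
  have hPS : P ≤ centralizerIn S X := hn.1
  have hWR : W ≤ centralizerIn T X := hW.trans (normalizerIn_le_S P)
  have hWS : W ≤ centralizerIn S X := hWR.trans hR.1
  have hc := fullyCentralized_of_fullyNormalized p hGp hGs hn
  have haF := (autGroup_carrier hPS).1 (hb.le hP ha)
  have hconj : ∀ w ∈ W, ∃ w' ∈ W, ∀ y : P, ∀ hy : w * (y : Ω) * w⁻¹ ∈ P,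
      ((a ⟨w * y * w⁻¹, hy⟩ : P) : Ω) = w' * ((a y : P) : Ω) * w'⁻¹ := by
    intro w hw
    obtain ⟨c, hc'⟩ : ∃ c : MulAut P, ∀ y : P, ((c y : P) : Ω) = w * y * w⁻¹ :=
      ⟨conjAut W P ⟨w, hw, (hW hw).2⟩, fun _ => rfl⟩
    obtain ⟨w', hw', hwe⟩ := mem_autInducedBy.1 (haW c (mem_autInducedBy.2 ⟨w, hw, hc'⟩))
    refine ⟨w', hw', fun y hy => ?_⟩
    have h1 := hwe (a y)
    rw [MulAut.mul_apply, MulAut.mul_apply, MulAut.inv_apply_self] at h1
    rw [← h1, show (⟨w * (y : Ω) * w⁻¹, hy⟩ : P) = c y from Subtype.ext (hc' y).symm]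
  obtain ⟨ψ, hψ, hψe⟩ := saturated_extend p hGp hGs haF (by rw [range_subtype_comp]; exact hc)
    (N := W) (fun w hw => by
      obtain ⟨w', hw', hwe⟩ := hconj w hw
      exact mem_extender_of ⟨hWS hw, (hW hw).2⟩ (hWS hw') hwe)
  obtain ⟨f, hf, hfe⟩ := Mor.of_mem hψ
  have hfP : ∀ y : P, f y = ((a y : P) : Ω) := fun y =>
    (hfe ⟨y, hPW y.2⟩).trans (hψe y y.2 _)
  have hfW : ∀ w ∈ W, f w ∈ W := by
    intro w hw
    obtain ⟨w', hw', hwe⟩ := hconj w hw
    have h1 : w'⁻¹ * f w ∈ centralizerIn (centralizerIn T X) P := by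
      refine ⟨mul_mem (Subgroup.inv_mem _ (hWR hw')) (mor_apply_mem hR hf hw (hWR hw)),
        diff_mem_centralizer fun z hz => ?_⟩
      obtain ⟨q, hq⟩ := a.surjective ⟨z, hz⟩
      have hzq : z = ((a q : P) : Ω) := (congrArg Subtype.val hq).symm
      subst hzq
      have hy : w * (q : Ω) * w⁻¹ ∈ P := (Subgroup.mem_normalizer_iff.1 (hW hw).2 _).1 q.2
      rw [← hwe q hy, ← hfP ⟨_, hy⟩, ← hfP q, hf.map_conj hw (hPW q.2)]
    have h2 := mul_mem hw' (hPW (centralizer_le_of_sc hP hPS h1))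
    rwa [mul_inv_cancel_left] at h2
  obtain ⟨β, hβ, hβe⟩ := exists_aut_of_self hf le_rfl hfW
  have hβP : Agree hPW β a := fun y => (hβe _).trans (hfP y)
  haveI : Finite W := finite_of_le hWS
  haveI : Finite (MulAut W) := finite_mulAut
  obtain ⟨n, hn1, hn2⟩ := ConstrainedNormal.exists_pow_coprime p β
  have hγP : Agree hPW (β ^ n) a := by
    have h := hβP.pow n
    rwa [hn2 a hco (orderOf_dvd_of_pow_eq_one ((hβP.pow _).eq_one (pow_orderOf_eq_one β)))] at h
  -- the lift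
  have hWsc := hP.mono hPW hWR
  have hpW := pair_of_sc hS hF hXc hT hWsc
  obtain ⟨f₁, hf₁, -, hf₁e⟩ := exists_mor_of_aut hWS (pow_mem hβ n)
  obtain ⟨g, hg, hge, hgX⟩ := mor_of_cent hXc.1 hf₁
  obtain ⟨θ, W', X', hR', -⟩ :=
    exists_reach hS hF hT hpW.toBase (N := ⊥) bot_le bot_le bot_le
  obtain ⟨e, -, he⟩ := exists_isoIn hR'.mor le_sup_left hR'.imP
  obtain ⟨t, ht, htW, ht1, -⟩ := hR'.mor.exists_inv hR'.imW
  have hgW : ∀ x ∈ W ⊔ X, g x ∈ W ⊔ X := mor_sup_le hg le_rfl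
    (fun x hx => Subgroup.mem_sup_left (Set.mem_of_eq_of_mem
      ((hge x hx).trans (hf₁e ⟨x, hx⟩)) (SetLike.coe_mem _)))
    fun x hx => Subgroup.mem_sup_right (Set.mem_of_eq_of_mem (hgX x hx) hx)
  have hco' : (orderOf (MulAut.congr e (β ^ n))).Coprime p := by
    rw [MulEquiv.orderOf_eq]; exact hn1
  obtain ⟨b, k, L⟩ := exists_lift hS hF hT (hpW.toBase.reach hT hR') hR'.good hco'
    (g := θ ∘ g ∘ t) ((ht.comp hg fun x hx => htW.mem hx).comp hR'.mor fun x hx => hgW _ (htW.mem hx))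
    (fun y hy => by
      obtain ⟨x, hx, rfl⟩ := hR'.imX.surj hy
      show θ (g (t (θ x))) = θ x
      rw [ht1 x (Subgroup.mem_sup_right hx), hgX x hx])
    fun y => by
      obtain ⟨x, rfl⟩ := e.surjective y
      rw [congr_apply_apply, he, he]
      show θ (g (t (θ x))) = _
      rw [ht1 x (Subgroup.mem_sup_left x.2), hge x x.2, hf₁e]
  refine ⟨β ^ n, Subgroup.subset_closure (Or.inl ⟨hn1, W', X', θ, e, b, k, hR', he, L,
    (lift_route hS hF hEn (pair_of_sc hS hF hXc hT hP) hpW.toBase hPW hγP hR' he L).2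
      (balFam_coprime hS hF hXc hEn hP ha hco)⟩), hγP⟩

include hS hF hXc hEn in
/-- The family has the extension property. -/
theorem balFam_ext (hP : SelfCentralizingIn (centSystem F X hXc.1) (centralizerIn T X) P)
    (hPW : P ≤ W) (hW : W ≤ normalizerIn (centralizerIn T X) P) {a : MulAut P}
    (ha : a ∈ balFam F E p X hXc.1 P)
    (haW : ∀ β ∈ autInducedBy W P, a * β * a⁻¹ ∈ autInducedBy W P) :
    ∃ γ ∈ balFam F E p X hXc.1 W, Agree hPW γ a := by
  classical
  have hb := balFam_base hS hF hXc hEn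
  have hR := hb.closed
  haveI : Finite (centralizerIn S X) := finite_of_le (centralizerIn_le_S X)
  have hGp : IsPGroup p (centralizerIn S X) := isPGroup_of_le hS (centralizerIn_le_S X)
  have hGs := centralizerSystem_saturated p hS hF hXc (centSystem_spec F X hXc.1)
  have hPS : P ≤ centralizerIn S X := hP.1.trans hR.1
  have hWR : W ≤ centralizerIn T X := hW.trans (normalizerIn_le_S P)
  obtain ⟨Q, f, hQ, hf, hfi⟩ := exists_mor_normalizer hGp hGs hPS
  have hWN : W ≤ normalizerIn (centralizerIn S X) P := fun x hx => ⟨hR.1 (hWR hx), (hW hx).2⟩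
  obtain ⟨W', hW'⟩ := hf.exists_im hWN
  obtain ⟨e, he, hee⟩ := exists_isoIn hf (le_normalizerIn hPS) hfi
  obtain ⟨e', he', he'e⟩ := exists_isoIn hf hWN hW'
  have hQW : Q ≤ W' := fun y hy => by
    obtain ⟨x, hx, rfl⟩ := hfi.surj hy
    exact hW'.mem (hPW hx)
  have hW'N : W' ≤ normalizerIn (centralizerIn T X) Q := fun y hy => by
    obtain ⟨x, hx, rfl⟩ := hW'.surj hy
    exact ⟨mor_apply_mem hR hf (hWN hx) (hWR hx),
      (hf.mem_normalizerIn (le_normalizerIn hPS) hfi (hWN hx) (hWN hx).2).2⟩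
  have hconj : ∀ β ∈ autInducedBy W' Q,
      MulAut.congr e a * β * (MulAut.congr e a)⁻¹ ∈ autInducedBy W' Q := by
    intro β hβ
    obtain ⟨y, hy, hye⟩ := mem_autInducedBy.1 hβ
    obtain ⟨w, hw, rfl⟩ := hW'.surj hy
    obtain ⟨c, hc'⟩ : ∃ c : MulAut P, ∀ z : P, ((c z : P) : Ω) = w * z * w⁻¹ :=
      ⟨conjAut W P ⟨w, hw, (hW hw).2⟩, fun _ => rfl⟩
    obtain ⟨w', hw', hwe⟩ := mem_autInducedBy.1 (haW c (mem_autInducedBy.2 ⟨w, hw, hc'⟩))
    have hβc : β = MulAut.congr e c := MulEquiv.ext fun z => Subtype.ext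
      ((hye z).trans (congr_conj_apply hf (le_normalizerIn hPS) hee (hWN hw) hc' z).symm)
    rw [hβc, ← map_mul, ← map_inv, ← map_mul]
    exact mem_autInducedBy.2 ⟨f w', hW'.mem hw',
      congr_conj_apply hf (le_normalizerIn hPS) hee (hWN hw') hwe⟩
  have hQsc := hP.of_isConj hR he.isConj
  haveI : Finite Q := finite_of_le hQ.1
  haveI : Finite (MulAut Q) := finite_mulAut
  let a' := MulAut.congr e a
  have ha' : a' ∈ balFam F E p X hXc.1 Q := balFam_equiv hXc.1 he ha
  obtain ⟨i, j, hi, hk, hij⟩ := exists_parts p a'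
  obtain ⟨γ₁, hγ₁, hγ₁a⟩ := balFam_ext_pElement hS hF hXc hEn hQsc hQ hQW hW'N (pow_mem ha' j)
    (pow_conj_mem hconj j) hk
  obtain ⟨γ₂, hγ₂, hγ₂a⟩ := balFam_ext_coprime hS hF hXc hEn hQsc hQ hQW hW'N (pow_mem ha' i)
    (pow_conj_mem hconj i) hi
  have hγ : Agree hQW (γ₁ * γ₂) a' := by
    have h := hγ₁a.mul hγ₂a
    rwa [hij] at h
  refine ⟨MulAut.congr e'.symm (γ₁ * γ₂),
    balFam_equiv hXc.1 he'.symm (mul_mem hγ₁ hγ₂), ?_⟩
  have h := agree_congr (e := e.symm) (E := e'.symm) (hPW := hQW) hPW (fun y => ?_) hγ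
  · rwa [congr_symm_congr] at h
  · obtain ⟨x, rfl⟩ := e.surjective y
    rw [e.symm_apply_apply,
      show Subgroup.inclusion hQW (e x) = e' (Subgroup.inclusion hPW x) from
        Subtype.ext ((hee x).trans (he'e (Subgroup.inclusion hPW x)).symm), e'.symm_apply_apply]
    rfl

include hS hF hXc hEn in
/-- **A weakly normal subsystem of the centralizer system over `C_T(X)` inside `E`.** -/
theorem exists_weaklyNormal_inside :
    ∃ H : FusionSystem (centralizerIn T X),
      H.IsWeaklyNormalIn (centSystem F X hXc.1) p ∧ H.IsSubsystemOf E := by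
  haveI : Finite (centralizerIn S X) := finite_of_le (centralizerIn_le_S X)
  have hGp : IsPGroup p (centralizerIn S X) := isPGroup_of_le hS (centralizerIn_le_S X)
  have hGs := centralizerSystem_saturated p hS hF hXc (centSystem_spec F X hXc.1)
  have h : IsInvMap (centSystem F X hXc.1) p (centralizerIn T X)
      (fun P => balFam F E p X hXc.1 P) :=
    { toIsInvBase := balFam_base hS hF hXc hEn
      restr := fun hPU hP hU _ hγ _ hag => balFam_restr hS hF hXc hEn hP hPU hU hγ hag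
      ext := fun hPW hP hW _ ha haW => balFam_ext hS hF hXc hEn hP hPW hW ha haW }
  exact ⟨genSystem (centSystem F X hXc.1) (fun P => balFam F E p X hXc.1 P) h.closed,
    genSystem_weaklyNormal hGp hGs h,
    genSystem_le h.closed E (fun _ hy => hy.1)
      (fun Q a hQ ha => balFam_le_E hS hF hXc hEn hQ ha) h.le⟩

end CfsgLib.Balance
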